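import Cfsg.Agent.Lib.CyclicOddSylow16.Types
import Mathlib

/-!
# Assembly of the bricks of S4069
-/

set_option autoImplicit false

namespace Cfsg.Agent.Lib.CyclicOddSylow16.Assemble

open Subgroup

universe u

/-- The simple case from the bricks. -/
theorem simpleClass (hFin : DihFinishStmt.{u}) (hFour : FourStmt.{u}) (hLarge : DihLargeStmt.{u})
    (hSol : SDSolvableStmt.{u}) (hNon : SDNonsolvableStmt.{u}) : SimpleClassStmt.{u} := by
  intro G _ _ hG
  haveI : Fact (Nat.Prime 2) := ⟨Nat.prime_two⟩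
  let S : Sylow 2 G := default
  rcases Types.dihOrSD hG S with ⟨n, hn, hS⟩ | hS
  · obtain ⟨e⟩ := id hS
    have hfix : NoFix G := by
      obtain ⟨k, hk⟩ := S.2.exists_card_eq
      rw [Nat.card_congr e.toEquiv, DihedralGroup.nat_card] at hk
      by_cases h4 : 4 ≤ n
      · exact hLarge G hG S n h4 hS
      · refine hFour G hG S ?_
        have hn2 : n = 2 := by
          have : n = 2 ∨ n = 3 := by omega
          rcases this with h | h
          · exact h
          · exfalso
            have hdvd : 3 ∣ 2 ^ k := ⟨2, by omega⟩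
            exact absurd (Nat.prime_three.dvd_of_dvd_pow hdvd) (by norm_num)
        subst hn2
        exact ⟨by rw [Nat.card_congr e.toEquiv, DihedralGroup.nat_card],
          (Monoid.exponent_eq_of_mulEquiv e).trans (by rw [DihedralGroup.exponent]; norm_num)⟩
    exact hFin G hG S n hn hS hfix
  · exfalso
    have hcard : 2 ∣ Nat.card (S : Subgroup G) := by
      obtain ⟨n, -, hc, -⟩ := hS
      rw [hc]
      exact dvd_pow_self 2 (by omega)
    haveI : Nontrivial (S : Subgroup G) := by
      rw [← Finite.one_lt_card_iff_nontrivial]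
      exact lt_of_lt_of_le one_lt_two (Nat.le_of_dvd Nat.card_pos hcard)
    haveI := S.2.center_nontrivial
    obtain ⟨z, hz⟩ := exists_prime_orderOf_dvd_card' (G := center (S : Subgroup G)) 2 (by
      obtain ⟨k, hk⟩ := (S.2.to_subgroup (center (S : Subgroup G))).exists_card_eq
      rcases k with _ | k
      · exact absurd (Finite.one_lt_card (α := center (S : Subgroup G))) (by omega)
      · rw [hk]; exact dvd_pow_self 2 (by omega))
    set t : G := ((z : (S : Subgroup G)) : G) with ht
    have ht2 : orderOf t = 2 := by rw [ht, Subgroup.orderOf_coe, Subgroup.orderOf_coe, hz]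
    have htS : t ∈ (S : Subgroup G) := (z : (S : Subgroup G)).2
    have hcent : ∀ s ∈ (S : Subgroup G), s * t = t * s := fun s hs =>
      congrArg Subtype.val (Subgroup.mem_center_iff.1 z.2 ⟨s, hs⟩)
    by_cases hsol : Group.IsSolvable (centralizer ({t} : Set G))
    · exact hSol G hG S hS t htS ht2 hcent hsol
    · exact hNon G hG S hS t htS ht2 hcent hsol

/-- The form of the statement. -/
theorem statement_of_main (hmain : MainStmt.{u}) {G : Type u} [Group G] [Finite G]
    (hns : ¬ Group.IsSolvable G) (hodd : ∀ p : ℕ, p.Prime → p ≠ 2 → ∀ P : Sylow p G, IsCyclic P)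
    (h2 : ∀ S : Sylow 2 G, ∃ C : Subgroup ↥(S : Subgroup G), IsCyclic C ∧ C.index ∣ 2) :
    ∃ G₀ : Subgroup G, G₀.Normal ∧ G₀.index ∣ 2 ∧
      ∃ X L : Subgroup ↥G₀, X.Normal ∧ L.Normal ∧ X ⊓ L = ⊥ ∧ X ⊔ L = ⊤ ∧ (Nat.card X).Coprime (Nat.card L) ∧
        Odd (Nat.card X) ∧ (∃ (C : Subgroup ↥X) (_ : C.Normal), IsCyclic C ∧ IsCyclic (↥X ⧸ C)) ∧
        ∃ (p : ℕ) (_ : Fact p.Prime), 5 ≤ p ∧
          (Nonempty (↥L ≃* PSL2 p) ∨ Nonempty (↥L ≃* SL2 p)) := by
  obtain ⟨X, L, hXn, hLn, hXodd, hco, -, hidx, p, hp, hp5, hiso⟩ := hmain G ⟨hodd, h2⟩ hns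
  refine ⟨X ⊔ L, inferInstance, hidx, ?_⟩
  have hX : X ≤ X ⊔ L := le_sup_left
  have hL : L ≤ X ⊔ L := le_sup_right
  let eX := subgroupOfEquivOfLe hX
  let eL := subgroupOfEquivOfLe hL
  have hcard : (Nat.card (X.subgroupOf (X ⊔ L))).Coprime (Nat.card (L.subgroupOf (X ⊔ L))) := by
    rwa [Nat.card_congr eX.toEquiv, Nat.card_congr eL.toEquiv]
  refine ⟨X.subgroupOf (X ⊔ L), L.subgroupOf (X ⊔ L), inferInstance, inferInstance,
    (Subgroup.disjoint_of_coprime_natCard hcard).eq_bot, ?_, hcard, ?_, ?_, p, hp, hp5, ?_⟩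
  · rw [← Subgroup.subgroupOf_sup hX hL, Subgroup.subgroupOf_self]
  · rwa [Nat.card_congr eX.toEquiv]
  · haveI hZ : IsZGroup X := ⟨fun q hq P => by
      haveI : Fact q.Prime := ⟨hq⟩
      by_cases hq2 : q = 2
      · subst hq2
        haveI : Subsingleton (P : Subgroup X) := by
          rw [← Finite.card_le_one_iff_subsingleton]
          obtain ⟨k, hk⟩ := P.2.exists_card_eq
          rcases k with _ | k
          · rw [hk, pow_zero]
          · exfalso
            refine (Nat.not_even_iff_odd.2 hXodd) (even_iff_two_dvd.2 ?_)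
            exact (hk ▸ dvd_pow_self 2 (Nat.succ_ne_zero k)).trans
              (Subgroup.card_subgroup_dvd_card (P : Subgroup X))
        infer_instance
      · obtain ⟨Q, hQ⟩ := (P.2.map X.subtype).exists_le_sylow
        haveI := hodd q hq hq2 Q
        exact isCyclic_of_injective ((Subgroup.inclusion hQ).comp
          ((P : Subgroup X).equivMapOfInjective X.subtype X.subtype_injective).toMonoidHom)
          ((Subgroup.inclusion_injective hQ).comp (MulEquiv.injective _))⟩
    haveI : IsZGroup (X.subgroupOf (X ⊔ L)) := IsZGroup.of_injective (f := eX.toMonoidHom) eX.injective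
    exact ⟨commutator _, inferInstance, IsZGroup.isCyclic_commutator _,
      IsZGroup.isCyclic_abelianization⟩
  · rcases hiso with h | h <;> obtain ⟨e⟩ := h
    · exact Or.inl ⟨eL.trans e⟩
    · exact Or.inr ⟨eL.trans e⟩

end Cfsg.Agent.Lib.CyclicOddSylow16.Assemble
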