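import Cfsg.Agent.Lib.CyclicOddSylow16.Spec
import Cfsg.Agent.Lib.LinGroup.Simple
import Cfsg.Agent.S2117
import Mathlib

/-!
# Perfect central extensions of `PSL₂(p)`
-/

set_option autoImplicit false

namespace Cfsg.Agent.Lib.CyclicOddSylow16.Cover16

open Subgroup
open scoped commutatorElement

universe u

/-- The derived subgroup of a central extension of a perfect group is perfect and maps onto it. -/
theorem derived_perfect {P S : Type*} [Group P] [Group S] (f : P →* S) (hf : Function.Surjective f)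
    (hc : f.ker ≤ center P) (hS : commutator S = ⊤) :
    (commutator P).map f = ⊤ ∧ ⁅commutator P, commutator P⁆ = commutator P := by
  have h1 : (commutator P).map f = ⊤ := by
    rw [commutator_def, Subgroup.map_commutator, Subgroup.map_top_of_surjective f hf,
      ← commutator_def, hS]
  refine ⟨h1, le_antisymm (commutator_mono le_top le_top) ?_⟩
  have hlift : ∀ g : P, ∃ d ∈ commutator P, ∃ z ∈ center P, g = d * z := by
    intro g
    obtain ⟨d, hd, hdg⟩ := (h1 ▸ mem_top (f g) : f g ∈ (commutator P).map f)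
    refine ⟨d, hd, d⁻¹ * g, hc ?_, by group⟩
    rw [MonoidHom.mem_ker, map_mul, map_inv, hdg, inv_mul_cancel]
  rw [commutator_def, Subgroup.commutator_le]
  intro a _ b _
  obtain ⟨d, hd, z, hz, rfl⟩ := hlift a
  obtain ⟨e, he, w, hw, rfl⟩ := hlift b
  have hzc : ∀ x, x * z = z * x := Subgroup.mem_center_iff.1 hz
  have hwc : ∀ x, x * w = w * x := Subgroup.mem_center_iff.1 hw
  have : ⁅d * z, e * w⁆ = ⁅d, e⁆ := by
    simp only [commutatorElement_def, mul_inv_rev]
    calc d * z * (e * w) * (z⁻¹ * d⁻¹) * (w⁻¹ * e⁻¹)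
        = d * (z * (e * w) * z⁻¹) * d⁻¹ * (w⁻¹ * e⁻¹) := by group
      _ = d * (e * w) * d⁻¹ * (w⁻¹ * e⁻¹) := by rw [← hzc (e * w), mul_inv_cancel_right]
      _ = d * e * (w * d⁻¹ * w⁻¹) * e⁻¹ := by group
      _ = d * e * d⁻¹ * e⁻¹ := by rw [← hwc d⁻¹, mul_inv_cancel_right]
  rw [this]
  exact commutator_mem_commutator hd he

/-- A perfect central extension of `PSL₂(p)` is a quotient of `SL₂(p)`. -/
theorem exists_surjective {p : ℕ} [Fact p.Prime] (hp : 5 ≤ p) {L : Type u} [Group L] [Finite L]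
    (σ : L →* PSL2 p) (hσ : Function.Surjective σ) (hc : σ.ker ≤ center L)
    (hL : commutator L = ⊤) :
    ∃ π : SL2 p →* L, Function.Surjective π ∧ π.ker ≤ center (SL2 p) := by
  have hperf : commutator (SL2 p) = ⊤ :=
    LinGroup.commutator_SL_fin_eq_top le_rfl fun _ => by rw [Nat.card_zmod]; omega
  let pr : SL2 p →* PSL2 p := QuotientGroup.mk' (center (SL2 p))
  let P : Subgroup (L × SL2 p) := (σ.comp (MonoidHom.fst L (SL2 p))).eqLocus (pr.comp (MonoidHom.snd L (SL2 p)))
  have memP : ∀ x : L × SL2 p, x ∈ P ↔ σ x.1 = pr x.2 := fun x => Iff.rfl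
  let f2 : P →* SL2 p := (MonoidHom.snd L (SL2 p)).comp P.subtype
  let f1 : P →* L := (MonoidHom.fst L (SL2 p)).comp P.subtype
  have hf2 : Function.Surjective f2 := fun s => by
    obtain ⟨l, hl⟩ := hσ (pr s)
    exact ⟨⟨(l, s), (memP _).2 hl⟩, rfl⟩
  have hf1 : Function.Surjective f1 := fun l => by
    obtain ⟨s, hs⟩ := QuotientGroup.mk'_surjective (center (SL2 p)) (σ l)
    exact ⟨⟨(l, s), (memP _).2 hs.symm⟩, rfl⟩
  have hk2 : f2.ker ≤ center P := by
    intro x hx
    have hx2 : (x : L × SL2 p).2 = 1 := hx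
    have hx1 : (x : L × SL2 p).1 ∈ center L := hc (by
      rw [MonoidHom.mem_ker, (memP _).1 x.2, hx2, map_one])
    refine Subgroup.mem_center_iff.2 fun y => Subtype.ext (Prod.ext ?_ ?_)
    · exact Subgroup.mem_center_iff.1 hx1 _
    · show (y : L × SL2 p).2 * (x : L × SL2 p).2 = (x : L × SL2 p).2 * (y : L × SL2 p).2
      rw [hx2, mul_one, one_mul]
  obtain ⟨hmap, hperfD⟩ := derived_perfect f2 hf2 hk2 hperf
  set D := commutator P with hD
  let g2 : D →* SL2 p := f2.comp D.subtype
  let g1 : D →* L := f1.comp D.subtype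
  have hg2 : Function.Surjective g2 := fun s => by
    obtain ⟨x, hx, hxs⟩ := (hmap ▸ mem_top s : s ∈ D.map f2)
    exact ⟨⟨x, hx⟩, hxs⟩
  have hg1 : Function.Surjective g1 := fun l => by
    have : D.map f1 = ⊤ := by
      rw [hD, commutator_def, Subgroup.map_commutator, Subgroup.map_top_of_surjective f1 hf1,
        ← commutator_def, hL]
    obtain ⟨x, hx, hxl⟩ := (this ▸ mem_top l : l ∈ D.map f1)
    exact ⟨⟨x, hx⟩, hxl⟩
  have hDD : commutator D = ⊤ := by
    rw [← (Subgroup.map_injective D.subtype_injective).eq_iff, Subgroup.map_subtype_commutator,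
      hperfD, ← MonoidHom.range_eq_map, Subgroup.range_subtype]
  -- a copy of `D` in `Type`
  let Γ := Shrink.{0} D
  let e : Γ ≃* D := Shrink.mulEquiv
  let h2 : Γ →* SL2 p := g2.comp e.toMonoidHom
  have hstem : Cfsg.IsStemExtension h2 := by
    refine ⟨hg2.comp e.surjective, fun x hx => ?_, ?_⟩
    · have hx' : ((e x : D) : P) ∈ f2.ker := hx
      refine Subgroup.mem_center_iff.2 fun y => e.injective ?_
      rw [map_mul, map_mul]
      exact Subtype.ext (Subgroup.mem_center_iff.1 (hk2 hx') _)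
    · have : commutator (Γ) = ⊤ := by
        rw [← (Subgroup.map_injective (f := e.toMonoidHom) e.injective).eq_iff, commutator_def,
          Subgroup.map_commutator, Subgroup.map_top_of_surjective _ e.surjective, ← commutator_def,
          hDD]
      rw [this]; exact le_top
  have hcard : Fintype.card (ZMod p) = p := ZMod.card p
  have hne9 : p ≠ 9 := fun h => by
    have := (Fact.out : p.Prime); rw [h] at this; exact absurd this (by norm_num)
  obtain ⟨ψ, hψ⟩ := (S2117.result (F := ZMod p) (by rw [hcard]; omega) (by rw [hcard]; exact hne9)).2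
    (Γ) h2 hstem
  have hinj : Function.Injective h2 := by
    rw [← MonoidHom.ker_eq_bot_iff, eq_bot_iff]
    intro x hx
    obtain ⟨a, ha⟩ := hψ ⟨x, hx⟩
    rw [Subgroup.mem_bot]
    have ha1 : a = 1 := Subsingleton.elim (α := ZMod 1) _ _
    rw [ha1, map_one] at ha
    exact (congrArg Subtype.val ha).symm
  have hg2i : Function.Injective g2 := fun a b h => by
    obtain ⟨a', rfl⟩ := e.surjective a
    obtain ⟨b', rfl⟩ := e.surjective b
    exact congrArg e (hinj h)
  let iso : D ≃* SL2 p := MulEquiv.ofBijective g2 ⟨hg2i, hg2⟩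
  refine ⟨g1.comp iso.symm.toMonoidHom, hg1.comp iso.symm.surjective, fun s hs => ?_⟩
  have h1 : g1 (iso.symm s) = 1 := hs
  have h2' : pr s = 1 := by
    have := (memP _).1 ((iso.symm s : D) : P).2
    rw [show ((((iso.symm s : D) : P)) : L × SL2 p).1 = 1 from h1, map_one] at this
    rw [this]
    exact congrArg pr (iso.apply_symm_apply s).symm
  exact (QuotientGroup.eq_one_iff s).1 h2'

end Cfsg.Agent.Lib.CyclicOddSylow16.Cover16
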