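import Cfsg.Prelude.Def_Characters
import Cfsg.Prelude.Def_CaseTheorems
import Cfsg.Prelude.Def_KGroupFacts
import Mathlib

/-!
# Groups with cyclic odd Sylow subgroups: interfaces of the bricks of S4069
-/

set_option autoImplicit false

namespace Cfsg.Agent.Lib.CyclicOddSylow16

open Subgroup

universe u

abbrev PSL2 (p : ℕ) [Fact p.Prime] : Type := Matrix.ProjectiveSpecialLinearGroup (Fin 2) (ZMod p)

abbrev SL2 (p : ℕ) [Fact p.Prime] : Type := Matrix.SpecialLinearGroup (Fin 2) (ZMod p)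

/-- Cyclic Sylow subgroups for odd primes. -/
def OddCyclic (G : Type u) [Group G] : Prop :=
  ∀ p : ℕ, p.Prime → p ≠ 2 → ∀ P : Sylow p G, IsCyclic P

/-- The hypotheses of S4069 other than non-solvability. -/
def Hyp (G : Type u) [Group G] : Prop :=
  OddCyclic G ∧ ∀ S : Sylow 2 G, ∃ C : Subgroup ↥(S : Subgroup G), IsCyclic C ∧ C.index ∣ 2

/-- The structure to be proved. -/
def Struct (G : Type u) [Group G] : Prop :=
  ∃ X L : Subgroup G, X.Normal ∧ L.Normal ∧ Odd (Nat.card X) ∧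
    (Nat.card X).Coprime (Nat.card L) ∧ (∀ x ∈ X, ∀ l ∈ L, x * l = l * x) ∧
    (X ⊔ L).index ∣ 2 ∧ ∃ (p : ℕ) (_ : Fact p.Prime), 5 ≤ p ∧
      (Nonempty (↥L ≃* PSL2 p) ∨ Nonempty (↥L ≃* SL2 p))

/-- The induction hypothesis on proper subgroups. -/
def StructBelow (G : Type u) [Group G] : Prop :=
  ∀ H : Subgroup G, H ≠ ⊤ → ¬ Group.IsSolvable H → Struct H

/-- The standing situation of the simple case. -/
structure Amb (G : Type u) [Group G] : Prop where
  simple : IsSimpleGroup G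
  nonab : ¬ IsMulCommutative G
  hyp : Hyp G
  below : StructBelow G

def IsPSLPrime (G : Type u) [Group G] : Prop :=
  ∃ (p : ℕ) (_ : Fact p.Prime), 5 ≤ p ∧ Nonempty (G ≃* PSL2 p)

def OneClass (G : Type u) [Group G] : Prop :=
  ∀ x y : G, orderOf x = 2 → orderOf y = 2 → IsConj x y

/-- `S` is dihedral (the four-group allowed) or quasi-dihedral. -/
def DihOrSD {G : Type u} [Group G] (S : Sylow 2 G) : Prop :=
  (∃ n : ℕ, 2 ≤ n ∧ Nonempty ((S : Subgroup G) ≃* DihedralGroup n)) ∨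
    Cfsg.IsQuasiDihedral (S : Subgroup G)

/-- No non-trivial element of odd order centralises a four-subgroup. -/
def NoFix (G : Type u) [Group G] : Prop :=
  ∀ V : Subgroup G, IsKleinFour V → ∀ x : G, Odd (orderOf x) → (∀ v ∈ V, v * x = x * v) → x = 1

/-! ## Reduction (brick Reduce) -/

def SimpleClassStmt : Prop :=
  ∀ (G : Type u) [Group G] [Finite G], Amb G → IsPSLPrime G

def MainStmt : Prop :=
  ∀ (G : Type u) [Group G] [Finite G], Hyp G → ¬ Group.IsSolvable G → Struct G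

/-! ## Common lemmas (brick Common) -/

def OneClassStmt : Prop :=
  ∀ (G : Type u) [Group G] [Finite G], Amb G → ∀ S : Sylow 2 G, DihOrSD S → OneClass G

def NoSylowStmt : Prop :=
  ∀ (G : Type u) [Group G] [Finite G], Amb G → ∀ S : Sylow 2 G,
    IsPGroup 2 (MulAut (S : Subgroup G)) → ∀ (x : G) (r : ℕ), r.Prime → r ≠ 2 → orderOf x = r →
      (∀ s ∈ (S : Subgroup G), s * x = x * s) → False

/-- Two commuting involutions acting on a group of odd order with cyclic Sylow subgroups: an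
`r`-element fixed by `t` and one fixed by `s` force an `r`-element fixed by both. -/
def TypeUniqueStmt : Prop :=
  ∀ (G : Type u) [Group G] [Finite G], OddCyclic G → ∀ (M : Subgroup G) (t s : G),
    Odd (Nat.card M) → orderOf t = 2 → orderOf s = 2 → t * s = s * t →
    (∀ m ∈ M, t * m * t⁻¹ ∈ M) → (∀ m ∈ M, s * m * s⁻¹ ∈ M) → ∀ r : ℕ, r.Prime →
    (∃ y ∈ M, orderOf y = r ∧ y * t = t * y) → (∃ z ∈ M, orderOf z = r ∧ z * s = s * z) →
      ∃ w ∈ M, orderOf w = r ∧ w * t = t * w ∧ w * s = s * w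

/-- Consequence: `M` is centralised by `t`. -/
def TypesTrivialStmt : Prop :=
  ∀ (G : Type u) [Group G] [Finite G], OddCyclic G → ∀ (M : Subgroup G) (t s : G),
    Odd (Nat.card M) → orderOf t = 2 → orderOf s = 2 → t * s = s * t → t ≠ s →
    (∀ m ∈ M, t * m * t⁻¹ ∈ M) → (∀ m ∈ M, s * m * s⁻¹ ∈ M) →
    (∀ w ∈ M, w * t = t * w → w * s = s * w → w = 1) →
    (∀ r : ℕ, r.Prime → (∃ z ∈ M, orderOf z = r ∧ (z * s = s * z ∨ z * (t * s) = t * s * z)) →
      ∃ y ∈ M, orderOf y = r ∧ y * t = t * y) →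
    ∀ m ∈ M, m * t = t * m

/-- A fixed-point-free action of a 2-group makes the group cyclic. -/
def ZAbelianStmt : Prop :=
  ∀ (G : Type u) [Group G] [Finite G], OddCyclic G → ∀ O A : Subgroup G,
    Odd (Nat.card O) → IsPGroup 2 A → A ≤ normalizer (O : Set G) →
    (∀ x ∈ O, (∀ a ∈ A, a * x = x * a) → x = 1) → IsCyclic O

/-- The 3-element permuting a four-subgroup. -/
def FusedStmt : Prop :=
  ∀ (G : Type u) [Group G] [Finite G], Amb G → ∀ S : Sylow 2 G, DihOrSD S →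
    ∀ V : Subgroup G, IsKleinFour V → ∃ f ∈ normalizer (V : Set G),
      f ∉ centralizer (V : Set G) ∧ f ^ 3 ∈ centralizer (V : Set G) ∧
      (∃ k : ℕ, orderOf f = 3 ^ k) ∧
      (8 ≤ Nat.card (S : Subgroup G) → ∀ x : G, (∀ c ∈ centralizer (V : Set G), c * x = x * c) →
        (∀ g ∈ normalizer (V : Set G), g * x * g⁻¹ ∈ zpowers x) → f * x = x * f)

def CommonStmt : Prop :=
  OneClassStmt.{u} ∧ NoSylowStmt.{u} ∧ TypeUniqueStmt.{u} ∧ TypesTrivialStmt.{u} ∧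
    ZAbelianStmt.{u} ∧ FusedStmt.{u}

/-! ## Facts about `PSL₂(p)` and `SL₂(p)` (brick Model) -/

/-- The torus order congruent to 2 modulo 4. -/
def tor2 (p : ℕ) : ℕ := if p % 4 = 1 then p + 1 else p - 1

/-- The torus order divisible by 4. -/
def tor4 (p : ℕ) : ℕ := if p % 4 = 1 then p - 1 else p + 1

def ModelPSLStmt : Prop :=
  ∀ (p : ℕ) [Fact p.Prime], 5 ≤ p →
    Nat.card (MulAut (PSL2 p)) = 2 * Nat.card (PSL2 p) ∧
    ∃ γ : MulAut (PSL2 p), (∀ g : PSL2 p, γ ≠ MulAut.conj g) ∧ γ * γ = 1 ∧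
      ∃ (y : PSL2 p) (r : ℕ), r.Prime ∧ r ≠ 2 ∧ orderOf y = r ∧ γ y = y ∧
        ∀ v : PSL2 p, orderOf v = 2 → ¬ r ∣ Nat.card (centralizer ({v} : Set (PSL2 p)))

def ModelSLStmt : Prop :=
  ∀ (p : ℕ) [Fact p.Prime], 5 ≤ p →
    Nat.card (MulAut (SL2 p)) = Nat.card (SL2 p) ∧
    Nat.card (SL2 p) = p * (p + 1) * (p - 1) ∧
    (∀ (β : MulAut (SL2 p)) (z x : SL2 p), z ∉ center (SL2 p) → x * z = z * x →
      (β z = z → β x = x) ∧ (β z = z⁻¹ → β x = x⁻¹)) ∧
    (∀ z : SL2 p, 2 < orderOf z → orderOf z ∣ tor2 p →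
      IsCyclic (centralizer ({z} : Set (SL2 p))) ∧
        Nat.card (centralizer ({z} : Set (SL2 p))) = tor2 p) ∧
    (∀ z : SL2 p, 2 < orderOf z → orderOf z ∣ tor4 p →
      IsCyclic (centralizer ({z} : Set (SL2 p))) ∧
        Nat.card (centralizer ({z} : Set (SL2 p))) = tor4 p) ∧
    ∀ (y : SL2 p) (r : ℕ), r.Prime → r ≠ 2 → orderOf y = r → r ∣ tor2 p →
      ∃ γ : MulAut (SL2 p), (∀ g : SL2 p, γ ≠ MulAut.conj g) ∧ γ * γ = 1 ∧ γ y = y

/-! ## The norm three argument (brick Theta) -/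

/-- The number of factorisations of `y` as a product of two involutions. -/
noncomputable def invPairs {G : Type u} [Group G] (y : G) : ℕ :=
  Nat.card {v : G // orderOf v = 2 ∧ orderOf (v * y) = 2}

/-- A norm three generalised character supported on a trivial intersection set avoiding the
involutions. -/
structure Sys (G : Type u) [Group G] [Fintype G] (t : G) where
  N : Subgroup G
  fN : Fintype N
  D : Set G
  θ : N → ℂ
  gen : Cfsg.IsGeneralizedCharacter N θ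
  supp : ∀ x : N, θ x ≠ 0 → (x : G) ∈ D
  ti : ∀ g y : G, y ∈ D → g * y * g⁻¹ ∈ D → g ∈ N
  one : θ 1 = 0
  norm : @Cfsg.classInner N _ fN θ θ = 3
  triv : @Cfsg.classInner N _ fN θ (fun _ => 1) = 1
  off : ∀ g : G, g * t * g⁻¹ ∉ D

/-- The weighted count of involution pairs. -/
noncomputable def Sys.count {G : Type u} [Group G] [Fintype G] {t : G} (Y₁ : Sys G t) : ℂ :=
  (Nat.card Y₁.N : ℂ)⁻¹ * ∑ᶠ x : Y₁.N, (invPairs (x : G) : ℂ) * Y₁.θ x

/-- The induced function of a system and the order equation. -/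
def ThetaExpandStmt : Prop :=
  ∀ (G : Type u) [Group G] [Fintype G] (t : G), orderOf t = 2 →
    (∀ v : G, orderOf v = 2 → IsConj v t) → ∀ Y₁ : Sys G t,
    ∃ (χ ψ : Cfsg.IrrCharacter G) (e e' α a : ℤ),
      (χ : G → ℂ) ≠ (fun _ => 1) ∧ (ψ : G → ℂ) ≠ (fun _ => 1) ∧ χ ≠ ψ ∧
      (e = 1 ∨ e = -1) ∧ (e' = 1 ∨ e' = -1) ∧
      (∀ g : G, Cfsg.indFun Y₁.N Y₁.θ g
        = 1 + (e : ℂ) * (χ : G → ℂ) g + (e' : ℂ) * (ψ : G → ℂ) g) ∧
      (e : ℂ) * (χ : G → ℂ) 1 = α ∧ (e' : ℂ) * (ψ : G → ℂ) 1 = -1 - (α : ℂ) ∧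
      (e : ℂ) * (χ : G → ℂ) t = a ∧ (e' : ℂ) * (ψ : G → ℂ) t = -1 - (a : ℂ) ∧
      Y₁.count * (Nat.card (centralizer ({t} : Set G)) : ℂ) ^ 2 * ((α : ℂ) * ((α : ℂ) + 1))
        = (Nat.card G : ℂ) * ((α : ℂ) - a) ^ 2

/-- Two systems with disjoint supports cannot have very different counts. -/
def TwoFalseStmt : Prop :=
  ∀ (G : Type u) [Group G] [Fintype G], IsSimpleGroup G → ¬ IsMulCommutative G →
    ∀ t : G, orderOf t = 2 → (∀ v : G, orderOf v = 2 → IsConj v t) → ∀ Y₁ Y₂ : Sys G t,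
    (∀ g y : G, y ∈ Y₁.D → g * y * g⁻¹ ∉ Y₂.D) → ∀ k₁ k₂ : ℕ, Y₁.count = k₁ → Y₂.count = k₂ →
    0 < k₂ → 2 * k₂ < k₁ → False

/-! ## Dihedral Sylow 2-subgroups -/

def DihFinishStmt : Prop :=
  ∀ (G : Type u) [Group G] [Finite G], Amb G → ∀ (S : Sylow 2 G) (n : ℕ), 2 ≤ n →
    Nonempty ((S : Subgroup G) ≃* DihedralGroup n) → NoFix G → IsPSLPrime G

def FourStmt : Prop :=
  ∀ (G : Type u) [Group G] [Finite G], Amb G → ∀ S : Sylow 2 G,
    IsKleinFour (S : Subgroup G) → NoFix G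

/-- The one configuration left when the Sylow 2-subgroup is dihedral of order eight. -/
structure EightConfig (G : Type u) [Group G] where
  S : Sylow 2 G
  σ : G
  τ : G
  e : G
  w : ℕ
  W : Subgroup G
  A : Subgroup G
  σ_mem : σ ∈ (S : Subgroup G)
  τ_mem : τ ∈ (S : Subgroup G)
  orderσ : orderOf σ = 4
  orderτ : orderOf τ = 2
  rel : τ * σ * τ⁻¹ = σ⁻¹
  gen : closure ({σ, τ} : Set G) = (S : Subgroup G)
  card_S : Nat.card (S : Subgroup G) = 8
  card_C : Nat.card (centralizer ({σ ^ 2} : Set G)) = 8 * w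
  card_Cτ : Nat.card (centralizer ({σ ^ 2, τ} : Set G)) = 4 * w
  card_Cστ : Nat.card (centralizer ({σ ^ 2, σ * τ} : Set G)) = 4
  three_le : 3 ≤ w
  odd_w : Odd w
  W_le : W ≤ A
  card_W : Nat.card W = w
  card_A : Nat.card A = 3 * w
  cyclic_A : IsCyclic A
  order_e : orderOf e = 2
  inverts : ∀ a ∈ A, e * a * e⁻¹ = a⁻¹
  cent : ∀ a ∈ A, a ∉ W → centralizer ({a} : Set G) = A
  normalizer_A : normalizer (A : Set G) = A ⊔ zpowers e

def EightConfigFalseStmt : Prop :=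
  ∀ (G : Type u) [Group G] [Finite G], Amb G → ∀ _ : EightConfig G, False

def DihLargeStmt : Prop :=
  ∀ (G : Type u) [Group G] [Finite G], Amb G → ∀ (S : Sylow 2 G) (n : ℕ), 4 ≤ n →
    Nonempty ((S : Subgroup G) ≃* DihedralGroup n) → NoFix G

/-! ## Quasi-dihedral Sylow 2-subgroups -/

def SDSolvableStmt : Prop :=
  ∀ (G : Type u) [Group G] [Finite G], Amb G → ∀ S : Sylow 2 G,
    Cfsg.IsQuasiDihedral (S : Subgroup G) → ∀ t : G, t ∈ (S : Subgroup G) → orderOf t = 2 →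
    (∀ s ∈ (S : Subgroup G), s * t = t * s) →
    Group.IsSolvable (centralizer ({t} : Set G)) → False

def SDNonsolvableStmt : Prop :=
  ∀ (G : Type u) [Group G] [Finite G], Amb G → ∀ S : Sylow 2 G,
    Cfsg.IsQuasiDihedral (S : Subgroup G) → ∀ t : G, t ∈ (S : Subgroup G) → orderOf t = 2 →
    (∀ s ∈ (S : Subgroup G), s * t = t * s) →
    ¬ Group.IsSolvable (centralizer ({t} : Set G)) → False

end Cfsg.Agent.Lib.CyclicOddSylow16
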