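import Mathlib
import Cfsg.Agent.Lib.CyclicOddSylow16.Spec
import Cfsg.Agent.Lib.BSW.DihedralCore
import Cfsg.Agent.Lib.DihedralTransfer.Basic
import Cfsg.Agent.Lib.PSolvable.Core
import Cfsg.Agent.Lib.Perm.ProjCongr
import Cfsg.Agent.Lib.Burnside.Paqb
import Cfsg.Agent.Lib.SymplecticType.Basic
import Cfsg.Agent.S0508
import Cfsg.Agent.S0514

/-!
# Brick DihFinish of S4069

Dihedral Sylow 2-subgroups and no odd element centralising a four-subgroup: the hypotheses of
S0508 hold, so the group is `PSL₂(F)`, and a cyclic Sylow subgroup in the defining characteristic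
forces `F` to be a prime field.
-/

set_option autoImplicit false
set_option linter.style.haveILetI false

namespace Cfsg.Agent.Lib.CyclicOddSylow16

open Subgroup

universe u

namespace DihFinish

variable {G : Type u} [Group G] [Finite G]

omit [Finite G] in
/-- An element of odd order lies in every normal subgroup of `2`-power index. -/
theorem mem_of_index_two_pow (N : Subgroup G) [N.Normal] {k : ℕ} (hN : N.index = 2 ^ k) {x : G}
    (hx : Odd (orderOf x)) : x ∈ N := by
  have h1 : x ^ (2 ^ k) ∈ N := hN ▸ N.pow_index_mem x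
  obtain ⟨m, hm⟩ := exists_pow_eq_self_of_coprime (x := x) (n := 2 ^ k)
    ((Nat.coprime_two_left.mpr hx).pow_left k)
  rw [← hm]
  exact pow_mem h1 m

omit [Finite G] in
/-- An element of odd order equal to its inverse is trivial. -/
theorem eq_one_of_inv_eq {x : G} (hx : Odd (orderOf x)) (h : x⁻¹ = x) : x = 1 := by
  rw [← orderOf_eq_one_iff]
  have h2 : orderOf x ∣ 2 := orderOf_dvd_of_pow_eq_one (by
    rw [pow_two]; nth_rw 1 [← h]; exact inv_mul_cancel x)
  rcases (Nat.dvd_prime Nat.prime_two).mp h2 with h' | h'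
  · exact h'
  · rw [h'] at hx
    exact absurd hx (by decide)

/-- Two commuting involutions generate a four-group; an odd element commuting with both is
trivial. -/
theorem eq_one_of_two (hNF : NoFix G) {a b y : G} (ha : orderOf a = 2) (hb : orderOf b = 2)
    (hne : a ≠ b) (hab : a * b = b * a) (hy : Odd (orderOf y)) (hya : y * a = a * y)
    (hyb : y * b = b * y) : y = 1 := by
  classical
  haveI := Fintype.ofFinite G
  set V := closure ({a, b} : Set G)
  have ha2 : a * a = 1 := by rw [← pow_two, ← ha, pow_orderOf_eq_one]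
  have hb2 : b * b = 1 := by rw [← pow_two, ← hb, pow_orderOf_eq_one]
  have ha1 : a ≠ 1 := fun h => by rw [h, orderOf_one] at ha; omega
  have hb1 : b ≠ 1 := fun h => by rw [h, orderOf_one] at hb; omega
  have hab' : ∀ x : G, a * (b * x) = b * (a * x) := fun x => by
    rw [← mul_assoc, hab, mul_assoc]
  have hai : a⁻¹ = a := inv_eq_of_mul_eq_one_right ha2
  have hbi : b⁻¹ = b := inv_eq_of_mul_eq_one_right hb2
  have ha2' : ∀ x : G, a * (a * x) = x := fun x => by rw [← mul_assoc, ha2, one_mul]
  have hb2' : ∀ x : G, b * (b * x) = x := fun x => by rw [← mul_assoc, hb2, one_mul]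
  have hVeq : (V : Set G) = {1, a, b, a * b} := by
    apply Set.Subset.antisymm
    · intro x hx
      induction hx using closure_induction with
      | mem x hx => rcases hx with rfl | rfl <;> simp
      | one => simp
      | mul x y _ _ hx hy =>
        simp only [Set.mem_insert_iff, Set.mem_singleton_iff] at hx hy ⊢
        rcases hx with rfl | rfl | rfl | rfl <;> rcases hy with rfl | rfl | rfl | rfl <;>
          simp [mul_assoc, ha2, hb2, hb2', hab', hab]
      | inv x _ hx =>
        simp only [Set.mem_insert_iff, Set.mem_singleton_iff] at hx ⊢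
        rcases hx with rfl | rfl | rfl | rfl <;> simp [hai, hbi, hab]
    · intro x hx
      simp only [Set.mem_insert_iff, Set.mem_singleton_iff] at hx
      rcases hx with rfl | rfl | rfl | rfl
      · exact one_mem V
      · exact subset_closure (by simp)
      · exact subset_closure (by simp)
      · exact mul_mem (subset_closure (by simp)) (subset_closure (by simp))
  have hn1 : a * b ≠ 1 := fun h => hne (hai.symm.trans (inv_eq_of_mul_eq_one_right h))
  have hn2 : a * b ≠ a := fun h => hb1 (mul_eq_left.mp h)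
  have hn3 : a * b ≠ b := fun h => ha1 (mul_eq_right.mp h)
  have hcard : Nat.card V = 4 := by
    rw [← SetLike.coe_sort_coe, Nat.card_coe_set_eq, hVeq]
    rw [Set.ncard_insert_of_notMem, Set.ncard_insert_of_notMem, Set.ncard_insert_of_notMem,
      Set.ncard_singleton] <;>
      simp [ha1.symm, hb1.symm, hne, hn1.symm, hn2.symm, hn3.symm]
  have hexp : Monoid.exponent V = 2 := by
    refine (Nat.prime_def.mp Nat.prime_two).2 _ (Monoid.exponent_dvd_of_forall_pow_eq_one
      fun v => ?_) |>.resolve_left fun h => ?_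
    · apply Subtype.ext
      have hv : (v : G) ∈ (V : Set G) := v.2
      rw [hVeq] at hv
      simp only [Set.mem_insert_iff, Set.mem_singleton_iff] at hv
      push_cast
      rw [pow_two]
      rcases hv with h | h | h | h <;> rw [h] <;>
        simp [mul_assoc, ha2, hb2, hab', hab]
    · have := Monoid.pow_exponent_eq_one (⟨a, subset_closure (by simp)⟩ : V)
      rw [h, pow_one] at this
      exact ha1 (congrArg Subtype.val this)
  haveI : IsKleinFour V := ⟨hcard, hexp⟩
  refine hNF V inferInstance y hy fun v hv => ?_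
  have hv' : v ∈ (V : Set G) := hv
  rw [hVeq] at hv'
  simp only [Set.mem_insert_iff, Set.mem_singleton_iff] at hv'
  rcases hv' with rfl | rfl | rfl | rfl
  · simp
  · exact hya.symm
  · exact hyb.symm
  · rw [mul_assoc, ← hyb, ← mul_assoc, ← hya, mul_assoc]

/-- In a group with cyclic odd Sylow subgroups two commuting elements of the same odd prime
order generate the same subgroup. -/
theorem mem_zpowers_of_commute (hG : OddCyclic G) {q : ℕ} (hq : q.Prime) (hq2 : q ≠ 2) {y z : G}
    (hy : orderOf y = q) (hz : orderOf z = q) (hc : y * z = z * y) : z ∈ zpowers y := by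
  haveI : Fact q.Prime := ⟨hq⟩
  have hY : IsPGroup q (zpowers y) := IsPGroup.of_card (n := 1) (by rw [Nat.card_zpowers, hy, pow_one])
  have hZ : IsPGroup q (zpowers z) := IsPGroup.of_card (n := 1) (by rw [Nat.card_zpowers, hz, pow_one])
  have hnorm : zpowers z ≤ normalizer (zpowers y : Set G) := by
    rw [zpowers_le]
    refine mem_normalizer_fintype fun n hn => ?_
    rw [SetLike.mem_coe] at hn ⊢
    obtain ⟨i, rfl⟩ := mem_zpowers_iff.mp hn
    refine mem_zpowers_iff.mpr ⟨i, ?_⟩
    have hcz : Commute z (y ^ i) := Commute.zpow_right (show Commute z y from hc.symm) i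
    rw [hcz.eq, mul_inv_cancel_right]
  obtain ⟨P, hP⟩ := (hY.to_sup_of_normal_left' hZ hnorm).exists_le_sylow
  exact SymplecticType.mem_zpowers_of_pow_eq_one (hG q hq hq2 P)
    (hP (mem_sup_right (mem_zpowers z))) (hP (mem_sup_left (mem_zpowers y)))
    (hz ▸ pow_orderOf_eq_one z) (hy ▸ pow_orderOf_eq_one y)
    (fun h => hq.ne_one (by rw [← hy, h, orderOf_one]))

/-- The upper unitriangular subgroup of `PSL₂`. -/
noncomputable def uni (F : Type) [Field F] :
    Multiplicative F →* Matrix.ProjectiveSpecialLinearGroup (Fin 2) F :=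
  (QuotientGroup.mk' _).comp
    (MonoidHom.mk' (fun x => (⟨!![1, Multiplicative.toAdd x; 0, 1], by simp [Matrix.det_fin_two]⟩ :
      Matrix.SpecialLinearGroup (Fin 2) F)) (fun x y => by
        apply Subtype.ext
        show !![1, Multiplicative.toAdd x + Multiplicative.toAdd y; 0, 1] =
          !![1, Multiplicative.toAdd x; 0, 1] * !![1, Multiplicative.toAdd y; 0, 1]
        simp [add_comm]))

theorem uni_injective (F : Type) [Field F] : Function.Injective (uni F) := by
  rw [← MonoidHom.ker_eq_bot_iff, eq_bot_iff]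
  intro x hx
  rw [MonoidHom.mem_ker, uni, MonoidHom.comp_apply, QuotientGroup.mk'_apply,
    QuotientGroup.eq_one_iff, Matrix.SpecialLinearGroup.mem_center_iff] at hx
  obtain ⟨r, _, hr⟩ := hx
  change (Matrix.scalar (Fin 2)) r = !![1, Multiplicative.toAdd x; 0, 1] at hr
  have h01 := congrFun (congrFun hr 0) 1
  simp at h01
  rw [mem_bot]
  exact Multiplicative.toAdd.injective (by simpa using h01.symm)

end DihFinish

open DihFinish in
/-- Dihedral Sylow 2-subgroups, no odd element centralising a four-subgroup: `G ≅ PSL₂(p)`. -/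
theorem dihFinish (hC : CommonStmt.{u}) : DihFinishStmt.{u} := by
  intro G _ _ hA S n hn hS hNF
  obtain ⟨hOne, -, -, hTT, -, -⟩ := hC
  haveI := hA.simple
  haveI : Fact (Nat.Prime 2) := ⟨Nat.prime_two⟩
  haveI : NeZero n := ⟨by omega⟩
  obtain ⟨e⟩ := hS
  have hone : OneClass G := hOne G hA S (Or.inl ⟨n, hn, ⟨e⟩⟩)
  -- a central involution of `S`
  haveI : Nontrivial (S : Subgroup G) := e.toEquiv.nontrivial
  haveI : Nontrivial (center (S : Subgroup G)) := S.2.center_nontrivial
  obtain ⟨⟨z, hzc⟩, hz⟩ := exists_prime_orderOf_dvd_card' 2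
    ((S.2.to_subgroup (center (S : Subgroup G))).card_eq_or_dvd.resolve_left Finite.one_lt_card.ne')
  set t : G := (z : G) with htdef
  have htS : t ∈ (S : Subgroup G) := z.2
  have ht : orderOf t = 2 := by
    rw [htdef, Subgroup.orderOf_coe]
    exact (Subgroup.orderOf_coe _).trans hz
  have htZ : ∀ s ∈ (S : Subgroup G), s * t = t * s := fun s hs =>
    congrArg Subtype.val (mem_center_iff.mp hzc ⟨s, hs⟩)
  have ht2 : t * t = 1 := by rw [← pow_two, ← ht, pow_orderOf_eq_one]
  obtain ⟨R, hRS, hRc, hRi, htR⟩ := BSW.exists_cyclic_index_two hn e ht htS htZ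
  have hRi' : (R.subgroupOf (S : Subgroup G)).index = 2 := hRi
  have hmul : ∀ a ∈ (S : Subgroup G), ∀ b ∈ (S : Subgroup G), (a * b ∈ R ↔ (a ∈ R ↔ b ∈ R)) := by
    intro a ha b hb
    have := Subgroup.mul_mem_iff_of_index_two hRi' (a := ⟨a, ha⟩) (b := ⟨b, hb⟩)
    simpa [mem_subgroupOf] using this
  have hinvo : ∀ d ∈ (S : Subgroup G), d ∉ R → orderOf d = 2 := fun d hd hdR =>
    DihedralTransfer.dihedral_involution hn e hRS hRc hRi hd hdR
  obtain ⟨d, hdS, hdR⟩ : ∃ d ∈ (S : Subgroup G), d ∉ R := by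
    by_contra h
    push Not at h
    have h1 : R.relIndex (S : Subgroup G) = 1 := relIndex_eq_one.mpr h
    omega
  -- the odd core of the centraliser
  set C := centralizer ({t} : Set G) with hCdef
  have memC : ∀ {x : G}, x ∈ C ↔ x * t = t * x := fun {x} => mem_centralizer_singleton_iff
  obtain ⟨N, hN, hNodd, k, hNi⟩ := Cfsg.Agent.S0514.result S n hn ⟨e⟩ t ht
  haveI := hN
  have hNle : N ≤ Cfsg.oddCore C := PSolvable.le_pPrimeCore (Nat.coprime_two_right.mpr hNodd)
  set O := (Cfsg.oddCore C).map C.subtype with hOdef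
  haveI : (Cfsg.oddCore C).Characteristic := PSolvable.pPrimeCore_characteristic (p := 2) (G := C)
  haveI : (Cfsg.oddCore C).Normal := inferInstance
  have hOodd : Odd (Nat.card O) := by
    rw [hOdef, card_map_of_injective C.subtype_injective]
    exact Nat.coprime_two_right.mp (PSolvable.pPrimeCore_coprime (p := 2) (G := C))
  have hOdd : ∀ {x : G}, x ∈ O → Odd (orderOf x) := fun {x} hx =>
    hOodd.of_dvd_nat (by simpa using orderOf_dvd_natCard (⟨x, hx⟩ : O))
  have hOC : O ≤ C := map_subtype_le _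
  have hmemO : ∀ {x : G}, x * t = t * x → Odd (orderOf x) → x ∈ O := by
    intro x hx hodd
    refine ⟨⟨x, memC.mpr hx⟩, hNle (mem_of_index_two_pow N hNi (by rwa [orderOf_mk])), rfl⟩
  have hOn : ∀ c ∈ C, ∀ x ∈ O, c * x * c⁻¹ ∈ O := by
    rintro c hc _ ⟨x, hx, rfl⟩
    exact ⟨⟨c, hc⟩ * x * ⟨c, hc⟩⁻¹, Subgroup.Normal.conj_mem inferInstance x hx _, rfl⟩
  have hSC : (S : Subgroup G) ≤ C := fun s hs => memC.mpr (htZ s hs)
  -- every reflection inverts `O`
  have hinv : ∀ s ∈ (S : Subgroup G), s ∉ R → ∀ y ∈ O, s * y * s⁻¹ = y⁻¹ := by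
    intro s hs hsR
    have hs2 := hinvo s hs hsR
    have hss : s * s = 1 := by rw [← pow_two, ← hs2, pow_orderOf_eq_one]
    let φ : O → O := fun y => ⟨s * y * s⁻¹, hOn s (hSC hs) y y.2⟩
    let f : O →* O := MonoidHom.mk' φ (fun a b => Subtype.ext (by simp [φ, mul_assoc]))
    have hfpf : MonoidHom.FixedPointFree f := by
      intro y hy
      apply Subtype.ext
      have h1 : s * (y : G) * s⁻¹ = (y : G) := congrArg Subtype.val hy
      exact eq_one_of_two hNF ht hs2 (fun h => hsR (h ▸ htR)) (htZ s hs).symm (hOdd y.2)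
        (memC.mp (hOC y.2)) ((mul_inv_eq_iff_eq_mul.mp h1).symm)
    have hf2 : Function.Involutive f := fun y => Subtype.ext (by
      show s * (s * (y : G) * s⁻¹) * s⁻¹ = (y : G)
      rw [show s⁻¹ = s from inv_eq_of_mul_eq_one_right hss]
      simp only [← mul_assoc, hss, one_mul]
      rw [mul_assoc, hss, mul_one])
    intro y hy
    exact congrArg Subtype.val (congrFun (hfpf.coe_eq_inv_of_involutive hf2) ⟨y, hy⟩)
  have hOab : ∀ x ∈ O, ∀ y ∈ O, x * y = y * x := by
    intro x hx y hy
    have h := hinv d hdS hdR (x * y) (mul_mem hx hy)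
    rw [show d * (x * y) * d⁻¹ = d * x * d⁻¹ * (d * y * d⁻¹) from by group, hinv d hdS hdR x hx,
      hinv d hdS hdR y hy, ← mul_inv_rev, inv_inj] at h
    exact h.symm
  have hRcent : ∀ r ∈ R, ∀ y ∈ O, r * y = y * r := by
    intro r hr y hy
    have h1 : d * r ∉ R := fun h => hdR (((hmul d hdS r (hRS hr)).mp h).mpr hr)
    have h2 := hinv (d * r) (mul_mem hdS (hRS hr)) h1 y hy
    rw [← hinv d hdS hdR y hy] at h2
    refine mul_inv_eq_iff_eq_mul.mp (mul_left_cancel (a := d) (mul_right_cancel (b := d⁻¹) ?_))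
    rw [← h2]
    group
  -- the hypotheses of S0508
  have ha : O ≠ ⊥ → IsCyclic ((S : Subgroup G) ⊓ centralizer (O : Set G) : Subgroup G) ∧
      ((S : Subgroup G) ⊓ centralizer (O : Set G)).relIndex (S : Subgroup G) = 2 := by
    intro hO1
    haveI := (nontrivial_iff_ne_bot O).mpr hO1
    obtain ⟨⟨y, hy⟩, hy1⟩ := exists_ne (1 : O)
    have hEq : (S : Subgroup G) ⊓ centralizer (O : Set G) = R := by
      refine le_antisymm (fun s hs => ?_) (le_inf hRS fun r hr => ?_)
      · by_contra hsR
        obtain ⟨hsS, hsO⟩ := mem_inf.mp hs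
        apply hy1
        apply Subtype.ext
        refine eq_one_of_inv_eq (hOdd hy) ?_
        rw [← hinv s hsS hsR y hy, ← mem_centralizer_iff.mp hsO y hy, mul_inv_cancel_right]
      · exact mem_centralizer_iff.mpr fun y hy => (hRcent r hr y hy).symm
    rw [hEq]
    exact ⟨hRc, hRi⟩
  have hb : ∀ s ∈ (S : Subgroup G), s ∉ centralizer (O : Set G) → ∀ y ∈ O, s * y * s⁻¹ = y⁻¹ :=
    fun s hs hns => hinv s hs fun h =>
      hns (mem_centralizer_iff.mpr fun y hy => (hRcent s h y hy).symm)
  have hprime : ∀ (q : ℕ) (y : G), q.Prime → y ∈ O → orderOf y = q →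
      ∀ g : G, g * y * g⁻¹ ∈ zpowers y → g * t = t * g := by
    intro q y hq hy hyq g hg
    have hy1 : y ≠ 1 := fun h => by rw [h, orderOf_one] at hyq; exact hq.ne_one hyq.symm
    set K := centralizer ({y} : Set G) with hKdef
    have memK : ∀ {x : G}, x ∈ K ↔ x * y = y * x := fun {x} => mem_centralizer_singleton_iff
    have htK : t ∈ K := memK.mpr (hRcent t htR y hy)
    have hinvK : ∀ a b : G, a ∈ K → b ∈ K → orderOf a = 2 → orderOf b = 2 → a * b = b * a → a = b := by
      intro a b ha hb ha2 hb2 hab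
      by_contra hne
      exact hy1 (eq_one_of_two hNF ha2 hb2 hne hab (hOdd hy) (memK.mp ha).symm (memK.mp hb).symm)
    -- a cyclic Sylow 2-subgroup of `K` containing `t`
    have hzp : IsPGroup 2 (zpowers (⟨t, htK⟩ : K)) :=
      IsPGroup.of_card (n := 1) (by rw [Nat.card_zpowers, ← Subgroup.orderOf_coe, pow_one]; exact ht)
    obtain ⟨P, hP⟩ := hzp.exists_le_sylow
    have htP : (⟨t, htK⟩ : K) ∈ P := hP (mem_zpowers _)
    obtain ⟨a, ha⟩ : ∃ a : G, ∀ x : K, x ∈ P → a * (x : G) * a⁻¹ ∈ (S : Subgroup G) := by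
      obtain ⟨Q, hQ⟩ := (P.2.map K.subtype).exists_le_sylow
      obtain ⟨a, ha⟩ := MulAction.exists_smul_eq G Q S
      refine ⟨a, fun x hx => ?_⟩
      rw [← ha, Sylow.coe_subgroup_smul]
      exact ⟨x, hQ ⟨x, hx, rfl⟩, rfl⟩
    have huniq : ∀ x : K, x ∈ P → orderOf x = 2 → (x : G) = t := by
      intro x hx hx2
      -- the centre of `P` supplies a common partner
      haveI : Nontrivial (P : Subgroup K) := ⟨⟨⟨⟨t, htK⟩, htP⟩, 1, fun h => by
        have h' : t = 1 := congrArg (fun w : (P : Subgroup K) => ((w : K) : G)) h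
        rw [h', orderOf_one] at ht
        omega⟩⟩
      haveI : Nontrivial (center (P : Subgroup K)) := P.2.center_nontrivial
      obtain ⟨⟨c, hcc⟩, hc2⟩ := exists_prime_orderOf_dvd_card' 2
        ((P.2.to_subgroup (center (P : Subgroup K))).card_eq_or_dvd.resolve_left Finite.one_lt_card.ne')
      have hcK : orderOf ((c : K) : G) = 2 := by
        rw [Subgroup.orderOf_coe, Subgroup.orderOf_coe]
        exact (Subgroup.orderOf_coe _).trans hc2
      have key : ∀ w : K, w ∈ P → orderOf (w : G) = 2 → (w : G) = ((c : K) : G) := fun w hw hw2 =>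
        hinvK _ _ w.2 (c : K).2 hw2 hcK
          (congrArg (fun v : (P : Subgroup K) => ((v : K) : G)) (mem_center_iff.mp hcc ⟨w, hw⟩))
      exact (key x hx (by rw [Subgroup.orderOf_coe]; exact hx2)).trans
        (key ⟨t, htK⟩ htP ht).symm
    haveI hPc : IsCyclic P := by
      -- the image in `S` lies in `R` or has order two
      let f : (P : Subgroup K) →* G :=
        (MulAut.conj a).toMonoidHom.comp (K.subtype.comp (P : Subgroup K).subtype)
      have hf : Function.Injective f := fun x y h =>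
        Subtype.ext (Subtype.ext ((MulAut.conj a).injective h))
      have hfS : ∀ x, f x ∈ (S : Subgroup G) := fun x => ha x x.2
      have hcases : (∀ x, f x ∈ R) ∨ ∀ x, f x ∈ zpowers (a * t * a⁻¹) := by
        by_cases hall : ∀ x, f x ∈ R
        · exact Or.inl hall
        push Not at hall
        obtain ⟨w, hw⟩ := hall
        refine Or.inr fun x => ?_
        have hrefl : ∀ v, f v ∉ R → f v = a * t * a⁻¹ := by
          intro v hv
          have h2 : orderOf v = 2 := by rw [← orderOf_injective f hf]; exact hinvo _ (hfS v) hv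
          show a * ((v : K) : G) * a⁻¹ = _
          rw [huniq v v.2 (by rw [Subgroup.orderOf_coe]; exact h2)]
        have hnR : a * t * a⁻¹ ∉ R := hrefl w hw ▸ hw
        by_cases hx : f x ∈ R
        · -- no non-trivial image inside `R`
          suffices f x = 1 by rw [this]; exact one_mem _
          by_contra hne
          have hx1 : x ≠ 1 := fun h => hne (by rw [h, map_one])
          obtain ⟨i, hi⟩ := IsPGroup.iff_orderOf.mp P.2 x
          cases i with
          | zero => rw [pow_zero, orderOf_eq_one_iff] at hi; exact hx1 hi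
          | succ j =>
            have h2 : orderOf (x ^ 2 ^ j) = 2 := by
              rw [orderOf_pow_of_dvd (by positivity) (hi ▸ pow_dvd_pow 2 (Nat.le_succ j)), hi,
                pow_succ, Nat.mul_div_cancel_left 2 (by positivity)]
            have hmem : f (x ^ 2 ^ j) ∈ R := by rw [map_pow]; exact pow_mem hx _
            apply hnR
            have heq : f (x ^ 2 ^ j) = a * t * a⁻¹ := by
              show a * (((x ^ 2 ^ j : (P : Subgroup K)) : K) : G) * a⁻¹ = _
              rw [huniq _ (x ^ 2 ^ j : (P : Subgroup K)).2 (by rw [Subgroup.orderOf_coe]; exact h2)]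
            exact heq ▸ hmem
        · rw [hrefl x hx]
          exact mem_zpowers _
      haveI := hRc
      rcases hcases with h | h
      · exact isCyclic_of_injective (f.codRestrict R h) ((MonoidHom.injective_codRestrict _ _ h).mpr hf)
      · exact isCyclic_of_injective (f.codRestrict (zpowers (a * t * a⁻¹)) h)
          ((MonoidHom.injective_codRestrict _ _ h).mpr hf)
    have hK2 : 2 ∣ Nat.card K := ht ▸ (by rw [← orderOf_mk t htK]; exact orderOf_dvd_natCard _)
    have hmin : (Nat.card K).minFac = 2 := Nat.minFac_eq_two_iff _ |>.mpr hK2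
    have hcompl := IsCyclic.isComplement' hmin hPc
    set M0 := (MonoidHom.transferSylow P (hPc.normalizer_le_centralizer hmin)).ker with hM0
    obtain ⟨i, hi⟩ := IsPGroup.iff_card.mp P.2
    have hM0i : M0.index = 2 ^ i := hcompl.symm.index_eq_card.trans hi
    have hM0odd : Odd (Nat.card M0) := by
      rw [Nat.odd_iff, ← Nat.two_dvd_ne_zero]
      intro h2
      obtain ⟨w, hw⟩ := exists_prime_orderOf_dvd_card' 2 h2
      refine P.not_dvd_index ?_
      rw [hcompl.index_eq_card]
      exact h2
    set M := M0.map K.subtype with hMdef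
    have hMK : M ≤ K := map_subtype_le _
    have hModd : Odd (Nat.card M) := by rw [hMdef, card_map_of_injective K.subtype_injective]; exact hM0odd
    have hModd' : ∀ {x : G}, x ∈ M → Odd (orderOf x) := fun {x} hx =>
      hModd.of_dvd_nat (by simpa using orderOf_dvd_natCard (⟨x, hx⟩ : M))
    have hmemM : ∀ {x : G}, x * y = y * x → Odd (orderOf x) → x ∈ M := fun {x} hx hodd =>
      ⟨⟨x, memK.mpr hx⟩, mem_of_index_two_pow M0 hM0i (by rwa [orderOf_mk]), rfl⟩
    have hdd : orderOf d = 2 := hinvo d hdS hdR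
    have hMnorm : ∀ s : G, s * y * s⁻¹ ∈ zpowers y → ∀ m ∈ M, s * m * s⁻¹ ∈ M := by
      intro s hs m hm
      refine hmemM ?_ (by rw [← MulAut.conj_apply, MulEquiv.orderOf_eq]; exact hModd' hm)
      have hz : orderOf (s * y * s⁻¹) = orderOf y := by rw [← MulAut.conj_apply, MulEquiv.orderOf_eq]
      have hgen : y ∈ zpowers (s * y * s⁻¹) := by
        have : zpowers (s * y * s⁻¹) = zpowers y := Subgroup.eq_of_le_of_card_ge (zpowers_le.mpr hs)
          (by rw [Nat.card_zpowers, Nat.card_zpowers, hz])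
        rw [this]
        exact mem_zpowers y
      obtain ⟨j, hj⟩ := mem_zpowers_iff.mp hgen
      have hcm : Commute m y := memK.mp (hMK hm)
      have hcm' : Commute (s * m * s⁻¹) (s * y * s⁻¹) := by
        show s * m * s⁻¹ * (s * y * s⁻¹) = s * y * s⁻¹ * (s * m * s⁻¹)
        have : s * (m * y) * s⁻¹ = s * (y * m) * s⁻¹ := by rw [hcm.eq]
        simpa [mul_assoc] using this
      have := hcm'.zpow_right j
      rwa [hj] at this
    have hdy : d * y * d⁻¹ ∈ zpowers y := by
      rw [hinv d hdS hdR y hy]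
      exact inv_mem (mem_zpowers y)
    have htty : t * y * t⁻¹ ∈ zpowers y := by
      rw [hRcent t htR y hy, mul_inv_cancel_right]
      exact mem_zpowers y
    have hMt : ∀ m ∈ M, m * t = t * m := by
      refine hTT G hA.hyp.1 M t d hModd ht hdd (htZ d hdS).symm (fun h => hdR (h ▸ htR))
        (hMnorm t htty) (hMnorm d hdy)
        (fun w hw hwt hwd => eq_one_of_two hNF ht hdd (fun h => hdR (h ▸ htR)) (htZ d hdS).symm
          (hModd' hw) hwt hwd) ?_
      rintro r hr ⟨w, hw, hwr, hwu⟩
      obtain ⟨v, hv2, hwv⟩ : ∃ v : G, orderOf v = 2 ∧ w * v = v * w := by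
        rcases hwu with h | h
        · exact ⟨d, hdd, h⟩
        · refine ⟨t * d, hinvo _ (mul_mem htS hdS) fun h' => hdR (((hmul t htS d hdS).mp h').mp htR), h⟩
      obtain ⟨b, hb⟩ := isConj_iff.mp (hone v t hv2 ht)
      have hbo : orderOf (b * w * b⁻¹) = r := by rw [← MulAut.conj_apply, MulEquiv.orderOf_eq]; exact hwr
      have hbO : b * w * b⁻¹ ∈ O := by
        refine hmemO ?_ (by rw [hbo, ← hwr]; exact hModd' hw)
        rw [← hb]
        have : b * (w * v) * b⁻¹ = b * (v * w) * b⁻¹ := by rw [hwv]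
        simpa [mul_assoc] using this
      exact ⟨b * w * b⁻¹, hmemM (hOab _ hbO _ hy) (hOdd hbO), hbo, memC.mp (hOC hbO)⟩
    -- `t` is central in `K`
    have hcenK : ∀ x ∈ K, x * t = t * x := by
      have htop : (⊤ : Subgroup K) ≤ centralizer ({(⟨t, htK⟩ : K)} : Set K) := by
        rw [← hcompl.sup_eq_top]
        refine sup_le (fun m hm => ?_) (fun p hp => ?_)
        · exact mem_centralizer_singleton_iff.mpr (Subtype.ext (hMt m ⟨m, hm, rfl⟩))
        · haveI := hPc
          letI : CommGroup (P : Subgroup K) := IsCyclic.commGroup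
          exact mem_centralizer_singleton_iff.mpr
            (congrArg Subtype.val (mul_comm (⟨p, hp⟩ : (P : Subgroup K)) ⟨_, htP⟩))
      intro x hx
      exact congrArg Subtype.val (mem_centralizer_singleton_iff.mp (htop (mem_top (⟨x, hx⟩ : K))))
    -- `g` fixes `t`
    have hgt : g * t * g⁻¹ ∈ K := by
      have hgen : zpowers (g * y * g⁻¹) = zpowers y := Subgroup.eq_of_le_of_card_ge
        (zpowers_le.mpr hg)
        (by rw [Nat.card_zpowers, Nat.card_zpowers, ← MulAut.conj_apply, MulEquiv.orderOf_eq])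
      obtain ⟨j, hj⟩ := mem_zpowers_iff.mp (hgen.symm ▸ mem_zpowers y : y ∈ zpowers (g * y * g⁻¹))
      refine memK.mpr ?_
      have hc : Commute (g * t * g⁻¹) (g * y * g⁻¹) := by
        show g * t * g⁻¹ * (g * y * g⁻¹) = g * y * g⁻¹ * (g * t * g⁻¹)
        have : g * (t * y) * g⁻¹ = g * (y * t) * g⁻¹ := by rw [hRcent t htR y hy]
        simpa [mul_assoc] using this
      have := hc.zpow_right j
      rwa [hj] at this
    have := hinvK _ t hgt htK (by rw [← MulAut.conj_apply, MulEquiv.orderOf_eq]; exact ht) ht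
      (hcenK _ hgt)
    exact mul_inv_eq_iff_eq_mul.mp this
  have hc : ∀ Y : Subgroup G, Y ≤ O → Y ≠ ⊥ → normalizer (Y : Set G) ≤ C := by
    intro Y hYO hY g hg
    haveI := (nontrivial_iff_ne_bot Y).mpr hY
    obtain ⟨q, hq, hqd⟩ := Nat.exists_prime_and_dvd
      (Finite.one_lt_card (α := Y)).ne'
    haveI : Fact q.Prime := ⟨hq⟩
    obtain ⟨⟨y, hyY⟩, hyq⟩ := exists_prime_orderOf_dvd_card' q hqd
    rw [orderOf_mk] at hyq
    have hgy : g * y * g⁻¹ ∈ Y := (mem_normalizer_iff.mp hg y).mp hyY
    have hq2 : q ≠ 2 := by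
      rintro rfl
      have := hOdd (hYO hyY)
      rw [hyq] at this
      exact absurd this (by decide)
    refine memC.mpr (hprime q y hq (hYO hyY) hyq g ?_)
    exact mem_zpowers_of_commute hA.hyp.1 hq hq2 hyq
      (by rw [← MulAut.conj_apply, MulEquiv.orderOf_eq]; exact hyq)
      (hOab _ (hYO hyY) _ (hYO hgy))
  obtain ⟨F, iF, iFF, hFodd, ⟨ψ⟩⟩ :=
    Cfsg.Agent.S0508.result S n hn ⟨e⟩ t ht htS htZ O hOdef ha hb hc
  -- the field is a prime field
  obtain ⟨p, hpchar⟩ := CharP.exists F
  haveI := hpchar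
  obtain ⟨m, hp, hcard⟩ := FiniteField.card F p
  haveI : Fact p.Prime := ⟨hp⟩
  have hp2 : p ≠ 2 := by
    rintro rfl
    rw [hcard] at hFodd
    exact (Nat.not_odd_iff_even.mpr (Nat.even_pow.mpr ⟨even_two, m.ne_zero⟩)) hFodd
  let f : Multiplicative F →* G := ψ.symm.toMonoidHom.comp (uni F)
  have hf : Function.Injective f := ψ.symm.injective.comp (uni_injective F)
  have hU : IsPGroup p (Multiplicative F) := IsPGroup.of_card (n := m) (by
    rw [Nat.card_eq_fintype_card, Fintype.card_multiplicative, hcard])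
  obtain ⟨P, hP⟩ := (hU.of_surjective f.rangeRestrict f.rangeRestrict_surjective).exists_le_sylow
  haveI : IsCyclic P := hA.hyp.1 p hp hp2 P
  haveI : IsCyclic (Multiplicative F) :=
    isCyclic_of_injective ((Subgroup.inclusion hP).comp f.rangeRestrict)
      ((Subgroup.inclusion_injective hP).comp (MonoidHom.rangeRestrict_injective_iff.mpr hf))
  have hFp : Fintype.card F = p := by
    obtain ⟨x, hx⟩ := IsCyclic.exists_ofOrder_eq_natCard (α := Multiplicative F)
    have hd : orderOf x ∣ p := orderOf_dvd_of_pow_eq_one (by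
      apply Multiplicative.toAdd.injective
      simp)
    rw [hx, Nat.card_eq_fintype_card, Fintype.card_multiplicative] at hd
    rcases (Nat.dvd_prime hp).mp hd with h | h
    · exact absurd h (by rw [hcard]; exact (Nat.one_lt_pow m.ne_zero hp.one_lt).ne')
    · exact h
  obtain ⟨φ⟩ := Perm.ProjCongr.nonempty_psl (Fin 2) (ZMod.ringEquivOfPrime F hp hFp).symm
  refine ⟨p, ⟨hp⟩, ?_, ⟨ψ.trans φ⟩⟩
  -- `PSL₂(3)` is not simple
  by_contra hlt
  have hp3 : p = 3 := by
    have h2 := hp.two_le
    interval_cases p <;> first | rfl | (exfalso; revert hp; decide) | omega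
  subst hp3
  have hSL : Nat.card (Matrix.SpecialLinearGroup (Fin 2) (ZMod 3)) = 24 := by
    rw [Nat.card_eq_fintype_card]
    decide +kernel
  have hdvd : Nat.card G ∣ 2 ^ 3 * 3 ^ 1 := by
    rw [Nat.card_congr (ψ.trans φ).toEquiv]
    exact (Subgroup.card_quotient_dvd_card _).trans (dvd_of_eq (hSL.trans (by norm_num)))
  have h8 : ∃ a b : ℕ, Nat.card G = 2 ^ a * 3 ^ b := by
    obtain ⟨u, v, hu, hv, huv⟩ := (Nat.dvd_mul).mp hdvd
    obtain ⟨a, -, rfl⟩ := (Nat.dvd_prime_pow Nat.prime_two).mp hu
    obtain ⟨b, -, rfl⟩ := (Nat.dvd_prime_pow Nat.prime_three).mp hv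
    exact ⟨a, b, huv.symm⟩
  obtain ⟨a, b, hab⟩ := h8
  exact hA.nonab ⟨⟨fun x y =>
    Burnside.mul_comm_of_isSimpleGroup Nat.prime_two Nat.prime_three hab x y⟩⟩

end Cfsg.Agent.Lib.CyclicOddSylow16
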