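import Cfsg.Agent.Lib.CyclicOddSylow16.DihLargeStructure

/-!
# Dihedral Sylow 2-subgroups of order at least 8: no odd element fixes a four-subgroup
-/

set_option autoImplicit false

namespace Cfsg.Agent.Lib.CyclicOddSylow16

open Subgroup

universe u

namespace DihLarge

variable {G : Type u} [Group G]

/-- An involution fixing no prime order element of an odd abelian group inverts it. -/
theorem eq_one_of_fixed_of_primes [Finite G] {O : Subgroup G} (hO : Odd (Nat.card O)) {g : G}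
    (hg : ∀ y ∈ O, ∀ q : ℕ, q.Prime → orderOf y = q → g * y * g⁻¹ = y⁻¹) :
    ∀ x ∈ O, g * x * g⁻¹ = x → x = 1 := by
  intro x hx hgx
  by_contra h
  obtain ⟨k, q, hq, -, hk⟩ := exists_pow_prime (odd_orderOf_of_mem hO hx) h
  have h1 := hg _ (pow_mem hx k) q hq hk
  rw [← conj_pow, hgx, eq_inv_iff_mul_eq_one] at h1
  have := eq_one_of_sq_of_odd (odd_orderOf_of_mem hO (pow_mem hx k)) h1
  rw [this, orderOf_one] at hk
  exact hq.one_lt.ne hk

/-- The configuration forced by a reflection fixing an element of prime order of `O`. -/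
theorem false_of_fixed [Finite G] (hC : CommonStmt.{u}) (hP : ModelPSLStmt)
    (hE : EightConfigFalseStmt.{u}) {S : Sylow 2 G} {n : ℕ} {σ s t : G} {O : Subgroup G}
    (C : Ctx S n σ s t O) {z : G} {r : ℕ} (hz : z ∈ O) (hr : r.Prime) (hr2 : r ≠ 2)
    (hzr : orderOf z = r) (hsz : s * z = z * s) : False := by
  obtain ⟨f, F⟩ := exists_fus hC C
  obtain ⟨hn4, hsO, hKz⟩ := C.structure_cent hC hP F hz hr hzr hsz
  have hfO : ∀ o ∈ O, f * o = o * f := fun o ho => F.fix o ho (hsO o ho)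
  have hVO : ∀ v, IsV t s v → ∀ o ∈ O, v * o = o * v := by
    rintro v (rfl | rfl | rfl | rfl) o ho
    exacts [Commute.one_left o, (C.Ot o ho).symm, hsO o ho,
      Commute.mul_left (C.Ot o ho).symm (hsO o ho)]
  -- the cyclic group `A`
  let A := prodSub O (zpowers f) fun b hb o ho => by
    obtain ⟨i, rfl⟩ := mem_zpowers_iff.1 hb
    rwa [show f ^ i * o = o * f ^ i from Commute.zpow_left (hfO o ho) i, mul_inv_cancel_right]
  have hA : ∀ a : G, a ∈ A ↔ ∃ o ∈ O, ∃ i : ℕ, i < 3 ∧ a = o * f ^ i := by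
    refine fun a => ⟨?_, fun ⟨o, ho, i, _, h⟩ =>
      ⟨o, ho, f ^ i, pow_mem (mem_zpowers f) i, h⟩⟩
    rintro ⟨o, ho, b, hb, rfl⟩
    obtain ⟨j, rfl⟩ : ∃ j : ℕ, f ^ j = b := mem_powers_iff_mem_zpowers.2 hb
    refine ⟨o * (f ^ 3) ^ (j / 3), mul_mem ho (pow_mem F.cube _), j % 3, Nat.mod_lt _ (by norm_num), ?_⟩
    rw [mul_assoc, ← pow_mul, ← pow_add, Nat.div_add_mod]
  have hOA : ∀ o ∈ O, o ∈ A := fun o ho => ⟨o, ho, 1, one_mem _, (mul_one o).symm⟩
  have hfA : f ∈ A := ⟨1, one_mem _, f, mem_zpowers f, (one_mul f).symm⟩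
  -- the action of `A` on the four-group
  have hact : ∀ o ∈ O, ∀ i : ℕ, ∀ v, IsV t s v →
      o * f ^ i * v * (o * f ^ i)⁻¹ = f ^ i * v * (f ^ i)⁻¹ := by
    intro o ho i v hv
    have h1 : IsV t s (f ^ i * v * (f ^ i)⁻¹) := by
      induction i with
      | zero => simpa using hv
      | succ i ih =>
        rw [pow_succ', show f * f ^ i * v * (f * f ^ i)⁻¹ = f * (f ^ i * v * (f ^ i)⁻¹) * f⁻¹ by group]
        exact isV_conj_mem (H := C.vgrp) (g := f) (F.ft ▸ Or.inr (Or.inr (Or.inl rfl)))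
          (F.fs ▸ Or.inr (Or.inr (Or.inr rfl))) ih
    rw [show o * f ^ i * v * (o * f ^ i)⁻¹ = o * (f ^ i * v * (f ^ i)⁻¹) * o⁻¹ by group,
      ← hVO _ h1 o ho, mul_inv_cancel_right]
  have hf2t : f ^ 2 * t * (f ^ 2)⁻¹ = t * s := by
    rw [pow_two, show f * f * t * (f * f)⁻¹ = f * (f * t * f⁻¹) * f⁻¹ by group, F.ft, F.fs]
  have hf2s : f ^ 2 * s * (f ^ 2)⁻¹ = t := by
    rw [pow_two, show f * f * s * (f * f)⁻¹ = f * (f * s * f⁻¹) * f⁻¹ by group, F.fs, F.fts C]
  have hts1 : t * s ≠ 1 := fun h => C.t_ne_s (by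
    rw [mul_eq_one_iff_eq_inv, inv_eq_of_two C.ords] at h; exact h)
  have hts_t : t * s ≠ t := fun h => ne_one_of_two C.ords (mul_eq_left.1 h)
  have hts_s : t * s ≠ s := fun h => ne_one_of_two C.ordt (mul_eq_right.1 h)
  -- elements of `A` outside `O` centralise nothing in the four-group
  have hfree : ∀ a ∈ A, a ∉ O → ∀ v, IsV t s v → a * v = v * a → v = 1 := by
    intro a ha hanO v hv hav
    obtain ⟨o, ho, i, hi, rfl⟩ := (hA a).1 ha
    have h1 : f ^ i * v * (f ^ i)⁻¹ = v := by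
      rw [← hact o ho i v hv, hav, mul_inv_cancel_right]
    rcases (show i = 0 ∨ i = 1 ∨ i = 2 by omega) with rfl | rfl | rfl
    · exact absurd (by simpa using ho) hanO
    · rw [pow_one] at h1
      rcases hv with h | h | h | h <;> rw [h] at h1 ⊢
      · exact absurd (h1.symm.trans F.ft) C.t_ne_s
      · exact absurd (F.fs.symm.trans h1) hts_s
      · exact absurd ((F.fts C).symm.trans h1).symm hts_t
    · rcases hv with h | h | h | h <;> rw [h] at h1 ⊢
      · exact absurd (hf2t.symm.trans h1) hts_t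
      · exact absurd (hf2s.symm.trans h1) C.t_ne_s
      · have h2 : f ^ 2 * (t * s) * (f ^ 2)⁻¹ = s := by
          rw [show f ^ 2 * (t * s) * (f ^ 2)⁻¹ = f ^ 2 * t * (f ^ 2)⁻¹ * (f ^ 2 * s * (f ^ 2)⁻¹) by group,
            hf2t, hf2s, mul_assoc, C.st, ← mul_assoc, C.tt, one_mul]
        exact absurd (h1.symm.trans h2) hts_s
  have hAodd : Odd (Nat.card A) := by
    rw [← Nat.not_even_iff_odd, even_iff_two_dvd]
    intro h2
    haveI : Fact (Nat.Prime 2) := ⟨Nat.prime_two⟩
    obtain ⟨⟨_, o, ho, b, hb, rfl⟩, hv⟩ := exists_prime_orderOf_dvd_card' (G := A) 2 h2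
    replace hv : orderOf (o * b) = 2 := (orderOf_injective A.subtype A.subtype_injective _).trans hv
    obtain ⟨i, rfl⟩ := mem_zpowers_iff.1 hb
    have hcm : Commute o (f ^ i) := (Commute.zpow_left (hfO o ho) i).symm
    have : Odd (orderOf (o * f ^ i)) :=
      ((odd_orderOf_of_mem C.Oodd ho).mul (F.odd.of_dvd_nat (orderOf_dvd_of_mem_zpowers (zpow_mem (mem_zpowers f) i)))).of_dvd_nat
        hcm.orderOf_mul_dvd_mul_orderOf
    exact ne_two_of_odd this hv
  have hAV : ∀ v, IsV t s v → v ∈ A → v = 1 := fun v hv hvA =>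
    eq_one_of_sq_of_odd (odd_orderOf_of_mem hAodd hvA) (C.isV_sq hv)
  have hAz : ∀ a ∈ A, a * z = z * a := by
    intro a ha
    obtain ⟨o, ho, i, -, rfl⟩ := (hA a).1 ha
    exact Commute.mul_left (C.Ocomm ho hz) (Commute.pow_left (hfO z hz) i)
  have hKform : ∀ k : G, k * z = z * k → ∃ a ∈ A, ∃ v, IsV t s v ∧ k = a * v := by
    intro k hk
    obtain ⟨o, ho, i, v, hv, rfl⟩ := hKz k hk
    exact ⟨o * f ^ i, ⟨o, ho, f ^ i, pow_mem (mem_zpowers f) i, rfl⟩, v, hv, rfl⟩
  have hAcomm : ∀ a ∈ A, ∀ b ∈ A, a * b = b * a := by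
    intro a ha b hb
    obtain ⟨o, ho, i, -, rfl⟩ := (hA a).1 ha
    obtain ⟨o', ho', j, -, rfl⟩ := (hA b).1 hb
    exact Commute.mul_left (Commute.mul_right (C.Ocomm ho ho') (Commute.pow_right (hfO o ho).symm j))
      (Commute.mul_right (Commute.pow_left (hfO o' ho') i) (Commute.pow_pow (Commute.refl f) i j))
  -- no element of `A` outside `O` is inverted by `C(z)`
  have hnoinv : ∀ a ∈ A, ∀ k : G, k * z = z * k → k * a * k⁻¹ = a⁻¹ → a * a = 1 ∨ a ∈ O := by
    intro a ha k hk hka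
    by_cases haO : a ∈ O
    · exact Or.inr haO
    obtain ⟨b, hb, v, hv, rfl⟩ := hKform k hk
    have h1 : v * a * v⁻¹ = a⁻¹ := by
      have h2 : v * a * v⁻¹ = b⁻¹ * (b * v * a * (b * v)⁻¹) * b := by group
      rw [h2, hka, mul_assoc, hAcomm a⁻¹ (inv_mem ha) b hb, inv_mul_cancel_left]
    have h3 : IsV t s (v * (a * v⁻¹ * a⁻¹)) := by
      obtain ⟨o, ho, i, -, rfl⟩ := (hA a).1 ha
      refine C.isV_mul hv ?_
      rw [inv_eq_of_mul_eq_one_right (C.isV_sq hv), hact o ho i v hv]
      clear * - F C hv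
      induction i with
      | zero => simpa using hv
      | succ i ih =>
        rw [pow_succ', show f * f ^ i * v * (f * f ^ i)⁻¹ = f * (f ^ i * v * (f ^ i)⁻¹) * f⁻¹ by group]
        exact isV_conj_mem (H := C.vgrp) (g := f) (F.ft ▸ Or.inr (Or.inr (Or.inl rfl)))
          (F.fs ▸ Or.inr (Or.inr (Or.inr rfl))) ih
    have h4 : v * (a * v⁻¹ * a⁻¹) = a⁻¹ * a⁻¹ := by
      rw [show v * (a * v⁻¹ * a⁻¹) = v * a * v⁻¹ * a⁻¹ by group, h1]
    have h5 := hAV _ h3 (h4 ▸ mul_mem (inv_mem ha) (inv_mem ha))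
    rw [h4, ← mul_inv_rev, inv_eq_one] at h5
    exact Or.inl h5
  -- `s` centralises, so `σ` inverts every element of prime order of `O`
  have hσinv : ∀ y ∈ O, ∀ q : ℕ, q.Prime → orderOf y = q → σ * y * σ⁻¹ = y⁻¹ :=
    fun y hy q hq hyq => C.inv_σ hy hq hyq (hsO y hy)
  set e := σ * s with he
  have he2 : e * e = 1 := C.refl.ss
  have het : e * t = t * e := C.tcomm (mul_mem C.σmem C.smem)
  have hes : e * s * e⁻¹ = t * s := by
    rw [he, C.refl_conj_s, show σ ^ 2 = t by rw [C.tdef, hn4]]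
  have heO : ∀ o ∈ O, e * o * e⁻¹ ∈ O := fun o ho => C.Onorm e het o ho
  have heinv : ∀ o ∈ O, e * o * e⁻¹ = o⁻¹ := by
    refine inverts_of_fixedPointFree he2 heO (eq_one_of_fixed_of_primes C.Oodd fun y hy q hq hyq => ?_)
    rw [he, mul_inv_rev, show σ * s * y * (s⁻¹ * σ⁻¹) = σ * (s * y * s⁻¹) * σ⁻¹ by group, hsO y hy,
      mul_inv_cancel_right, hσinv y hy q hq hyq]
  -- adjust `e` to normalise `A`
  obtain ⟨e', he'def, he'f⟩ : ∃ e' : G, (∃ u, IsV t s u ∧ e' = u * e) ∧ e' * f * e'⁻¹ ∈ A := by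
    obtain ⟨a, ha, v, hv, hefv⟩ := hKform (e * f * e⁻¹) ((C.refl_cent hz hr hzr hsz).2 f (hfO z hz))
    obtain ⟨o, ho, i, hi, rfl⟩ := (hA a).1 ha
    have hvt : v * t * v⁻¹ = t := by rw [C.tcomm (C.isV_mem hv), mul_inv_cancel_right]
    have h1 : f ^ i * t * (f ^ i)⁻¹ = t * s := by
      rw [← hact o ho i t (Or.inr (Or.inl rfl)),
        show o * f ^ i * t * (o * f ^ i)⁻¹ = o * f ^ i * v * t * (o * f ^ i * v)⁻¹ by
          conv_lhs => rw [← hvt]
          group, ← hefv]
      rw [show e * f * e⁻¹ * t * (e * f * e⁻¹)⁻¹ = e * (f * (e⁻¹ * t * e) * f⁻¹) * e⁻¹ by group,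
        mul_assoc e⁻¹ t e, ← het, inv_mul_cancel_left, F.ft, hes]
    have hi2 : i = 2 := by
      rcases (show i = 0 ∨ i = 1 ∨ i = 2 by omega) with rfl | rfl | rfl
      · simp only [pow_zero, one_mul, inv_one, mul_one] at h1
        exact absurd h1.symm hts_t
      · rw [pow_one, F.ft] at h1
        exact absurd h1.symm hts_s
      · rfl
    subst hi2
    set a := o * f ^ 2 with hadef
    have hat : a * t * a⁻¹ = t * s := (hact o ho 2 t (Or.inr (Or.inl rfl))).trans hf2t
    have has : a * s * a⁻¹ = t := (hact o ho 2 s (Or.inr (Or.inr (Or.inl rfl)))).trans hf2s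
    -- `u e` normalises `A` when `(a⁻¹ u a) v u = 1`
    suffices h : ∃ u, IsV t s u ∧ a⁻¹ * u * a * v * u = 1 by
      obtain ⟨u, hu, hu1⟩ := h
      refine ⟨u * e, ⟨u, hu, rfl⟩, ?_⟩
      have h2 : u * e * f * (u * e)⁻¹ = a * (a⁻¹ * u * a * v * u) := by
        rw [show u * e * f * (u * e)⁻¹ = u * (e * f * e⁻¹) * u⁻¹ by group, hefv,
          inv_eq_of_mul_eq_one_right (C.isV_sq hu)]
        group
      rw [h2, hu1, mul_one]
      exact ha
    have hta : a⁻¹ * t * a = s := by rw [← has]; group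
    have htsa : a⁻¹ * (t * s) * a = t := by rw [← hat]; group
    have hsa : a⁻¹ * s * a = t * s := by
      rw [show a⁻¹ * s * a = a⁻¹ * t * a * (a⁻¹ * (t * s) * a) by
        rw [show a⁻¹ * t * a * (a⁻¹ * (t * s) * a) = a⁻¹ * (t * t * s) * a by group, C.tt, one_mul],
        hta, htsa, C.st]
    rcases hv with h | h | h | h <;> rw [h]
    · exact ⟨1, Or.inl rfl, by group⟩
    · refine ⟨s, Or.inr (Or.inr (Or.inl rfl)), ?_⟩
      rw [hsa, mul_assoc (t * s) t s]
      exact C.isV_sq (Or.inr (Or.inr (Or.inr rfl)))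
    · refine ⟨t * s, Or.inr (Or.inr (Or.inr rfl)), ?_⟩
      rw [htsa]
      exact C.isV_sq (Or.inr (Or.inr (Or.inr rfl)))
    · refine ⟨t, Or.inr (Or.inl rfl), ?_⟩
      rw [hta, mul_assoc s (t * s) t, mul_assoc t s t, C.st, ← mul_assoc t t s, C.tt, one_mul, C.ss]
  obtain ⟨u, hu, rfl⟩ := he'def
  set e' := u * e with he'
  have he'inv : ∀ o ∈ O, e' * o * e'⁻¹ = o⁻¹ := by
    intro o ho
    rw [he', show u * e * o * (u * e)⁻¹ = u * (e * o * e⁻¹) * u⁻¹ by group, heinv o ho,
      hVO u hu _ (inv_mem ho), mul_inv_cancel_right]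
  have he't : e' * t = t * e' := Commute.mul_left (C.tcomm (C.isV_mem hu)) het
  have he's : e' * s * e'⁻¹ = t * s := by
    rw [he', show u * e * s * (u * e)⁻¹ = u * (e * s * e⁻¹) * u⁻¹ by group, hes]
    have h : u * (t * s) = t * s * u := by
      rcases hu with h | h | h | h <;> rw [h]
      · rw [one_mul, mul_one]
      · rw [mul_assoc t s t, C.st]
      · rw [← mul_assoc, C.st]
    rw [h, mul_inv_cancel_right]
  have he'A : ∀ a ∈ A, e' * a * e'⁻¹ ∈ A := by
    intro a ha
    obtain ⟨o, ho, i, -, rfl⟩ := (hA a).1 ha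
    rw [show e' * (o * f ^ i) * e'⁻¹ = e' * o * e'⁻¹ * (e' * f * e'⁻¹) ^ i by rw [conj_pow]; group]
    exact mul_mem (hOA _ (he'inv o ho ▸ inv_mem ho)) (pow_mem he'f i)
  have hsqmem : IsV t s (e' * e') := by
    have h1 : IsV t s (e * u * e⁻¹) :=
      isV_conj_mem (H := C.vgrp) (g := e) (by rw [het, mul_inv_cancel_right]; exact Or.inr (Or.inl rfl))
        (hes ▸ Or.inr (Or.inr (Or.inr rfl))) hu
    have h2 : e' * e' = u * (e * u * e⁻¹) * (e * e) := by rw [he']; group
    rw [h2, he2, mul_one]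
    exact C.isV_mul hu h1
  have he'2 : e' * e' = 1 := by
    by_contra hne
    set w := e' * e' with hw
    have hfw : w * f * w⁻¹ * f⁻¹ ∈ A := by
      refine mul_mem ?_ (inv_mem hfA)
      rw [hw, show e' * e' * f * (e' * e')⁻¹ = e' * (e' * f * e'⁻¹) * e'⁻¹ by group]
      exact he'A _ he'f
    have hfv : IsV t s (f * w * f⁻¹) := isV_conj_mem (H := C.vgrp) (g := f)
      (F.ft ▸ Or.inr (Or.inr (Or.inl rfl))) (F.fs ▸ Or.inr (Or.inr (Or.inr rfl))) hsqmem
    have h1 := hAV _ (show IsV t s (w * f * w⁻¹ * f⁻¹) by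
      rw [show w * f * w⁻¹ * f⁻¹ = w * (f * w * f⁻¹)⁻¹ by group,
        inv_eq_of_mul_eq_one_right (C.isV_sq hfv)]
      exact C.isV_mul hsqmem hfv) hfw
    have hfnO : f ∉ O := fun hf => by
      have := F.ft
      rw [C.Ot f hf, mul_inv_cancel_right] at this
      exact C.t_ne_s this
    refine hne (hfree f hfA hfnO w hsqmem ?_)
    rw [mul_inv_eq_one] at h1
    exact (mul_inv_eq_iff_eq_mul.1 h1).symm
  have he'ne : e' ≠ 1 := by
    intro h
    have h1 := he's
    rw [h, one_mul, inv_one, mul_one] at h1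
    exact hts_s h1.symm
  have he'invA : ∀ a ∈ A, e' * a * e'⁻¹ = a⁻¹ := by
    refine inverts_of_fixedPointFree he'2 he'A fun a ha hfix => ?_
    obtain ⟨o, ho, i, hi, rfl⟩ := (hA a).1 ha
    have hc : ∀ v, IsV t s v → e' * (o * f ^ i * v * (o * f ^ i)⁻¹) * e'⁻¹ =
        o * f ^ i * (e' * v * e'⁻¹) * (o * f ^ i)⁻¹ := by
      intro v _
      conv_rhs => rw [← hfix]
      group
    have h1 := hc t (Or.inr (Or.inl rfl))
    rw [he't, mul_inv_cancel_right, hact o ho i t (Or.inr (Or.inl rfl))] at h1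
    rcases (show i = 0 ∨ i = 1 ∨ i = 2 by omega) with rfl | rfl | rfl
    · rw [pow_zero, mul_one] at hfix ⊢
      rw [he'inv o ho, inv_eq_iff_mul_eq_one] at hfix
      exact eq_one_of_sq_of_odd (odd_orderOf_of_mem C.Oodd ho) hfix
    · rw [pow_one, F.ft, he's] at h1
      exact absurd h1 hts_s
    · rw [hf2t] at h1
      have h2 : e' * (t * s) * e'⁻¹ = s := by
        rw [show e' * (t * s) * e'⁻¹ = e' * t * e'⁻¹ * (e' * s * e'⁻¹) by group, he's, he't,
          mul_inv_cancel_right, ← mul_assoc, C.tt, one_mul]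
      rw [h2] at h1
      exact absurd h1.symm hts_s
  -- `A` is cyclic
  have hAcyc : IsCyclic A := by
    haveI : Fact (Nat.Prime 2) := ⟨Nat.prime_two⟩
    refine hC.2.2.2.2.1 G C.amb.hyp.1 A (zpowers e') hAodd (IsPGroup.of_card (n := 1) ?_) ?_ ?_
    · rw [Nat.card_zpowers, orderOf_eq_two' he'ne he'2, pow_one]
    · refine Coprime.le_normalizer_of_conj_mem fun b hb a ha => ?_
      obtain ⟨j, rfl⟩ := mem_zpowers_iff.1 hb
      rcases Int.even_or_odd j with ⟨i, rfl⟩ | ⟨i, rfl⟩
      · rw [← two_mul, zpow_mul, zpow_two, he'2, one_zpow]; simpa using ha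
      · rw [zpow_add, zpow_mul, zpow_two, he'2, one_zpow, one_mul, zpow_one]; exact he'A a ha
    · intro a ha h
      have h1 := h e' (mem_zpowers e')
      have h2 := he'invA a ha
      rw [h1, mul_inv_cancel_right, eq_inv_iff_mul_eq_one] at h2
      exact eq_one_of_sq_of_odd (odd_orderOf_of_mem hAodd ha) h2
  have hcardA : Nat.card A = 3 * Nat.card O := by
    rw [mul_comm, ← Nat.card_fin 3, ← Nat.card_prod]
    refine (Nat.card_eq_of_bijective (fun p : O × Fin 3 => (⟨(p.1 : G) * f ^ (p.2 : ℕ),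
      (hA _).2 ⟨p.1, p.1.2, p.2, p.2.2, rfl⟩⟩ : A)) ⟨fun p q h => ?_, fun a => ?_⟩).symm
    · obtain ⟨⟨o, ho⟩, ⟨i, hi⟩⟩ := p
      obtain ⟨⟨o', ho'⟩, ⟨j, hj⟩⟩ := q
      have h' : o * f ^ i = o' * f ^ j := congrArg Subtype.val h
      have e1 : f ^ i * t * (f ^ i)⁻¹ = f ^ j * t * (f ^ j)⁻¹ := by
        rw [← hact o ho i t (Or.inr (Or.inl rfl)), ← hact o' ho' j t (Or.inr (Or.inl rfl)), h']
      have : i = j := by
        rcases (show i = 0 ∨ i = 1 ∨ i = 2 by omega) with rfl | rfl | rfl <;>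
          rcases (show j = 0 ∨ j = 1 ∨ j = 2 by omega) with rfl | rfl | rfl <;>
          simp only [pow_zero, one_mul, inv_one, mul_one, pow_one, F.ft, hf2t] at e1 <;>
          first
          | rfl
          | exact absurd e1 C.t_ne_s
          | exact absurd e1.symm C.t_ne_s
          | exact absurd e1 hts_t
          | exact absurd e1.symm hts_t
          | exact absurd e1 hts_s
          | exact absurd e1.symm hts_s
      subst this
      exact Prod.ext (Subtype.ext (mul_right_cancel h')) rfl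
    · obtain ⟨o, ho, i, hi, h⟩ := (hA a.1).1 a.2
      exact ⟨(⟨o, ho⟩, ⟨i, hi⟩), Subtype.ext h.symm⟩
  -- centralizers of the elements of `A` outside `O`
  have hKA : ∀ a ∈ A, a ∉ O → ∀ k : G, k * z = z * k → k * a = a * k → k ∈ A := by
    intro a ha haO k hk hka
    obtain ⟨b, hb, v, hv, rfl⟩ := hKform k hk
    have hva : a * v = v * a := by
      have h1 := Commute.mul_left (Commute.inv_left (hAcomm b hb a ha)) hka
      rw [inv_mul_cancel_left] at h1
      exact h1.symm
    rw [hfree a ha haO v hv hva, mul_one]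
    exact hb
  have hcent : ∀ a ∈ A, a ∉ O → centralizer ({a} : Set G) = A := by
    intro a ha haO
    ext k
    rw [mem_centralizer_singleton_iff]
    refine ⟨fun hka => hKA a ha haO k ?_ hka, fun hk => hAcomm k hk a ha⟩
    by_cases h3 : a ^ 3 = 1
    · have hord : orderOf a = 3 :=
        orderOf_eq_prime h3 (fun h => haO (h ▸ one_mem O))
      have h3w : ¬ 3 ∣ Nat.card O := by
        intro h
        haveI : Fact (Nat.Prime 3) := ⟨Nat.prime_three⟩
        obtain ⟨y, hy⟩ := exists_prime_orderOf_dvd_card' (G := O) 3 h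
        have hy' : orderOf (y : G) = 3 := by rw [orderOf_coe, hy]
        obtain ⟨i, hi⟩ := mem_zpowers_iff.1
          (mem_zpowers_of_orderOf_eq hAcyc ha (hOA y y.2) (hord.trans hy'.symm))
        exact haO (hi ▸ zpow_mem y.2 i)
      -- the odd group `C(a)`
      set M := centralizer ({a} : Set G) with hM
      have hMmem : ∀ m : G, m ∈ M ↔ m * a = a * m := fun m => mem_centralizer_singleton_iff
      have hMinv : ∀ v : G, orderOf v = 2 → v * a ≠ a * v := by
        intro v hv hva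
        obtain ⟨c, hc⟩ := isConj_iff.1 (C.one v t hv C.ordt)
        have h2 : c * a * c⁻¹ * t = t * (c * a * c⁻¹) := hc ▸ (conj_commute hva).symm
        have h4 : orderOf (c * a * c⁻¹) = 3 := (orderOf_conj_eq c a).trans hord
        exact h3w (h4 ▸ O.orderOf_dvd_natCard (C.Omem _ h2 (h4 ▸ (by decide : Odd 3))))
      have he'M : ∀ m ∈ M, e' * m * e'⁻¹ ∈ M := by
        intro m hm
        rw [hMmem] at hm ⊢
        have h1 := conj_commute (g := e') hm
        rw [he'invA a ha] at h1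
        have := Commute.inv_right h1
        rwa [inv_inv] at this
      have hMfree : ∀ m ∈ M, e' * m * e'⁻¹ = m → m = 1 := by
        intro m hm hem
        by_contra hm1
        have hmodd : Odd (orderOf m) := by
          rw [← Nat.not_even_iff_odd, even_iff_two_dvd]
          intro h2
          have hdiv : orderOf (m ^ (orderOf m / 2)) = 2 := by
            rw [orderOf_pow' m (Nat.div_pos (Nat.le_of_dvd (orderOf_pos m) h2) two_pos).ne',
              Nat.gcd_eq_right (Nat.div_dvd_of_dvd h2), Nat.div_div_self h2 (orderOf_pos m).ne']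
          exact hMinv _ hdiv ((hMmem _).1 (pow_mem hm _))
        obtain ⟨j, q, hq, hq2, hmq⟩ := exists_pow_prime hmodd hm1
        haveI := Fact.mk hq
        set m' := m ^ j with hm'
        have hem' : e' * m' = m' * e' := Commute.pow_right (mul_inv_eq_iff_eq_mul.1 hem) j
        obtain ⟨c, hc⟩ := isConj_iff.1 (C.one e' t (orderOf_eq_two' he'ne he'2) C.ordt)
        have h2 : c * m' * c⁻¹ ∈ O := C.Omem _ (hc ▸ (conj_commute hem').symm)
          ((orderOf_conj_eq c m').symm ▸ hmq ▸ odd_of_prime hq hq2)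
        have hqO : q ∣ Nat.card O := by
          rw [← hmq, ← orderOf_conj_eq c m']
          exact O.orderOf_dvd_natCard h2
        obtain ⟨y, hy⟩ := exists_prime_orderOf_dvd_card' (G := O) q hqO
        have hyq : orderOf (y : G) = q := by rw [orderOf_coe, hy]
        have hyM : (y : G) ∈ M := (hMmem _).2 (hAcomm _ (hOA y y.2) a ha)
        have hm'M : m' ∈ M := pow_mem hm j
        -- conjugate `y` into the group generated by `m'`
        obtain ⟨P, hP'⟩ := (IsPGroup.of_card (p := q) (n := 1)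
          (show Nat.card (zpowers (⟨(y : G), hyM⟩ : M)) = q ^ 1 by
            rw [Nat.card_zpowers, Subgroup.orderOf_mk, hyq, pow_one])).exists_le_sylow
        obtain ⟨Q, hQ⟩ := (IsPGroup.of_card (p := q) (n := 1)
          (show Nat.card (zpowers (⟨m', hm'M⟩ : M)) = q ^ 1 by
            rw [Nat.card_zpowers, Subgroup.orderOf_mk, hmq, pow_one])).exists_le_sylow
        obtain ⟨g, hg⟩ := MulAction.exists_smul_eq M P Q
        obtain ⟨R, hR⟩ := (Q.2.map M.subtype).exists_le_sylow
        have hgy : (g : G) * (y : G) * (g : G)⁻¹ ∈ (R : Subgroup G) := by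
          refine hR ⟨g * ⟨y, hyM⟩ * g⁻¹, ?_, rfl⟩
          rw [← hg, Sylow.coe_subgroup_smul]
          exact ⟨⟨y, hyM⟩, hP' (mem_zpowers _), rfl⟩
        have hm'R : m' ∈ (R : Subgroup G) := hR ⟨⟨m', hm'M⟩, hQ (mem_zpowers _), rfl⟩
        have hmem : (g : G) * (y : G) * (g : G)⁻¹ ∈ zpowers m' :=
          mem_zpowers_of_orderOf_eq (C.amb.hyp.1 q hq hq2 R) hgy hm'R
            (((orderOf_conj_eq _ _).trans hyq).trans hmq.symm)
        have he'y : e' * ((g : G) * y * (g : G)⁻¹) = (g : G) * y * (g : G)⁻¹ * e' :=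
          commute_of_mem_zpowers hem' hmem
        set e'' := (g : G)⁻¹ * e' * (g : G) with he''
        have hy'' : e'' * (y : G) = (y : G) * e'' := by
          have := conj_commute (g := (g : G)⁻¹) he'y
          rw [inv_inv, show (g : G)⁻¹ * ((g : G) * y * (g : G)⁻¹) * g = y by group, ← he''] at this
          exact this
        obtain ⟨-, -, hKy⟩ := C.structure_cent hC hP F y.2 hq hyq (hsO y y.2)
        obtain ⟨o, ho, i, v, hv, hev⟩ := hKy e'' hy''
        have hez : e'' * z = z * e'' := by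
          rw [hev]
          exact Commute.mul_left (Commute.mul_left (C.Ocomm ho hz) (Commute.pow_left (hfO z hz) i))
            (hVO v hv z hz)
        have hga : (g : G) * a = a * (g : G) := (hMmem _).1 g.2
        have hea : e'' * a * e''⁻¹ = a⁻¹ := by
          rw [he'', show (g : G)⁻¹ * e' * g * a * ((g : G)⁻¹ * e' * g)⁻¹ =
            (g : G)⁻¹ * (e' * ((g : G) * a * (g : G)⁻¹) * e'⁻¹) * g by group, hga, mul_inv_cancel_right,
            he'invA a ha, mul_assoc, ← Commute.inv_right hga, inv_mul_cancel_left]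
        rcases hnoinv a ha e'' hez hea with h | h
        · exact haO ((eq_one_of_sq_of_odd (hord ▸ (by decide : Odd 3)) h) ▸ one_mem O)
        · exact haO h
      have hzM : z ∈ M := (hMmem _).2 (hAz a ha).symm
      exact commute_of_inverts (inverts_of_fixedPointFree he'2 he'M hMfree) k ((hMmem k).2 hka) z hzM
    · have hodd3 : Odd (orderOf (a ^ 3)) := odd_orderOf_of_mem hAodd (pow_mem ha 3)
      obtain ⟨j, q, hq, -, hyq⟩ := exists_pow_prime hodd3 h3
      have hy : (a ^ 3) ^ j ∈ O := by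
        obtain ⟨o, ho, i, -, rfl⟩ := (hA a).1 ha
        refine pow_mem ?_ j
        rw [(Commute.pow_right (hfO o ho).symm i).mul_pow, ← pow_mul, mul_comm i, pow_mul]
        exact mul_mem (pow_mem ho 3) (pow_mem F.cube i)
      obtain ⟨-, -, hKy⟩ := C.structure_cent hC hP F hy hq hyq (hsO _ hy)
      obtain ⟨o, ho, i, v, hv, rfl⟩ := hKy k (Commute.pow_right (Commute.pow_right hka 3) j)
      exact Commute.mul_left (Commute.mul_left (C.Ocomm ho hz) (Commute.pow_left (hfO z hz) i))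
        (hVO v hv z hz)
  -- the normalizer of `A`
  have hnorm : normalizer (A : Set G) = A ⊔ zpowers e' := by
    refine le_antisymm (fun g hg => ?_) (sup_le le_normalizer
      (Coprime.le_normalizer_of_conj_mem fun b hb a ha => ?_))
    · have hgA : ∀ a ∈ A, g * a * g⁻¹ ∈ A := fun a ha => (mem_normalizer_iff.1 hg a).1 ha
      have hgz : g * z * g⁻¹ ∈ zpowers z := by
        exact mem_zpowers_of_orderOf_eq hAcyc (hgA z (hOA z hz)) (hOA z hz) (orderOf_conj_eq g z)
      have hzg : z ∈ zpowers (g * z * g⁻¹) :=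
        mem_zpowers_of_orderOf_eq hAcyc (hOA z hz) (hgA z (hOA z hz)) (orderOf_conj_eq g z).symm
      have hgK : ∀ k : G, k * z = z * k → g * k * g⁻¹ * z = z * (g * k * g⁻¹) := fun k hk =>
        commute_of_mem_zpowers (conj_commute hk) hzg
      have hinvV : ∀ k : G, k * z = z * k → k * k = 1 → IsV t s k := by
        intro k hk hk2
        obtain ⟨a, ha, v, hv, rfl⟩ := hKform k hk
        have h1 : v * a * v⁻¹ = a⁻¹ := by
          rw [inv_eq_of_mul_eq_one_right (C.isV_sq hv)]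
          refine eq_inv_of_mul_eq_one_right ?_
          rw [← hk2]
          group
        have hvz : v * z = z * v := hVO v hv z hz
        rcases hnoinv a ha v hvz h1 with h | h
        · rw [eq_one_of_sq_of_odd (odd_orderOf_of_mem hAodd ha) h, one_mul]
          exact hv
        · rw [hVO v hv a h, mul_inv_cancel_right, eq_inv_iff_mul_eq_one] at h1
          rw [eq_one_of_sq_of_odd (odd_orderOf_of_mem hAodd ha) h1, one_mul]
          exact hv
      have hgV : ∀ v, IsV t s v → IsV t s (g * v * g⁻¹) := fun v hv =>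
        hinvV _ (hgK v (hVO v hv z hz))
          (by rw [show g * v * g⁻¹ * (g * v * g⁻¹) = g * (v * v) * g⁻¹ by group, C.isV_sq hv, mul_one,
            mul_inv_cancel])
      -- make `g` fix `t`
      obtain ⟨i, hi⟩ : ∃ i : ℕ, f ^ i * t * (f ^ i)⁻¹ = g * t * g⁻¹ := by
        rcases hgV t (Or.inr (Or.inl rfl)) with h1 | h1 | h1 | h1
        · exact absurd ((MulAut.conj g).injective (h1.trans (map_one _).symm)) (ne_one_of_two C.ordt)
        · exact ⟨0, by rw [h1]; group⟩
        · exact ⟨1, by rw [h1, pow_one, F.ft]⟩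
        · exact ⟨2, by rw [h1, hf2t]⟩
      have hfi : f ^ i ∈ A := pow_mem hfA i
      set g1 := (f ^ i)⁻¹ * g with hg1
      have hg1A : ∀ a ∈ A, g1 * a * g1⁻¹ ∈ A := by
        intro a ha
        rw [hg1, show (f ^ i)⁻¹ * g * a * ((f ^ i)⁻¹ * g)⁻¹ = (f ^ i)⁻¹ * (g * a * g⁻¹) * f ^ i by group]
        exact mul_mem (mul_mem (inv_mem hfi) (hgA a ha)) hfi
      have hg1t : g1 * t = t * g1 := by
        rw [← mul_inv_eq_iff_eq_mul, hg1,
          show (f ^ i)⁻¹ * g * t * ((f ^ i)⁻¹ * g)⁻¹ = (f ^ i)⁻¹ * (g * t * g⁻¹) * f ^ i by group, ← hi]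
        group
      have key : ∀ g2 : G, (∀ a ∈ A, g2 * a * g2⁻¹ ∈ A) → g2 * t = t * g2 → g2 * s = s * g2 →
          g2 ∈ A := by
        intro g2 h2A h2t h2s
        obtain ⟨o, ho, a, ha, rfl, -, hsa⟩ := C.split_comm C.smem h2t h2s.symm
        have hv := C.mem_isV ha hsa
        have h1 : a * f * a⁻¹ ∈ A := by
          have := h2A f hfA
          have h3 : a * f * a⁻¹ = o⁻¹ * (o * a * f * (o * a)⁻¹) * o := by group
          rw [h3]
          exact mul_mem (mul_mem (inv_mem (hOA o ho)) this) (hOA o ho)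
        have hfnO : f ∉ O := fun hf => by
          have := F.ft
          rw [C.Ot f hf, mul_inv_cancel_right] at this
          exact C.t_ne_s this
        have hfv : IsV t s (f * a * f⁻¹) := isV_conj_mem (H := C.vgrp) (g := f)
          (F.ft ▸ Or.inr (Or.inr (Or.inl rfl))) (F.fs ▸ Or.inr (Or.inr (Or.inr rfl))) hv
        have h4 := hAV _ (show IsV t s (a * f * a⁻¹ * f⁻¹) by
          rw [show a * f * a⁻¹ * f⁻¹ = a * (f * a * f⁻¹)⁻¹ by group,
            inv_eq_of_mul_eq_one_right (C.isV_sq hfv)]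
          exact C.isV_mul hv hfv) (mul_mem h1 (inv_mem hfA))
        rw [mul_inv_eq_one] at h4
        rw [hfree f hfA hfnO a hv (mul_inv_eq_iff_eq_mul.1 h4).symm, mul_one]
        exact hOA o ho
      have hg1s : IsV t s (g1 * s * g1⁻¹) := by
        have h1 := hgV s (Or.inr (Or.inr (Or.inl rfl)))
        rw [hg1, show (f ^ i)⁻¹ * g * s * ((f ^ i)⁻¹ * g)⁻¹ = (f ^ i)⁻¹ * (g * s * g⁻¹) * f ^ i by group]
        have hz' : (f ^ i)⁻¹ * (g * s * g⁻¹) * f ^ i * z = z * ((f ^ i)⁻¹ * (g * s * g⁻¹) * f ^ i) :=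
          Commute.mul_left (Commute.mul_left (Commute.inv_left (hAz _ hfi)) (hgK s hsz)) (hAz _ hfi)
        refine hinvV _ hz' ?_
        rw [show (f ^ i)⁻¹ * (g * s * g⁻¹) * f ^ i * ((f ^ i)⁻¹ * (g * s * g⁻¹) * f ^ i) =
          (f ^ i)⁻¹ * (g * s * g⁻¹ * (g * s * g⁻¹)) * f ^ i by group, C.isV_sq h1]
        group
      have hmemA : A ≤ A ⊔ zpowers e' := le_sup_left
      have hmemE : e' ∈ A ⊔ zpowers e' := (le_sup_right : zpowers e' ≤ A ⊔ zpowers e') (mem_zpowers e')
      have hback : g1 ∈ A ⊔ zpowers e' → g ∈ A ⊔ zpowers e' := fun h => by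
        have h2 := mul_mem (hmemA hfi) h
        rwa [hg1, mul_inv_cancel_left] at h2
      apply hback
      rcases hg1s with h1 | h1 | h1 | h1
      · exact absurd ((MulAut.conj g1).injective (h1.trans (map_one _).symm)) (ne_one_of_two C.ords)
      · exact absurd ((MulAut.conj g1).injective
          (h1.trans (mul_inv_eq_iff_eq_mul.2 hg1t).symm)).symm C.t_ne_s
      · exact hmemA (key g1 hg1A hg1t (mul_inv_eq_iff_eq_mul.1 h1))
      · have h2 := hmemA (key (e' * g1) (fun a ha => by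
            rw [show e' * g1 * a * (e' * g1)⁻¹ = e' * (g1 * a * g1⁻¹) * e'⁻¹ by group]
            exact he'A _ (hg1A a ha)) (Commute.mul_left he't hg1t) (by
            rw [← mul_inv_eq_iff_eq_mul,
              show e' * g1 * s * (e' * g1)⁻¹ = e' * (g1 * s * g1⁻¹) * e'⁻¹ by group, h1,
              show e' * (t * s) * e'⁻¹ = e' * t * e'⁻¹ * (e' * s * e'⁻¹) by group, he's, he't,
              mul_inv_cancel_right, ← mul_assoc, C.tt, one_mul]))
        have h3 := mul_mem (inv_mem hmemE) h2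
        rwa [inv_mul_cancel_left] at h3
    · obtain ⟨j, rfl⟩ := mem_zpowers_iff.1 hb
      rcases Int.even_or_odd j with ⟨i, rfl⟩ | ⟨i, rfl⟩
      · rw [← two_mul, zpow_mul, zpow_two, he'2, one_zpow]; simpa using ha
      · rw [zpow_add, zpow_mul, zpow_two, he'2, one_zpow, one_mul, zpow_one]; exact he'A a ha
  -- the configuration
  have hσ2 : σ ^ 2 = t := by rw [C.tdef, hn4]
  have hOs : O ⊓ centralizer ({s} : Set G) = O :=
    inf_eq_left.2 fun o ho => mem_centralizer_singleton_iff.2 (hsO o ho).symm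
  have hOe : O ⊓ centralizer ({σ * s} : Set G) = ⊥ := by
    refine eq_bot_iff.2 fun o ho => mem_bot.2 ?_
    have h1 := heinv o ho.1
    have h2 : e * o = o * e := (mem_centralizer_singleton_iff.1 ho.2).symm
    rw [h2, mul_inv_cancel_right, eq_inv_iff_mul_eq_one] at h1
    exact eq_one_of_sq_of_odd (odd_orderOf_of_mem C.Oodd ho.1) h1
  refine hE G C.amb
    { S := S
      σ := σ
      τ := s
      e := e'
      w := Nat.card O
      W := O
      A := A
      σ_mem := C.σmem
      τ_mem := C.smem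
      orderσ := C.ordσ.trans hn4
      orderτ := C.ords
      rel := C.rel
      gen := C.closure_eq
      card_S := by rw [C.cardS, hn4]
      card_C := by rw [hσ2, C.card_C, hn4]; ring
      card_Cτ := by rw [hσ2, C.card_C_pair, hOs]; ring
      card_Cστ := by rw [hσ2, C.refl.card_C_pair, hOe, card_bot]
      three_le := by
        refine le_trans ?_ (Nat.le_of_dvd Nat.card_pos (hzr ▸ O.orderOf_dvd_natCard hz))
        have := hr.two_le
        omega
      odd_w := C.Oodd
      W_le := hOA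
      card_W := rfl
      card_A := hcardA
      cyclic_A := hAcyc
      order_e := orderOf_eq_two' he'ne he'2
      inverts := he'invA
      cent := hcent
      normalizer_A := hnorm }

end DihLarge

/-- No non-trivial element of odd order centralises a four-subgroup, for dihedral Sylow 2-subgroups
of order at least 8. -/
theorem dihLarge (hC : CommonStmt.{u}) (hP : ModelPSLStmt) (hE : EightConfigFalseStmt.{u}) :
    DihLargeStmt.{u} := by
  intro G _ _ hG S n hn hφ V hV x hx hxV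
  obtain ⟨φ⟩ := hφ
  by_contra hx1
  obtain ⟨σ, s, t, z, O, r, C, hz, hr, hr2, hzr, hsz⟩ :=
    DihLarge.exists_ctx hC hG S n hn φ hV hx hxV hx1
  exact DihLarge.false_of_fixed hC hP hE C hz hr hr2 hzr hsz

end Cfsg.Agent.Lib.CyclicOddSylow16
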