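import Cfsg.Agent.Lib.CyclicOddSylow16.Spec

/-!
# Dihedral Sylow 2-subgroups of order at least 8: elementary lemmas
-/

set_option autoImplicit false

namespace Cfsg.Agent.Lib.CyclicOddSylow16.DihLarge

open Subgroup

universe u

variable {G : Type u} [Group G]

theorem orderOf_conj_eq (g x : G) : orderOf (g * x * g⁻¹) = orderOf x :=
  MulEquiv.orderOf_eq (MulAut.conj g) x

theorem conj_commute {g x y : G} (h : x * y = y * x) :
    g * x * g⁻¹ * (g * y * g⁻¹) = g * y * g⁻¹ * (g * x * g⁻¹) := by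
  have := congrArg (MulAut.conj g) h
  simpa only [map_mul, MulAut.conj_apply] using this

theorem ne_two_of_odd {r : ℕ} (h : Odd r) : r ≠ 2 := fun e =>
  (Nat.not_even_iff_odd.2 h) (e ▸ even_two)

theorem odd_of_prime {r : ℕ} (hr : r.Prime) (h : r ≠ 2) : Odd r := hr.odd_of_ne_two h

theorem odd_orderOf_of_mem [Finite G] {H : Subgroup G} (hH : Odd (Nat.card H)) {x : G} (hx : x ∈ H) :
    Odd (orderOf x) :=
  hH.of_dvd_nat (H.orderOf_dvd_natCard hx)

theorem eq_one_of_sq_of_odd {x : G} (h : Odd (orderOf x)) (h2 : x * x = 1) : x = 1 := by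
  have hd : orderOf x ∣ 2 := orderOf_dvd_of_pow_eq_one (by rw [pow_two, h2])
  rcases (Nat.dvd_prime Nat.prime_two).1 hd with h1 | h1
  · exact orderOf_eq_one_iff.1 h1
  · exact absurd h1 (ne_two_of_odd h)

theorem ne_one_of_two {x : G} (h : orderOf x = 2) : x ≠ 1 := fun e => by
  rw [e, orderOf_one] at h
  omega

theorem mul_self_of_two {x : G} (h : orderOf x = 2) : x * x = 1 := by
  rw [← pow_two, ← h, pow_orderOf_eq_one]

theorem inv_eq_of_two {x : G} (h : orderOf x = 2) : x⁻¹ = x :=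
  inv_eq_of_mul_eq_one_right (mul_self_of_two h)

theorem orderOf_eq_two' {x : G} (h1 : x ≠ 1) (h2 : x * x = 1) : orderOf x = 2 :=
  orderOf_eq_prime (by rw [pow_two, h2]) h1

/-- An involution acting without fixed points on a subgroup inverts it. -/
theorem inverts_of_fixedPointFree [Finite G] {H : Subgroup G} {g : G} (h2 : g * g = 1)
    (hg : ∀ h ∈ H, g * h * g⁻¹ ∈ H) (hfree : ∀ h ∈ H, g * h * g⁻¹ = h → h = 1) :
    ∀ h ∈ H, g * h * g⁻¹ = h⁻¹ := by
  let φ : H →* H := MonoidHom.mk' (fun h => ⟨g * h * g⁻¹, hg h h.2⟩) fun a b =>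
    Subtype.ext (by simp [mul_assoc])
  have hφ : MonoidHom.FixedPointFree φ := fun x hx =>
    Subtype.ext (hfree x x.2 (congrArg Subtype.val hx))
  have hinv : Function.Involutive φ := fun x => Subtype.ext (by
    change g * (g * (x : G) * g⁻¹) * g⁻¹ = (x : G)
    rw [← mul_assoc, ← mul_assoc, h2, one_mul, mul_assoc, ← mul_inv_rev, h2, inv_one, mul_one])
  intro h hh
  exact congrArg Subtype.val (congrFun (hφ.coe_eq_inv_of_involutive hinv) ⟨h, hh⟩)

theorem commute_of_inverts {H : Subgroup G} {g : G} (h : ∀ x ∈ H, g * x * g⁻¹ = x⁻¹) :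
    ∀ a ∈ H, ∀ b ∈ H, a * b = b * a := by
  intro a ha b hb
  have h1 := h _ (H.mul_mem ha hb)
  rw [show g * (a * b) * g⁻¹ = (g * a * g⁻¹) * (g * b * g⁻¹) by group, h a ha, h b hb,
    mul_inv_rev] at h1
  have := congrArg (·⁻¹) h1
  simpa using this.symm

/-- In a cyclic subgroup, an element generates every element of the same order. -/
theorem mem_zpowers_of_orderOf_eq [Finite G] {H : Subgroup G} (hH : IsCyclic H) {a b : G}
    (ha : a ∈ H) (hb : b ∈ H) (h : orderOf a = orderOf b) : a ∈ zpowers b := by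
  classical
  haveI := Fintype.ofFinite H
  set k := orderOf b with hk
  have hk0 : 0 < k := orderOf_pos b
  let b' : H := ⟨b, hb⟩
  have hb' : orderOf b' = k := Subgroup.orderOf_mk b hb
  have hle : (zpowers b' : Set H).toFinset ⊆ Finset.univ.filter fun x : H => x ^ k = 1 := by
    intro x hx
    simp only [Set.mem_toFinset, SetLike.mem_coe] at hx
    obtain ⟨i, rfl⟩ := mem_zpowers_iff.1 hx
    simp only [Finset.mem_filter, Finset.mem_univ, true_and]
    rw [← zpow_natCast, ← zpow_mul, mul_comm, zpow_mul, zpow_natCast, ← hb', pow_orderOf_eq_one,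
      one_zpow]
  have hcard : (Finset.univ.filter fun x : H => x ^ k = 1).card ≤ (zpowers b' : Set H).toFinset.card := by
    refine (IsCyclic.card_pow_eq_one_le hk0).trans (le_of_eq ?_)
    rw [Set.toFinset_card, ← Nat.card_eq_fintype_card]
    exact hb'.symm.trans (Nat.card_zpowers b').symm
  have heq := Finset.eq_of_subset_of_card_le hle hcard
  have hmem : (⟨a, ha⟩ : H) ∈ (zpowers b' : Set H).toFinset := by
    rw [heq]
    simp only [Finset.mem_filter, Finset.mem_univ, true_and]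
    apply Subtype.ext
    change a ^ k = 1
    rw [← h, pow_orderOf_eq_one]
  simp only [Set.mem_toFinset, SetLike.mem_coe] at hmem
  obtain ⟨i, hi⟩ := mem_zpowers_iff.1 hmem
  exact mem_zpowers_iff.2 ⟨i, congrArg Subtype.val hi⟩

theorem commute_of_mem_zpowers {g x y : G} (h : g * x = x * g) (hy : y ∈ zpowers x) :
    g * y = y * g := by
  obtain ⟨i, rfl⟩ := mem_zpowers_iff.1 hy
  exact (Commute.zpow_right h i)

/-- A non-trivial element of odd order has a power of odd prime order. -/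
theorem exists_pow_prime [Finite G] {x : G} (hx : Odd (orderOf x)) (h1 : x ≠ 1) :
    ∃ k r : ℕ, r.Prime ∧ r ≠ 2 ∧ orderOf (x ^ k) = r := by
  have hn1 : orderOf x ≠ 1 := fun e => h1 (orderOf_eq_one_iff.1 e)
  set r := (orderOf x).minFac with hr
  have hrp : r.Prime := Nat.minFac_prime hn1
  have hrd : r ∣ orderOf x := Nat.minFac_dvd _
  refine ⟨orderOf x / r, r, hrp, ne_two_of_odd (hx.of_dvd_nat hrd), ?_⟩
  rw [orderOf_pow' x (Nat.div_pos (Nat.le_of_dvd (orderOf_pos x) hrd) hrp.pos).ne',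
    Nat.gcd_eq_right (Nat.div_dvd_of_dvd hrd), Nat.div_div_self hrd (orderOf_pos x).ne']

/-- An involution fixes an element of prime order up to inversion, if it normalises its
group. -/
theorem eq_or_inv_of_two [Finite G] {g y : G} {r : ℕ} (hr : r.Prime) (hy : orderOf y = r)
    (hg : g * g = 1) (h : g * y * g⁻¹ ∈ zpowers y) : g * y * g⁻¹ = y ∨ g * y * g⁻¹ = y⁻¹ := by
  obtain ⟨m, hm⟩ := mem_zpowers_iff.1 h
  have h2 : y ^ (m * m) = y ^ (1 : ℤ) := by
    rw [zpow_mul, hm, conj_zpow, hm, zpow_one, ← mul_assoc, ← mul_assoc, hg, one_mul, mul_assoc,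
      ← mul_inv_rev, hg, inv_one, mul_one]
  rw [zpow_eq_zpow_iff_modEq, hy, Int.modEq_comm, Int.modEq_iff_dvd] at h2
  rw [show m * m - 1 = (m - 1) * (m + 1) by ring] at h2
  rcases (Nat.prime_iff_prime_int.1 hr).dvd_or_dvd h2 with h3 | h3
  · left
    rw [← hm]
    conv_rhs => rw [← zpow_one y]
    rw [zpow_eq_zpow_iff_modEq, hy, Int.modEq_comm, Int.modEq_iff_dvd]
    exact h3
  · right
    rw [← hm, ← zpow_neg_one, zpow_eq_zpow_iff_modEq, hy, Int.modEq_comm, Int.modEq_iff_dvd,
      sub_neg_eq_add]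
    exact h3

end Cfsg.Agent.Lib.CyclicOddSylow16.DihLarge
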