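import Cfsg.Agent.Lib.CyclicOddSylow16.DihLargeBasic
import Cfsg.Agent.Lib.Coprime.Sylow
import Cfsg.Agent.S0514
import Cfsg.Agent.S3116

/-!
# Dihedral Sylow 2-subgroups of order at least 8: the centralizer of the central involution
-/

set_option autoImplicit false

namespace Cfsg.Agent.Lib.CyclicOddSylow16.DihLarge

open Subgroup

universe u

variable {G : Type u} [Group G]

/-- The four elements `1`, `t`, `s`, `t * s`. -/
def IsV (t s v : G) : Prop := v = 1 ∨ v = t ∨ v = s ∨ v = t * s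

/-- The standing situation: `S` is generated by `σ` and the reflection `s`, `t` is its central
involution and `O` the normal odd complement of `S` in the centralizer of `t`. -/
structure Ctx (S : Sylow 2 G) (n : ℕ) (σ s t : G) (O : Subgroup G) : Prop where
  amb : Amb G
  one : OneClass G
  noSylow : ∀ P : Sylow 2 G, ∀ x : G, Odd (orderOf x) →
    (∀ a ∈ (P : Subgroup G), a * x = x * a) → x = 1
  iso : Nonempty ((S : Subgroup G) ≃* DihedralGroup n)
  hn : 4 ≤ n
  pow : ∃ k, n = 2 ^ k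
  tdef : t = σ ^ (n / 2)
  σmem : σ ∈ (S : Subgroup G)
  smem : s ∈ (S : Subgroup G)
  ordσ : orderOf σ = n
  ords : orderOf s = 2
  rel : s * σ * s⁻¹ = σ⁻¹
  elem : ∀ a ∈ (S : Subgroup G), ∃ i : ℕ, a = σ ^ i ∨ a = σ ^ i * s
  cardS : Nat.card (S : Subgroup G) = 2 * n
  Ot : ∀ o ∈ O, o * t = t * o
  Oodd : Odd (Nat.card O)
  Onorm : ∀ c : G, c * t = t * c → ∀ o ∈ O, c * o * c⁻¹ ∈ O
  Osplit : ∀ c : G, c * t = t * c → ∃ o ∈ O, ∃ a ∈ (S : Subgroup G), c = o * a
  Omem : ∀ c : G, c * t = t * c → Odd (orderOf c) → c ∈ O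
  Ocyc : IsCyclic O

theorem two_dvd_of_four_le {n : ℕ} (hn : 4 ≤ n) (h : ∃ k, n = 2 ^ k) : 4 ∣ n := by
  obtain ⟨k, rfl⟩ := h
  match k with
  | 0 => simp at hn
  | 1 => simp at hn
  | k + 2 => exact ⟨2 ^ k, by ring⟩

namespace Ctx

variable {S : Sylow 2 G} {n : ℕ} {σ s t : G} {O : Subgroup G}

theorem four_dvd (C : Ctx S n σ s t O) : 4 ∣ n := two_dvd_of_four_le C.hn C.pow

theorem tmem (C : Ctx S n σ s t O) : t ∈ (S : Subgroup G) := C.tdef ▸ pow_mem C.σmem _

theorem ordt [Finite G] (C : Ctx S n σ s t O) : orderOf t = 2 := by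
  obtain ⟨m, hm⟩ := C.four_dvd
  have hn := C.hn
  rw [C.tdef, orderOf_pow' σ (by omega), C.ordσ,
    Nat.gcd_eq_right (Nat.div_dvd_of_dvd ⟨2 * m, by omega⟩), Nat.div_div_self ⟨2 * m, by omega⟩ (by omega)]

theorem σt (C : Ctx S n σ s t O) : σ * t = t * σ := by
  rw [C.tdef]
  exact Commute.self_pow σ _

theorem conj_pow_σ (C : Ctx S n σ s t O) (i : ℕ) : s * σ ^ i * s⁻¹ = (σ ^ i)⁻¹ := by
  rw [← conj_pow, C.rel, inv_pow]

theorem st [Finite G] (C : Ctx S n σ s t O) : s * t = t * s := by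
  have h := C.conj_pow_σ (n / 2)
  rw [← C.tdef, inv_eq_of_two C.ordt] at h
  exact mul_inv_eq_iff_eq_mul.1 h

theorem ss (C : Ctx S n σ s t O) : s * s = 1 := mul_self_of_two C.ords

theorem tt [Finite G] (C : Ctx S n σ s t O) : t * t = 1 := mul_self_of_two C.ordt

theorem σ_sq_ne (C : Ctx S n σ s t O) : σ * σ ≠ 1 := by
  intro h
  have := Nat.le_of_dvd two_pos (orderOf_dvd_of_pow_eq_one (x := σ) (n := 2) (by rw [pow_two, h]))
  rw [C.ordσ] at this
  have := C.hn
  omega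

theorem s_ne_pow (C : Ctx S n σ s t O) (i : ℕ) : s ≠ σ ^ i := by
  intro h
  have h1 : s * σ * s⁻¹ = σ := by
    rw [h, mul_inv_eq_iff_eq_mul]
    exact Commute.pow_self σ i
  rw [C.rel, inv_eq_iff_mul_eq_one] at h1
  exact C.σ_sq_ne h1

theorem t_ne_s (C : Ctx S n σ s t O) : t ≠ s := fun h => C.s_ne_pow _ (h.symm.trans C.tdef)

theorem tcomm (C : Ctx S n σ s t O) [Finite G] {a : G} (ha : a ∈ (S : Subgroup G)) :
    a * t = t * a := by
  obtain ⟨i, rfl | rfl⟩ := C.elem a ha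
  · exact Commute.pow_left C.σt i
  · exact Commute.mul_left (Commute.pow_left C.σt i) C.st

/-- A rotation of order at most 2 is `1` or `t`. -/
theorem rot_sq [Finite G] (C : Ctx S n σ s t O) {i : ℕ} (h : σ ^ i * σ ^ i = 1) :
    σ ^ i = 1 ∨ σ ^ i = t := by
  rw [← pow_add, ← orderOf_dvd_iff_pow_eq_one, C.ordσ] at h
  obtain ⟨m, hm⟩ := C.four_dvd
  subst hm
  have h2 : 2 * m ∣ i := by
    obtain ⟨l, hl⟩ := h
    exact ⟨l, by linarith⟩
  obtain ⟨l, rfl⟩ := h2
  rcases Nat.even_or_odd l with ⟨j, rfl⟩ | ⟨j, rfl⟩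
  · left
    rw [show 2 * m * (j + j) = 4 * m * j by ring, pow_mul, ← C.ordσ, pow_orderOf_eq_one, one_pow]
  · right
    rw [show 2 * m * (2 * j + 1) = 4 * m * j + 4 * m / 2 by
        rw [show 4 * m / 2 = 2 * m by omega]; ring, pow_add, pow_mul, ← C.ordσ,
      pow_orderOf_eq_one, one_pow, one_mul, C.tdef, C.ordσ]

theorem S_order [Finite G] (C : Ctx S n σ s t O) {a : G} (ha : a ∈ (S : Subgroup G))
    (hodd : Odd (orderOf a)) : a = 1 := by
  obtain ⟨k, hk⟩ := C.pow
  have h1 : orderOf a ∣ 2 ^ (k + 1) := by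
    have := (S : Subgroup G).orderOf_dvd_natCard ha
    rwa [C.cardS, hk, ← pow_succ'] at this
  exact orderOf_eq_one_iff.1 (Nat.eq_one_of_dvd_coprimes
    ((Nat.coprime_two_left.2 hodd).pow_left _) h1 dvd_rfl)

theorem uniq [Finite G] (C : Ctx S n σ s t O) {o o' a a' : G} (ho : o ∈ O) (ho' : o' ∈ O)
    (ha : a ∈ (S : Subgroup G)) (ha' : a' ∈ (S : Subgroup G)) (h : o * a = o' * a') :
    o = o' ∧ a = a' := by
  have h1 : o'⁻¹ * o = a' * a⁻¹ := by
    rw [eq_mul_inv_iff_mul_eq, mul_assoc, h, ← mul_assoc, inv_mul_cancel, one_mul]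
  have h2 : o'⁻¹ * o = 1 := C.S_order (h1 ▸ mul_mem ha' (inv_mem ha))
    (odd_orderOf_of_mem C.Oodd (mul_mem (inv_mem ho') ho))
  refine ⟨(inv_mul_eq_one.1 h2).symm, ?_⟩
  rw [h2, eq_comm, mul_inv_eq_one] at h1
  exact h1.symm

theorem Ocomm [Finite G] (C : Ctx S n σ s t O) {a b : G} (ha : a ∈ O) (hb : b ∈ O) : a * b = b * a := by
  haveI := C.Ocyc
  exact congrArg Subtype.val (mul_comm' (⟨a, ha⟩ : O) ⟨b, hb⟩)
where
  mul_comm' {H : Type u} [Group H] [IsCyclic H] (a b : H) : a * b = b * a := by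
    obtain ⟨g, hg⟩ := IsCyclic.exists_generator (α := H)
    obtain ⟨i, rfl⟩ := mem_zpowers_iff.1 (hg a)
    obtain ⟨j, rfl⟩ := mem_zpowers_iff.1 (hg b)
    exact Commute.zpow_zpow (Commute.refl g) i j

/-- An element of `C(t)` commuting with a given element of `S` has commuting components. -/
theorem split_comm [Finite G] (C : Ctx S n σ s t O) {c g : G} (hg : g ∈ (S : Subgroup G))
    (hct : c * t = t * c) (hcg : g * c = c * g) :
    ∃ o ∈ O, ∃ a ∈ (S : Subgroup G), c = o * a ∧ g * o = o * g ∧ g * a = a * g := by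
  obtain ⟨o, ho, a, ha, rfl⟩ := C.Osplit c hct
  have h := C.uniq (C.Onorm g (C.tcomm hg) o ho) ho (mul_mem (mul_mem hg ha) (inv_mem hg)) ha
    (by rw [show g * o * g⁻¹ * (g * a * g⁻¹) = g * (o * a) * g⁻¹ by group, hcg,
      mul_inv_cancel_right])
  exact ⟨o, ho, a, ha, rfl, mul_inv_eq_iff_eq_mul.1 h.1, mul_inv_eq_iff_eq_mul.1 h.2⟩

theorem mem_isV [Finite G] (C : Ctx S n σ s t O) {a : G} (ha : a ∈ (S : Subgroup G))
    (hs : s * a = a * s) : IsV t s a := by
  have key : ∀ i : ℕ, s * σ ^ i = σ ^ i * s → σ ^ i = 1 ∨ σ ^ i = t := by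
    intro i hi
    have h := C.conj_pow_σ i
    rw [hi, mul_inv_cancel_right, eq_inv_iff_mul_eq_one] at h
    exact C.rot_sq h
  obtain ⟨i, rfl | rfl⟩ := C.elem a ha
  · rcases key i hs with h | h
    · exact Or.inl h
    · exact Or.inr (Or.inl h)
  · have hi : s * σ ^ i = σ ^ i * s := by
      have := congrArg (· * s⁻¹) hs
      simpa [mul_assoc] using this
    rcases key i hi with h | h
    · exact Or.inr (Or.inr (Or.inl (by rw [h, one_mul])))
    · exact Or.inr (Or.inr (Or.inr (by rw [h])))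

theorem isV_mem (C : Ctx S n σ s t O) {v : G} (hv : IsV t s v) : v ∈ (S : Subgroup G) := by
  rcases hv with rfl | rfl | rfl | rfl
  exacts [one_mem _, C.tmem, C.smem, mul_mem C.tmem C.smem]

theorem isV_sq [Finite G] (C : Ctx S n σ s t O) {v : G} (hv : IsV t s v) : v * v = 1 := by
  rcases hv with rfl | rfl | rfl | rfl
  · exact mul_one 1
  · exact C.tt
  · exact C.ss
  · rw [mul_assoc, ← mul_assoc s t s, C.st, mul_assoc t s s, C.ss, mul_one, C.tt]

theorem isV_mul [Finite G] (C : Ctx S n σ s t O) {v w : G} (hv : IsV t s v) (hw : IsV t s w) :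
    IsV t s (v * w) := by
  refine C.mem_isV (mul_mem (C.isV_mem hv) (C.isV_mem hw)) ?_
  have key : ∀ u : G, IsV t s u → s * u = u * s := by
    rintro u (rfl | rfl | rfl | rfl)
    exacts [Commute.one_right s, C.st, rfl, Commute.mul_right C.st (Commute.refl s)]
  exact Commute.mul_right (key v hv) (key w hw)

/-- The four-group `{1, t, s, t * s}`. -/
def vgrp [Finite G] (C : Ctx S n σ s t O) : Subgroup G where
  carrier := {v | IsV t s v}
  mul_mem' := C.isV_mul
  one_mem' := Or.inl rfl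
  inv_mem' := fun {v} hv => by
    change IsV t s v⁻¹
    rwa [inv_eq_of_mul_eq_one_right (C.isV_sq hv)]

theorem mem_vgrp [Finite G] (C : Ctx S n σ s t O) {v : G} : v ∈ C.vgrp ↔ IsV t s v := Iff.rfl

theorem card_vgrp [Finite G] (C : Ctx S n σ s t O) : Nat.card C.vgrp = 4 := by
  have h : (C.vgrp : Set G) = {1, t, s, t * s} := rfl
  rw [show Nat.card C.vgrp = Set.ncard (C.vgrp : Set G) from (Nat.card_coe_set_eq _), h]
  have hts : t * s ≠ 1 := fun e => C.t_ne_s (by
    rw [mul_eq_one_iff_eq_inv, inv_eq_of_two C.ords] at e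
    exact e)
  have h1 : t ≠ t * s := fun e => ne_one_of_two C.ords (mul_eq_left.1 e.symm)
  have h2 : s ≠ t * s := fun e => ne_one_of_two C.ordt (mul_eq_right.1 e.symm)
  rw [Set.ncard_insert_of_notMem, Set.ncard_insert_of_notMem, Set.ncard_pair h2]
  · simp [C.t_ne_s, h1]
  · simp [(ne_one_of_two C.ordt).symm, (ne_one_of_two C.ords).symm, hts.symm]

theorem klein [Finite G] (C : Ctx S n σ s t O) : IsKleinFour C.vgrp where
  card_four := C.card_vgrp
  exponent_two := by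
    haveI : Nontrivial C.vgrp := Finite.one_lt_card_iff_nontrivial.1 (by rw [C.card_vgrp]; omega)
    exact Monoid.exponent_eq_prime_iff Nat.prime_two |>.2 fun g hg =>
      orderOf_eq_prime (Subtype.ext (by simpa [pow_two] using C.isV_sq g.2)) hg

/-- The reflection `σ * s`. -/
theorem refl [Finite G] (C : Ctx S n σ s t O) : Ctx S n σ (σ * s) t O where
  amb := C.amb
  one := C.one
  noSylow := C.noSylow
  iso := C.iso
  hn := C.hn
  pow := C.pow
  tdef := C.tdef
  σmem := C.σmem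
  smem := mul_mem C.σmem C.smem
  ordσ := C.ordσ
  ords := by
    refine orderOf_eq_two' (fun e => C.s_ne_pow (orderOf σ - 1) ?_) ?_
    · rw [mul_eq_one_iff_inv_eq] at e
      rw [← e]
      exact (pow_inv_of_order σ).symm
    · rw [show σ * s * (σ * s) = σ * (s * σ * s⁻¹) * (s * s) by group, C.rel, C.ss, mul_inv_cancel,
        one_mul]
  rel := by
    rw [mul_inv_rev, show σ * s * σ * (s⁻¹ * σ⁻¹) = σ * (s * σ * s⁻¹) * σ⁻¹ by group, C.rel,
      mul_inv_cancel, one_mul]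
  elem := fun a ha => by
    obtain ⟨i, rfl | rfl⟩ := C.elem a ha
    · exact ⟨i, Or.inl rfl⟩
    · refine ⟨i + (orderOf σ - 1), Or.inr ?_⟩
      rw [pow_add, show σ ^ (orderOf σ - 1) = σ⁻¹ from pow_inv_of_order σ]
      group
  cardS := C.cardS
  Ot := C.Ot
  Oodd := C.Oodd
  Onorm := C.Onorm
  Osplit := C.Osplit
  Omem := C.Omem
  Ocyc := C.Ocyc
where
  pow_inv_of_order [Finite G] (g : G) : g ^ (orderOf g - 1) = g⁻¹ := by
    rw [eq_inv_iff_mul_eq_one, ← pow_succ, Nat.sub_add_cancel (orderOf_pos g), pow_orderOf_eq_one]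

/-- A reflection fixing an element of prime order of `O` forces the rotation to invert it. -/
theorem inv_σ [Finite G] (C : Ctx S n σ s t O) {z : G} {r : ℕ} (hz : z ∈ O) (hr : r.Prime)
    (hzr : orderOf z = r) (hsz : s * z = z * s) : σ * z * σ⁻¹ = z⁻¹ := by
  have he : σ * s * (σ * s) = 1 := C.refl.ss
  have hconj : σ * s * z * (σ * s)⁻¹ = σ * z * σ⁻¹ := by
    rw [mul_inv_rev, show σ * s * z * (s⁻¹ * σ⁻¹) = σ * (s * z * s⁻¹) * σ⁻¹ by group, hsz,
      mul_inv_cancel_right]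
  have hmem : σ * z * σ⁻¹ ∈ zpowers z :=
    mem_zpowers_of_orderOf_eq C.Ocyc (C.Onorm σ C.σt z hz) hz (orderOf_conj_eq σ z)
  rcases eq_or_inv_of_two hr hzr he (hconj ▸ hmem) with h | h
  · exfalso
    rw [hconj] at h
    have hσz : σ * z = z * σ := mul_inv_eq_iff_eq_mul.1 h
    have hodd : Odd (orderOf z) := odd_orderOf_of_mem C.Oodd hz
    have := C.noSylow S z hodd fun a ha => by
      obtain ⟨i, rfl | rfl⟩ := C.elem a ha
      · exact Commute.pow_left hσz i
      · exact Commute.mul_left (Commute.pow_left hσz i) hsz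
    rw [this, orderOf_one] at hzr
    exact hr.one_lt.ne hzr
  · exact hconj ▸ h

/-- The order of the centralizer of the central involution. -/
theorem card_C [Finite G] (C : Ctx S n σ s t O) :
    Nat.card (centralizer ({t} : Set G)) = Nat.card O * (2 * n) := by
  rw [← C.cardS, ← Nat.card_prod]
  refine (Nat.card_eq_of_bijective (fun p : O × (S : Subgroup G) => (⟨(p.1 : G) * p.2,
    mem_centralizer_singleton_iff.2 ((Commute.mul_left (C.Ot p.1 p.1.2) (C.tcomm p.2.2)).eq)⟩ :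
      centralizer ({t} : Set G))) ⟨fun p q h => ?_, fun c => ?_⟩).symm
  · obtain ⟨h1, h2⟩ := C.uniq p.1.2 q.1.2 p.2.2 q.2.2 (congrArg Subtype.val h)
    exact Prod.ext (Subtype.ext h1) (Subtype.ext h2)
  · obtain ⟨o, ho, a, ha, h⟩ := C.Osplit c (mem_centralizer_singleton_iff.1 c.2)
    exact ⟨(⟨o, ho⟩, ⟨a, ha⟩), Subtype.ext h.symm⟩

theorem mem_centralizer_pair {t s c : G} :
    c ∈ centralizer ({t, s} : Set G) ↔ t * c = c * t ∧ s * c = c * s := by
  rw [mem_centralizer_iff]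
  exact ⟨fun h => ⟨h t (Or.inl rfl), h s (Or.inr rfl)⟩, fun h m hm => by
    rcases hm with rfl | rfl
    exacts [h.1, h.2]⟩

/-- The order of the centralizer of `t` and `s`. -/
theorem card_C_pair [Finite G] (C : Ctx S n σ s t O) :
    Nat.card (centralizer ({t, s} : Set G)) = Nat.card (O ⊓ centralizer ({s} : Set G) : Subgroup G) * 4 := by
  rw [← C.card_vgrp, ← Nat.card_prod]
  set W := O ⊓ centralizer ({s} : Set G) with hW
  have hWs : ∀ o : W, s * (o : G) = o * s := fun o => (mem_centralizer_singleton_iff.1 o.2.2).symm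
  have hVs : ∀ v : C.vgrp, s * (v : G) = v * s := fun v => by
    rcases v.2 with h | h | h | h
    · rw [h, mul_one, one_mul]
    · rw [h]
      exact C.st
    · rw [h]
    · rw [h]
      exact Commute.mul_right C.st (Commute.refl s)
  refine (Nat.card_eq_of_bijective (fun p : W × C.vgrp => (⟨(p.1 : G) * p.2,
    mem_centralizer_pair.2 ⟨(Commute.mul_left (C.Ot p.1 p.1.2.1) (C.tcomm (C.isV_mem p.2.2))).symm.eq,
      (Commute.mul_right (hWs p.1) (hVs p.2)).eq⟩⟩ : centralizer ({t, s} : Set G)))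
    ⟨fun p q h => ?_, fun c => ?_⟩).symm
  · obtain ⟨h1, h2⟩ := C.uniq p.1.2.1 q.1.2.1 (C.isV_mem p.2.2) (C.isV_mem q.2.2)
      (congrArg Subtype.val h)
    exact Prod.ext (Subtype.ext h1) (Subtype.ext h2)
  · obtain ⟨hct, hcs⟩ := mem_centralizer_pair.1 c.2
    obtain ⟨o, ho, a, ha, h, hso, hsa⟩ := C.split_comm C.smem hct.symm hcs
    exact ⟨(⟨o, ⟨ho, mem_centralizer_singleton_iff.2 hso.symm⟩⟩, ⟨a, C.mem_isV ha hsa⟩),
      Subtype.ext h.symm⟩

theorem closure_eq [Finite G] (C : Ctx S n σ s t O) :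
    closure ({σ, s} : Set G) = (S : Subgroup G) := by
  refine le_antisymm ((closure_le _).2 ?_) fun a ha => ?_
  · rintro x (rfl | rfl)
    exacts [C.σmem, C.smem]
  · have h1 : σ ∈ closure ({σ, s} : Set G) := subset_closure (Or.inl rfl)
    have h2 : s ∈ closure ({σ, s} : Set G) := subset_closure (Or.inr rfl)
    obtain ⟨i, rfl | rfl⟩ := C.elem a ha
    exacts [pow_mem h1 i, mul_mem (pow_mem h1 i) h2]

end Ctx

/-- The situation arising from an element of odd order centralising a four-subgroup. -/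
theorem exists_ctx [Finite G] (hC : CommonStmt.{u}) (hG : Amb G) (S : Sylow 2 G) (n : ℕ)
    (hn : 4 ≤ n) (φ : (S : Subgroup G) ≃* DihedralGroup n) {V : Subgroup G} (hV : IsKleinFour V)
    {x : G} (hx : Odd (orderOf x)) (hxV : ∀ v ∈ V, v * x = x * v) (hx1 : x ≠ 1) :
    ∃ (σ s t z : G) (O : Subgroup G) (r : ℕ), Ctx S n σ s t O ∧ z ∈ O ∧ r.Prime ∧ r ≠ 2 ∧
      orderOf z = r ∧ s * z = z * s := by
  haveI : Fact (Nat.Prime 2) := ⟨Nat.prime_two⟩
  haveI : NeZero n := ⟨by omega⟩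
  have one : OneClass G := hC.1 G hG S (Or.inl ⟨n, by omega, ⟨φ⟩⟩)
  have noSylow : ∀ P : Sylow 2 G, ∀ y : G, Odd (orderOf y) →
      (∀ a ∈ (P : Subgroup G), a * y = y * a) → y = 1 := by
    intro P y hy hPy
    by_contra h
    obtain ⟨k, r, hr, hr2, hk⟩ := exists_pow_prime hy h
    exact hC.2.1 G hG P (S3116.result P.2 (Or.inl ⟨n, hn, ⟨(P.equiv S).trans φ⟩⟩)) (y ^ k) r hr hr2 hk
      fun a ha => Commute.pow_right (hPy a ha) k
  have cardS : Nat.card (S : Subgroup G) = 2 * n := by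
    rw [Nat.card_congr φ.toEquiv, DihedralGroup.nat_card]
  have pow : ∃ k, n = 2 ^ k := by
    obtain ⟨k, hk⟩ := IsPGroup.iff_card.1 S.2
    rw [cardS] at hk
    match k with
    | 0 => simp at hk
    | k + 1 => exact ⟨k, by rw [pow_succ] at hk; omega⟩
  -- the rotation and the central involution
  set σ : G := ((φ.symm (DihedralGroup.r 1) : (S : Subgroup G)) : G) with hσ
  have σmem : σ ∈ (S : Subgroup G) := Subtype.coe_prop _
  have ordσ : orderOf σ = n := by
    rw [hσ, orderOf_coe, MulEquiv.orderOf_eq, DihedralGroup.orderOf_r_one]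
  have hrot : ∀ j : ZMod n, ((φ.symm (DihedralGroup.r j) : (S : Subgroup G)) : G) = σ ^ j.val := by
    intro j
    rw [hσ, ← SubmonoidClass.coe_pow, ← map_pow, DihedralGroup.r_one_pow, ZMod.natCast_zmod_val]
  set t := σ ^ (n / 2) with ht
  have h4 := two_dvd_of_four_le hn pow
  have ordt : orderOf t = 2 := by
    obtain ⟨m, hm⟩ := h4
    rw [ht, orderOf_pow' σ (by omega), ordσ,
      Nat.gcd_eq_right (Nat.div_dvd_of_dvd ⟨2 * m, by omega⟩),
      Nat.div_div_self ⟨2 * m, by omega⟩ (by omega)]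
  -- reflections
  have hrefl : ∀ s ∈ (S : Subgroup G), (∀ j : ℕ, s ≠ σ ^ j) → s * s = 1 → s * σ * s⁻¹ = σ⁻¹ ∧
      ∀ a ∈ (S : Subgroup G), ∃ i : ℕ, a = σ ^ i ∨ a = σ ^ i * s := by
    intro s hs hnot _
    obtain ⟨i, hi⟩ : ∃ i, φ ⟨s, hs⟩ = DihedralGroup.sr i := by
      match hv : φ ⟨s, hs⟩ with
      | .r j =>
        exfalso
        apply hnot j.val
        rw [← hrot, ← hv, MulEquiv.symm_apply_apply]
      | .sr j => exact ⟨j, rfl⟩
    have hsi : s = ((φ.symm (DihedralGroup.sr i) : (S : Subgroup G)) : G) := by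
      rw [← hi, MulEquiv.symm_apply_apply]
    refine ⟨?_, fun a ha => ?_⟩
    · rw [hsi, hσ, ← InvMemClass.coe_inv, ← InvMemClass.coe_inv, ← MulMemClass.coe_mul,
        ← MulMemClass.coe_mul, ← map_inv, ← map_inv, ← map_mul, ← map_mul, Subtype.coe_inj,
        EmbeddingLike.apply_eq_iff_eq, DihedralGroup.inv_sr, DihedralGroup.sr_mul_r,
        DihedralGroup.sr_mul_sr, DihedralGroup.inv_r]
      congr 1
      ring
    · match hv : φ ⟨a, ha⟩ with
      | .r j => exact ⟨j.val, Or.inl (by rw [← hrot, ← hv, MulEquiv.symm_apply_apply])⟩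
      | .sr j =>
        refine ⟨(i - j).val, Or.inr ?_⟩
        rw [← hrot, hsi, ← MulMemClass.coe_mul, ← map_mul, DihedralGroup.r_mul_sr, sub_sub_cancel,
          ← hv, MulEquiv.symm_apply_apply]
  have tcomm : ∀ a ∈ (S : Subgroup G), a * t = t * a := by
    intro a ha
    match hv : φ ⟨a, ha⟩ with
    | .r j =>
      have : a = σ ^ j.val := by rw [← hrot, ← hv, MulEquiv.symm_apply_apply]
      rw [this, ht]
      exact Commute.pow_pow (Commute.refl σ) _ _
    | .sr j =>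
      by_cases hnot : ∃ m : ℕ, a = σ ^ m
      · obtain ⟨m, rfl⟩ := hnot
        exact Commute.pow_pow (Commute.refl σ) _ _
      · have haa : a * a = 1 := by
          have : φ (⟨a, ha⟩ * ⟨a, ha⟩) = φ 1 := by
            rw [map_mul, hv, DihedralGroup.sr_mul_self, map_one]
          exact congrArg Subtype.val (φ.injective this)
        have h := (hrefl a ha (not_exists.1 hnot) haa).1
        have h' : a * t * a⁻¹ = t := by
          rw [ht, ← conj_pow, h, inv_pow, ← ht, inv_eq_of_two ordt]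
        exact mul_inv_eq_iff_eq_mul.1 h'
  -- the centralizer of t
  set C := centralizer ({t} : Set G) with hCdef
  obtain ⟨N, hN, hNodd, k, hk⟩ :
      ∃ N : Subgroup C, N.Normal ∧ Odd (Nat.card N) ∧ ∃ k : ℕ, N.index = 2 ^ k :=
    S0514.result S n (by omega) ⟨φ⟩ t ordt
  have hSC : (S : Subgroup G) ≤ C := fun a ha => mem_centralizer_singleton_iff.2 (tcomm a ha)
  have hcardSC : Nat.card ((S : Subgroup G).subgroupOf C) = 2 * n :=
    (Nat.card_congr (subgroupOfEquivOfLe hSC).toEquiv).trans cardS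
  have hk2 : 2 ^ k = 2 * n := by
    obtain ⟨k0, hk0⟩ := pow
    refine Nat.dvd_antisymm ?_ ?_
    · have h1 : 2 ^ k ∣ Nat.card G :=
        (hk ▸ N.index_dvd_card).trans (Subgroup.card_subgroup_dvd_card C)
      rw [← cardS]
      exact Sylow.pow_dvd_card_of_pow_dvd_card S h1
    · have h1 : 2 * n ∣ Nat.card N * 2 ^ k := by
        rw [← hk, N.card_mul_index, ← hcardSC]
        exact Subgroup.card_subgroup_dvd_card _
      refine (Nat.Coprime.dvd_of_dvd_mul_left ?_ h1)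
      rw [hk0, ← pow_succ']
      exact (Nat.coprime_two_left.2 hNodd).pow_left _
  have hcompl : IsComplement' N ((S : Subgroup G).subgroupOf C) := by
    refine isComplement'_of_coprime ?_ ?_
    · rw [hcardSC, ← hk2, ← hk, N.card_mul_index]
    · rw [hcardSC, ← hk2]
      exact ((Nat.coprime_two_left.2 hNodd).pow_left _).symm
  set O := N.map C.subtype with hO
  have Ot : ∀ o ∈ O, o * t = t * o := by
    rintro _ ⟨o, -, rfl⟩
    exact mem_centralizer_singleton_iff.1 o.2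
  have Oodd : Odd (Nat.card O) := by
    rw [hO, card_map_of_injective C.subtype_injective]
    exact hNodd
  have Onorm : ∀ c : G, c * t = t * c → ∀ o ∈ O, c * o * c⁻¹ ∈ O := by
    rintro c hc _ ⟨o, ho, rfl⟩
    exact ⟨⟨c, mem_centralizer_singleton_iff.2 hc⟩ * o * ⟨c, mem_centralizer_singleton_iff.2 hc⟩⁻¹,
      hN.conj_mem o ho _, rfl⟩
  have Osplit : ∀ c : G, c * t = t * c → ∃ o ∈ O, ∃ a ∈ (S : Subgroup G), c = o * a := by
    intro c hc
    obtain ⟨⟨⟨o, ho⟩, ⟨a, ha⟩⟩, h⟩ := hcompl.2 ⟨c, mem_centralizer_singleton_iff.2 hc⟩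
    exact ⟨o, ⟨o, ho, rfl⟩, a, ha, (congrArg Subtype.val h).symm⟩
  have Omem : ∀ c : G, c * t = t * c → Odd (orderOf c) → c ∈ O := by
    intro c hc hodd
    haveI := hN
    let c' : C := ⟨c, mem_centralizer_singleton_iff.2 hc⟩
    refine ⟨c', (QuotientGroup.eq_one_iff c').1 (orderOf_eq_one_iff.1 (Nat.eq_one_of_dvd_coprimes
      ((Nat.coprime_two_left.2 hodd).pow_left k) ?_ ?_)), rfl⟩
    · rw [← hk, Subgroup.index_eq_card]
      exact orderOf_dvd_natCard _
    · rw [← Subgroup.orderOf_mk c (mem_centralizer_singleton_iff.2 hc)]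
      exact orderOf_map_dvd (QuotientGroup.mk' N) c'
  have Ocyc : IsCyclic O := by
    refine hC.2.2.2.2.1 G hG.hyp.1 O (S : Subgroup G) Oodd S.2
      (Coprime.le_normalizer_of_conj_mem fun a ha o ho => Onorm a (tcomm a ha) o ho) fun o ho h => ?_
    exact noSylow S o (odd_orderOf_of_mem Oodd ho) h
  -- move the four-subgroup into S
  haveI := hV
  obtain ⟨k, r, hr, hr2, hkr⟩ := exists_pow_prime hx hx1
  set y := x ^ k with hy
  have hyV : ∀ v ∈ V, v * y = y * v := fun v hv => Commute.pow_right (hxV v hv) k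
  haveI : Nontrivial V := Finite.one_lt_card_iff_nontrivial.1 (by rw [hV.card_four]; omega)
  obtain ⟨⟨a, ha⟩, ha1⟩ := exists_ne (1 : V)
  obtain ⟨⟨b, hb⟩, hb'⟩ : ∃ b : V, b ∉ ({1, ⟨a, ha⟩} : Set V) := by
    by_contra! h
    have h2 := Nat.card_le_card_of_injective (fun v : V => (⟨v, h v⟩ : ({1, ⟨a, ha⟩} : Set V)))
      fun v w e => by simpa using congrArg Subtype.val e
    rw [hV.card_four, Nat.card_coe_set_eq, Set.ncard_pair ha1.symm] at h2
    omega
  simp only [Set.mem_insert_iff, Set.mem_singleton_iff, not_or] at hb'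
  have hord : ∀ v : V, v ≠ 1 → orderOf (v : G) = 2 := fun v hv => by
    rw [orderOf_coe]
    exact orderOf_eq_two' hv (IsKleinFour.mul_self v)
  have hab : a * b = b * a := congrArg Subtype.val
    (mul_comm_of_exponent_two IsKleinFour.exponent_two (⟨a, ha⟩ : V) ⟨b, hb⟩)
  obtain ⟨g, hg⟩ := isConj_iff.1 (one a t (hord ⟨a, ha⟩ ha1) ordt)
  set b1 := g * b * g⁻¹ with hb1
  set y1 := g * y * g⁻¹ with hy1
  have hb1t : b1 * t = t * b1 := hg ▸ conj_commute hab.symm
  have hb1y : b1 * y1 = y1 * b1 := conj_commute (hyV b hb)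
  have hy1t : y1 * t = t * y1 := hg ▸ conj_commute (hyV a ha).symm
  have hb1_two : orderOf b1 = 2 := (orderOf_conj_eq g b).trans (hord ⟨b, hb⟩ hb'.1)
  obtain ⟨o, ho, s, hs, hbs⟩ := Osplit b1 hb1t
  have hsO : s * o * s⁻¹ ∈ O := Onorm s (tcomm s hs) o ho
  have hsq : o * (s * o * s⁻¹) * (s * s) = 1 := by
    rw [← mul_self_of_two hb1_two, hbs]
    group
  have hss : s * s = 1 := by
    have h1 : s * s = (o * (s * o * s⁻¹))⁻¹ := eq_inv_of_mul_eq_one_right hsq
    refine orderOf_eq_one_iff.1 (Nat.eq_one_of_dvd_coprimes (a := Nat.card (S : Subgroup G))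
      (b := Nat.card O) ?_ ((S : Subgroup G).orderOf_dvd_natCard (mul_mem hs hs))
      (h1 ▸ O.orderOf_dvd_natCard (inv_mem (mul_mem ho hsO))))
    rw [cardS, ← hk2]
    exact (Nat.coprime_two_left.2 Oodd).pow_left _
  have hinv : s * o * s⁻¹ = o⁻¹ := by
    rw [hss, mul_one] at hsq
    exact eq_inv_of_mul_eq_one_right hsq
  set o1 := o ^ ((Nat.card O + 1) / 2) with ho1
  have ho1' : o1 * o1 = o := by
    obtain ⟨j, hj⟩ := Oodd
    rw [ho1, ← pow_add, show (Nat.card O + 1) / 2 + (Nat.card O + 1) / 2 = Nat.card O + 1 by omega,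
      pow_succ, orderOf_dvd_iff_pow_eq_one.1 (O.orderOf_dvd_natCard ho), one_mul]
  have ho1t : o1 * t = t * o1 := Ot _ (pow_mem ho _)
  have hs1 : o1⁻¹ * b1 * o1 = s := by
    have h1 : s * o1 * s⁻¹ = o1⁻¹ := by rw [ho1, ← conj_pow, hinv, inv_pow]
    rw [hbs, show o1⁻¹ * (o * s) * o1 = o1⁻¹ * o * (s * o1 * s⁻¹) * s by group, h1, ← ho1']
    group
  have hsords : orderOf s = 2 := by
    rw [← hs1]
    simpa using (orderOf_conj_eq o1⁻¹ b1).trans hb1_two
  have hst : s ≠ t := by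
    intro e
    apply hb'.2
    have h1 : b1 = t := by
      rw [← mul_right_inj o1⁻¹, ← mul_left_inj o1, hs1, e, mul_assoc, ← ho1t]
      group
    exact Subtype.ext ((MulAut.conj g).injective (h1.trans hg.symm))
  have hnot : ∀ j : ℕ, s ≠ σ ^ j := by
    intro j hj
    apply hst
    have h2 : σ ^ (j + j) = 1 := by rw [pow_add, ← hj, hss]
    rw [← orderOf_dvd_iff_pow_eq_one, ordσ] at h2
    obtain ⟨m, hm⟩ := h4
    obtain ⟨l, hl⟩ := h2
    subst hm
    rcases Nat.even_or_odd l with ⟨i, rfl⟩ | ⟨i, rfl⟩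
    · exfalso
      apply ne_one_of_two hsords
      rw [hj, show j = 4 * m * i by linarith, pow_mul, ← ordσ, pow_orderOf_eq_one, one_pow]
    · rw [hj, show j = 4 * m * i + 4 * m / 2 by
        rw [show 4 * m / 2 = 2 * m by omega]; linarith, pow_add, pow_mul, ← ordσ, pow_orderOf_eq_one,
        one_pow, one_mul, ordσ]
  obtain ⟨hrel, helem⟩ := hrefl s hs hnot hss
  set z := o1⁻¹ * y1 * o1 with hz
  have hzr : orderOf z = r := by
    rw [hz, ← hkr, ← orderOf_conj_eq g (x ^ k)]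
    simpa using orderOf_conj_eq o1⁻¹ y1
  have hzt : z * t = t * z :=
    Commute.mul_left (Commute.mul_left (Commute.inv_left ho1t) hy1t) ho1t
  refine ⟨σ, s, t, z, O, r, ⟨hG, one, noSylow, ⟨φ⟩, hn, pow, ht, σmem, hs, ordσ, hsords, hrel, helem,
    cardS, Ot, Oodd, Onorm, Osplit, Omem, Ocyc⟩, Omem z hzt (hzr ▸ odd_of_prime hr hr2), hr, hr2, hzr, ?_⟩
  rw [hz, ← hs1]
  simpa using (conj_commute (g := o1⁻¹) hb1y)

end Cfsg.Agent.Lib.CyclicOddSylow16.DihLarge
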