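import Cfsg.Agent.Lib.CyclicOddSylow16.DihLargeCtx

/-!
# Dihedral Sylow 2-subgroups of order at least 8: fusion in the centralizer of a fixed element
-/

set_option autoImplicit false

namespace Cfsg.Agent.Lib.CyclicOddSylow16.DihLarge

open Subgroup

universe u

variable {G : Type u} [Group G]

/-- An element permuting `t`, `s`, `t * s` cyclically. -/
structure Fus (O : Subgroup G) (s t f : G) : Prop where
  ft : f * t * f⁻¹ = s
  fs : f * s * f⁻¹ = t * s
  odd : Odd (orderOf f)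
  cube : f ^ 3 ∈ O
  fix : ∀ y ∈ O, s * y = y * s → f * y = y * f

/-- The product of two subgroups, the second normalising the first. -/
def prodSub [Finite G] (A B : Subgroup G) (h : ∀ b ∈ B, ∀ a ∈ A, b * a * b⁻¹ ∈ A) : Subgroup G where
  carrier := {x | ∃ a ∈ A, ∃ b ∈ B, x = a * b}
  mul_mem' := by
    rintro _ _ ⟨a, ha, b, hb, rfl⟩ ⟨a', ha', b', hb', rfl⟩
    exact ⟨a * (b * a' * b⁻¹), mul_mem ha (h b hb a' ha'), b * b', mul_mem hb hb', by group⟩
  one_mem' := ⟨1, one_mem _, 1, one_mem _, (mul_one 1).symm⟩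
  inv_mem' := by
    rintro _ ⟨a, ha, b, hb, rfl⟩
    exact ⟨b⁻¹ * a⁻¹ * b⁻¹⁻¹, h _ (inv_mem hb) _ (inv_mem ha), b⁻¹, inv_mem hb, by group⟩

theorem cube_conj (f a : G) : f ^ 3 * a * (f ^ 3)⁻¹ = f * (f * (f * a * f⁻¹) * f⁻¹) * f⁻¹ := by
  simp [pow_succ, mul_assoc]

theorem exists_fus [Finite G] {S : Sylow 2 G} {n : ℕ} {σ s t : G} {O : Subgroup G}
    (hC : CommonStmt.{u}) (C : Ctx S n σ s t O) : ∃ f : G, Fus O s t f := by
  obtain ⟨φ⟩ := C.iso
  obtain ⟨f, hfN, hfC, hf3, ⟨k, hk⟩, hfix⟩ :=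
    hC.2.2.2.2.2 G C.amb S (Or.inl ⟨n, by have := C.hn; omega, ⟨φ⟩⟩) C.vgrp C.klein
  have htV : t ∈ C.vgrp := Or.inr (Or.inl rfl)
  have hsV : s ∈ C.vgrp := Or.inr (Or.inr (Or.inl rfl))
  have conjV : ∀ g ∈ normalizer (C.vgrp : Set G), ∀ v ∈ C.vgrp, g * v * g⁻¹ ∈ C.vgrp :=
    fun g hg v hv => (mem_normalizer_iff.1 hg v).1 hv
  have hcent : ∀ g : G, g * t = t * g → g * s = s * g → g ∈ centralizer (C.vgrp : Set G) := by
    intro g ht hs
    rw [mem_centralizer_iff]
    rintro v (rfl | rfl | rfl | rfl)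
    exacts [Commute.one_left g, ht.symm, hs.symm, Commute.mul_left ht.symm hs.symm]
  -- the fixed elements
  have fix : ∀ y ∈ O, s * y = y * s → f * y = y * f := by
    intro y hy hsy
    refine hfix ?_ y (fun c hc => ?_) fun g hg => ?_
    · rw [C.cardS]
      have := C.hn
      omega
    · obtain ⟨o, ho, a, ha, rfl, -, hsa⟩ := C.split_comm C.smem
        (mem_centralizer_iff.1 hc t htV).symm (mem_centralizer_iff.1 hc s hsV)
      refine Commute.mul_left (C.Ocomm ho hy) ?_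
      rcases C.mem_isV ha hsa with rfl | rfl | rfl | rfl
      exacts [Commute.one_left y, (C.Ot y hy).symm, hsy, Commute.mul_left (C.Ot y hy).symm hsy]
    · have hcomm : ∀ v ∈ C.vgrp, v * (g * y * g⁻¹) = g * y * g⁻¹ * v := by
        intro v hv
        obtain ⟨w, hw, rfl⟩ : ∃ w ∈ C.vgrp, v = g * w * g⁻¹ :=
          ⟨g⁻¹ * v * g, by simpa using conjV g⁻¹ (inv_mem hg) v hv, by group⟩
        refine conj_commute ?_
        rcases hw with rfl | rfl | rfl | rfl
        exacts [Commute.one_left y, (C.Ot y hy).symm, hsy, Commute.mul_left (C.Ot y hy).symm hsy]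
      exact mem_zpowers_of_orderOf_eq C.Ocyc
        (C.Omem _ (hcomm t htV).symm ((orderOf_conj_eq g y).symm ▸ odd_orderOf_of_mem C.Oodd hy)) hy
        (orderOf_conj_eq g y)
  have fodd : Odd (orderOf f) := hk ▸ (by decide : Odd 3).pow
  have fcube : f ^ 3 ∈ O :=
    C.Omem _ (mem_centralizer_iff.1 hf3 t htV).symm (fodd.of_dvd_nat (orderOf_pow_dvd 3))
  -- the action on `t`
  have hne : ∀ v ∈ C.vgrp, v ≠ 1 → f * v * f⁻¹ ≠ 1 := fun v _ hv h =>
    hv ((MulAut.conj f).injective (h.trans (map_one _).symm))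
  have htf : f * t * f⁻¹ ≠ t := by
    intro h
    have hft : f * t = t * f := mul_inv_eq_iff_eq_mul.1 h
    rcases conjV f hfN s hsV with h1 | h1 | h1 | h1
    · exact hne s hsV (ne_one_of_two C.ords) h1
    · exact C.t_ne_s ((MulAut.conj f).injective (h.trans h1.symm))
    · exact hfC (hcent f hft (mul_inv_eq_iff_eq_mul.1 h1))
    · have h2 : f * (t * s) * f⁻¹ = s := by
        rw [show f * (t * s) * f⁻¹ = f * t * f⁻¹ * (f * s * f⁻¹) by group, h, h1, ← mul_assoc, C.tt,
          one_mul]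
      have h3 : f ^ 3 * s * (f ^ 3)⁻¹ = t * s := by
        rw [cube_conj f s, h1, h2, h1]
      rw [← (mem_centralizer_iff.1 hf3 s hsV), mul_inv_cancel_right] at h3
      exact ne_one_of_two C.ordt (mul_eq_right.1 h3.symm)
  have hsf : ∀ g : G, g ∈ normalizer (C.vgrp : Set G) → g * t * g⁻¹ = s → g * s * g⁻¹ ≠ t →
      g * s * g⁻¹ = t * s := by
    intro g hg h h'
    rcases conjV g hg s hsV with h1 | h1 | h1 | h1
    · exact absurd ((MulAut.conj g).injective (h1.trans (map_one _).symm)) (ne_one_of_two C.ords)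
    · exact absurd h1 h'
    · exact absurd ((MulAut.conj g).injective (h.trans h1.symm)) C.t_ne_s
    · exact h1
  rcases conjV f hfN t htV with h | h | h | h
  · exact absurd h (hne t htV (ne_one_of_two C.ordt))
  · exact absurd h htf
  · -- `f` moves `t` to `s`
    refine ⟨f, h, hsf f hfN h fun h1 => ?_, fodd, fcube, fix⟩
    have h3 : f ^ 3 * t * (f ^ 3)⁻¹ = s := by
      rw [cube_conj f t, h, h1, h]
    rw [← (mem_centralizer_iff.1 hf3 t htV), mul_inv_cancel_right] at h3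
    exact C.t_ne_s h3
  · -- `f` moves `t` to `t * s`, so `f * f` moves `t` to `s`
    have hs' : f * s * f⁻¹ = t := by
      rcases conjV f hfN s hsV with h1 | h1 | h1 | h1
      · exact absurd h1 (hne s hsV (ne_one_of_two C.ords))
      · exact h1
      · exfalso
        have h2 : f * (t * s) * f⁻¹ = t := by
          rw [show f * (t * s) * f⁻¹ = f * t * f⁻¹ * (f * s * f⁻¹) by group, h, h1, mul_assoc, C.ss,
            mul_one]
        have h3 : f ^ 3 * t * (f ^ 3)⁻¹ = t * s := by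
          rw [cube_conj f t, h, h2, h]
        rw [← (mem_centralizer_iff.1 hf3 t htV), mul_inv_cancel_right] at h3
        exact ne_one_of_two C.ords (mul_eq_left.1 h3.symm)
      · exact absurd ((MulAut.conj f).injective (h.trans h1.symm)) C.t_ne_s
    have hts : f * (t * s) * f⁻¹ = s := by
      rw [show f * (t * s) * f⁻¹ = f * t * f⁻¹ * (f * s * f⁻¹) by group, h, hs', mul_assoc, C.st,
        ← mul_assoc, C.tt, one_mul]
    refine ⟨f * f, ?_, ?_, fodd.of_dvd_nat (pow_two f ▸ orderOf_pow_dvd 2), ?_, fun y hy hsy =>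
      Commute.mul_left (fix y hy hsy) (fix y hy hsy)⟩
    · rw [show f * f * t * (f * f)⁻¹ = f * (f * t * f⁻¹) * f⁻¹ by group, h, hts]
    · rw [show f * f * s * (f * f)⁻¹ = f * (f * s * f⁻¹) * f⁻¹ by group, hs', h]
    · rw [← pow_two, ← pow_mul, show 2 * 3 = 3 * 2 from rfl, pow_mul]
      exact pow_mem fcube 2

namespace Fus

variable {O : Subgroup G} {s t f : G}

theorem fts [Finite G] {S : Sylow 2 G} {n : ℕ} {σ : G} (F : Fus O s t f) (C : Ctx S n σ s t O) :
    f * (t * s) * f⁻¹ = t := by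
  rw [show f * (t * s) * f⁻¹ = f * t * f⁻¹ * (f * s * f⁻¹) by group, F.ft, F.fs, ← mul_assoc, C.st,
    mul_assoc, C.ss, mul_one]

end Fus

namespace Ctx

variable {S : Sylow 2 G} {n : ℕ} {σ s t : G} {O : Subgroup G}

/-- Powers of the rotation fix or invert `z`. -/
theorem pow_σ_conj [Finite G] (C : Ctx S n σ s t O) {z : G} {r : ℕ} (hz : z ∈ O) (hr : r.Prime)
    (hzr : orderOf z = r) (hsz : s * z = z * s) (i : ℕ) :
    σ ^ i * z * (σ ^ i)⁻¹ = if Even i then z else z⁻¹ := by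
  induction i with
  | zero => simp
  | succ i ih =>
    rw [pow_succ', show σ * σ ^ i * z * (σ * σ ^ i)⁻¹ = σ * (σ ^ i * z * (σ ^ i)⁻¹) * σ⁻¹ by group, ih]
    rcases Nat.even_or_odd i with hi | hi
    · rw [if_pos hi, if_neg (by rw [Nat.even_add_one, not_not]; exact hi), C.inv_σ hz hr hzr hsz]
    · rw [if_neg (Nat.not_even_iff_odd.2 hi), if_pos (by rw [Nat.even_add_one, Nat.not_even_iff_odd]; exact hi),
        ← conj_inv, C.inv_σ hz hr hzr hsz, inv_inv]

/-- The elements of `S` centralising `z`. -/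
theorem S_cent [Finite G] (C : Ctx S n σ s t O) {z : G} {r : ℕ} (hz : z ∈ O) (hr : r.Prime)
    (hzr : orderOf z = r) (hsz : s * z = z * s) {a : G} (ha : a ∈ (S : Subgroup G))
    (haz : a * z = z * a) : ∃ j : ℕ, a = σ ^ (2 * j) ∨ a = σ ^ (2 * j) * s := by
  have key : ∀ i : ℕ, σ ^ i * z = z * σ ^ i → ∃ j, i = 2 * j := by
    intro i hi
    have h := C.pow_σ_conj hz hr hzr hsz i
    rw [hi, mul_inv_cancel_right] at h
    by_cases he : Even i
    · exact he.two_dvd
    · rw [if_neg he, eq_inv_iff_mul_eq_one] at h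
      have := eq_one_of_sq_of_odd (odd_orderOf_of_mem C.Oodd hz) h
      rw [this, orderOf_one] at hzr
      exact absurd hzr hr.one_lt.ne
  obtain ⟨i, rfl | rfl⟩ := C.elem a ha
  · obtain ⟨j, rfl⟩ := key i haz
    exact ⟨j, Or.inl rfl⟩
  · obtain ⟨j, rfl⟩ := key i (by
      have h : (σ ^ i * s) * z = z * (σ ^ i * s) := haz
      rw [mul_assoc, hsz, ← mul_assoc, ← mul_assoc] at h
      exact mul_right_cancel h)
    exact ⟨j, Or.inr rfl⟩

/-- A 2-subgroup centralising `z` has order at most `n`. -/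
theorem two_bound [Finite G] (C : Ctx S n σ s t O) {z : G} {r : ℕ} (hz : z ∈ O) (hr : r.Prime)
    (hzr : orderOf z = r) {P : Subgroup G} (hP : IsPGroup 2 P) (hPz : ∀ a ∈ P, a * z = z * a) :
    Nat.card P ≤ n := by
  haveI : Fact (Nat.Prime 2) := ⟨Nat.prime_two⟩
  obtain ⟨Q, hQ⟩ := hP.exists_le_sylow
  have hcQ : Nat.card (Q : Subgroup G) = 2 * n := (Nat.card_congr (Q.equiv S).toEquiv).trans C.cardS
  obtain ⟨k, hk⟩ := IsPGroup.iff_card.1 hP
  obtain ⟨k0, hk0⟩ := C.pow
  have hdvd := Subgroup.card_dvd_of_le hQ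
  rw [hcQ, hk, hk0, ← pow_succ'] at hdvd
  have hle : k ≤ k0 + 1 := (Nat.pow_dvd_pow_iff_le_right (by norm_num)).1 hdvd
  rcases hle.lt_or_eq with hlt | heq
  · rw [hk, hk0]
    exact Nat.pow_le_pow_right (by norm_num) (by omega)
  · exfalso
    have hPQ : P = (Q : Subgroup G) := Subgroup.eq_of_le_of_card_ge hQ
      (by rw [hcQ, hk, hk0, heq, pow_succ'])
    have := C.noSylow Q z (odd_orderOf_of_mem C.Oodd hz) fun a ha => hPz a (hPQ ▸ ha)
    rw [this, orderOf_one] at hzr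
    exact hr.one_lt.ne hzr

/-- All involutions centralising `z` are conjugate in the centralizer of `z`. -/
theorem involution_conj [Finite G] (C : Ctx S n σ s t O) {f : G} (F : Fus O s t f) {z : G} {r : ℕ}
    (hz : z ∈ O) (hr : r.Prime) (hzr : orderOf z = r) (hsz : s * z = z * s) {v : G}
    (hv : orderOf v = 2) (hvz : v * z = z * v) :
    ∃ k : G, k * z = z * k ∧ k * t * k⁻¹ = v := by
  haveI : Fact (Nat.Prime 2) := ⟨Nat.prime_two⟩
  set K := centralizer ({z} : Set G) with hK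
  have hmem : ∀ a : G, a ∈ K ↔ a * z = z * a := fun a => mem_centralizer_singleton_iff
  set D := ((S : Subgroup G) ⊓ K).subgroupOf K with hD
  have hidx : (K.subgroupOf (S : Subgroup G)).index = 2 := by
    rw [index_eq_two_iff]
    refine ⟨⟨σ, C.σmem⟩, fun b => ?_⟩
    have hb : ∀ i : ℕ, Xor (σ ^ i * σ * z = z * (σ ^ i * σ)) (σ ^ i * z = z * σ ^ i) := by
      intro i
      have key : ∀ j, (σ ^ j * z = z * σ ^ j ↔ Even j) := by
        intro j
        refine ⟨fun h => ?_, fun h => ?_⟩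
        · by_contra he
          have h1 := C.pow_σ_conj hz hr hzr hsz j
          rw [if_neg he, h, mul_inv_cancel_right, eq_inv_iff_mul_eq_one] at h1
          have := eq_one_of_sq_of_odd (odd_orderOf_of_mem C.Oodd hz) h1
          rw [this, orderOf_one] at hzr
          exact absurd hzr hr.one_lt.ne
        · have h1 := C.pow_σ_conj hz hr hzr hsz j
          rw [if_pos h] at h1
          exact mul_inv_eq_iff_eq_mul.1 h1
      rw [← pow_succ, key, key, Nat.even_add_one]
      by_cases he : Even i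
      · exact Or.inr ⟨he, not_not.2 he⟩
      · exact Or.inl ⟨he, he⟩
    rw [mem_subgroupOf, mem_subgroupOf, hmem, hmem]
    obtain ⟨i, h | h⟩ := C.elem b b.2
    · simp only [Subgroup.coe_mul, h]
      exact hb i
    · have hsσ : s * σ = σ⁻¹ * s := mul_inv_eq_iff_eq_mul.1 C.rel
      have e1 : (b : G) * σ = σ ^ i * σ⁻¹ * s := by rw [h, mul_assoc, hsσ, ← mul_assoc]
      have drop : ∀ a : G, (a * s * z = z * (a * s) ↔ a * z = z * a) := by
        intro a
        rw [mul_assoc, hsz, ← mul_assoc, ← mul_assoc]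
        exact mul_left_inj s
      simp only [Subgroup.coe_mul]
      rw [e1, h, drop, drop]
      have hinv : σ⁻¹ = σ ^ (orderOf σ - 1) := (Ctx.refl.pow_inv_of_order σ).symm
      obtain ⟨m, hm⟩ := C.four_dvd
      have hi : σ ^ i * σ⁻¹ * z = z * (σ ^ i * σ⁻¹) ↔ σ ^ i * σ * z = z * (σ ^ i * σ) := by
        have h2 : σ ^ 2 * z = z * σ ^ 2 := by
          have := C.pow_σ_conj hz hr hzr hsz 2
          rw [if_pos even_two] at this
          exact mul_inv_eq_iff_eq_mul.1 this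
        rw [show σ ^ i * σ = σ ^ i * σ⁻¹ * σ ^ 2 by group]
        exact ⟨fun h1 => Commute.mul_left h1 h2, fun h1 => by
          have := Commute.mul_left h1 (Commute.inv_left h2)
          rwa [mul_inv_cancel_right] at this⟩
      rw [hi]
      exact hb i
  have hcD : Nat.card D = n := by
    have h1 := (K.subgroupOf (S : Subgroup G)).card_mul_index
    rw [hidx, C.cardS, mul_comm, mul_right_inj' two_ne_zero] at h1
    rw [← h1, hD, Nat.card_congr (subgroupOfEquivOfLe inf_le_right).toEquiv,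
      ← inf_subgroupOf_left K, Nat.card_congr (subgroupOfEquivOfLe inf_le_left).toEquiv]
  have hDp : IsPGroup 2 D := (S.2.to_le inf_le_left).comap_subtype
  obtain ⟨Q, hQ⟩ := hDp.exists_le_sylow
  have hQD : D = (Q : Subgroup K) := by
    refine Subgroup.eq_of_le_of_card_ge hQ ?_
    rw [hcD, ← card_map_of_injective K.subtype_injective]
    exact C.two_bound hz hr hzr (Q.2.map _) (by
      rintro _ ⟨a, -, rfl⟩
      exact (hmem a).1 a.2)
  let v' : K := ⟨v, (hmem v).2 hvz⟩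
  have hv' : IsPGroup 2 (zpowers v') := by
    refine IsPGroup.of_card (n := 1) ?_
    rw [Nat.card_zpowers, Subgroup.orderOf_mk, hv, pow_one]
  obtain ⟨R, hR⟩ := hv'.exists_le_sylow
  obtain ⟨k, hk⟩ := MulAction.exists_smul_eq K R Q
  have hmemD : k * v' * k⁻¹ ∈ D := by
    rw [hQD, ← hk, Sylow.coe_subgroup_smul]
    exact ⟨v', hR (mem_zpowers v'), rfl⟩
  rw [hD, mem_subgroupOf] at hmemD
  set w : G := (k : G) * v * (k : G)⁻¹ with hw
  have hwS : w ∈ (S : Subgroup G) := hmemD.1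
  have hwz : w * z = z * w := (hmem w).1 hmemD.2
  have hkz : (k : G) * z = z * (k : G) := (hmem k).1 k.2
  have hw2 : orderOf w = 2 := (orderOf_conj_eq _ v).trans hv
  suffices h : ∃ c : G, c * z = z * c ∧ c * t * c⁻¹ = w by
    obtain ⟨c, hc, hcw⟩ := h
    refine ⟨(k : G)⁻¹ * c, Commute.mul_left (Commute.inv_left hkz) hc, ?_⟩
    rw [show (k : G)⁻¹ * c * t * ((k : G)⁻¹ * c)⁻¹ = (k : G)⁻¹ * (c * t * c⁻¹) * k by group, hcw, hw]
    group
  obtain ⟨j, hj | hj⟩ := C.S_cent hz hr hzr hsz hwS hwz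
  · rcases C.rot_sq (i := 2 * j) (hj ▸ mul_self_of_two hw2) with h1 | h1
    · exact absurd (hj.trans h1) (ne_one_of_two hw2)
    · exact ⟨1, by rw [one_mul, mul_one], by rw [hj, h1]; group⟩
  · refine ⟨σ ^ j * f * (σ ^ j)⁻¹, ?_, ?_⟩
    · have hfz : f * z = z * f := F.fix z hz hsz
      have h1 : σ ^ j * f * (σ ^ j)⁻¹ * (σ ^ j * z * (σ ^ j)⁻¹) =
          σ ^ j * z * (σ ^ j)⁻¹ * (σ ^ j * f * (σ ^ j)⁻¹) := conj_commute hfz
      rw [C.pow_σ_conj hz hr hzr hsz j] at h1
      split_ifs at h1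
      · exact h1
      · have := Commute.inv_right h1
        rwa [inv_inv] at this
    · have htj : (σ ^ j)⁻¹ * t * σ ^ j = t := by
        rw [mul_assoc, ← (Commute.pow_left C.σt j).eq, inv_mul_cancel_left]
      have hsj : s * (σ ^ j)⁻¹ = σ ^ j * s := by
        have := C.conj_pow_σ j
        rw [mul_inv_eq_iff_eq_mul] at this
        rw [mul_inv_eq_iff_eq_mul, mul_assoc, this, mul_inv_cancel_left]
      rw [show σ ^ j * f * (σ ^ j)⁻¹ * t * (σ ^ j * f * (σ ^ j)⁻¹)⁻¹ =
        σ ^ j * (f * ((σ ^ j)⁻¹ * t * σ ^ j) * f⁻¹) * (σ ^ j)⁻¹ by group, htj, F.ft, hj, mul_assoc,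
        hsj, ← mul_assoc, ← pow_add, two_mul]

end Ctx

end Cfsg.Agent.Lib.CyclicOddSylow16.DihLarge
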