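import Cfsg.Agent.Lib.CyclicOddSylow16.DihLargeFusion

/-!
# Dihedral Sylow 2-subgroups of order at least 8: the centralizer of a fixed element is solvable
-/

set_option autoImplicit false

namespace Cfsg.Agent.Lib.CyclicOddSylow16.DihLarge

open Subgroup

universe u

variable {G : Type u} [Group G]

theorem center_eq_bot_of_amb (hG : Amb G) : center G = ⊥ := by
  haveI := hG.simple
  rcases IsSimpleGroup.eq_bot_or_eq_top_of_normal (center G) inferInstance with h | h
  · exact h
  · refine absurd ⟨⟨fun a b => ?_⟩⟩ hG.nonab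
    exact (mem_center_iff.1 (h ▸ mem_top a : a ∈ center G) b).symm

theorem sl2_involution_unique {p : ℕ} [Fact p.Prime] (hp : 5 ≤ p) (v w : SL2 p)
    (hv : v * v = 1) (hv1 : v ≠ 1) (hw : w * w = 1) (hw1 : w ≠ 1) : v = w := by
  have h2 : (2 : ZMod p) ≠ 0 := by
    intro h
    have : ((2 : ℕ) : ZMod p) = 0 := by exact_mod_cast h
    rw [ZMod.natCast_eq_zero_iff] at this
    have := Nat.le_of_dvd two_pos this
    omega
  have key : ∀ u : SL2 p, u * u = 1 → u ≠ 1 →
      u.1 0 0 = -1 ∧ u.1 0 1 = 0 ∧ u.1 1 0 = 0 ∧ u.1 1 1 = -1 := by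
    intro u hu hu1
    have hm : u.1 * u.1 = 1 := by
      rw [← Matrix.SpecialLinearGroup.coe_mul, hu, Matrix.SpecialLinearGroup.coe_one]
    have hd := u.2
    rw [Matrix.det_fin_two] at hd
    have e00 := congrFun (congrFun hm 0) 0
    have e01 := congrFun (congrFun hm 0) 1
    have e10 := congrFun (congrFun hm 1) 0
    have e11 := congrFun (congrFun hm 1) 1
    simp [Matrix.mul_apply, Fin.sum_univ_two] at e00 e01 e10 e11
    have ha : u.1 0 0 * (u.1 0 0 + u.1 1 1) = 2 := by linear_combination hd + e00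
    have hs : u.1 0 0 + u.1 1 1 ≠ 0 := fun h => h2 (by rw [← ha, h, mul_zero])
    have hb : u.1 0 1 = 0 := (mul_eq_zero.1 (show u.1 0 1 * (u.1 0 0 + u.1 1 1) = 0 by
      linear_combination e01)).resolve_right hs
    have hc : u.1 1 0 = 0 := (mul_eq_zero.1 (show u.1 1 0 * (u.1 0 0 + u.1 1 1) = 0 by
      linear_combination e10)).resolve_right hs
    have had : u.1 0 0 = u.1 1 1 := mul_right_cancel₀ hs (by linear_combination e00 - e11)
    have hsq : u.1 0 0 * u.1 0 0 = 1 := by
      rw [hb, zero_mul, add_zero] at e00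
      exact e00
    rcases mul_self_eq_one_iff.1 hsq with h | h
    · exfalso
      apply hu1
      ext i j
      fin_cases i <;> fin_cases j <;> simp [hb, hc, h, ← had]
    · exact ⟨h, hb, hc, had ▸ h⟩
  obtain ⟨a1, a2, a3, a4⟩ := key v hv hv1
  obtain ⟨b1, b2, b3, b4⟩ := key w hw hw1
  ext i j
  fin_cases i <;> fin_cases j <;> simp [a1, a2, a3, a4, b1, b2, b3, b4]

namespace Ctx

variable {S : Sylow 2 G} {n : ℕ} {σ s t : G} {O : Subgroup G}

theorem refl_conj_s [Finite G] (C : Ctx S n σ s t O) :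
    σ * s * s * (σ * s)⁻¹ = σ ^ 2 * s := by
  rw [show σ * s * s * (σ * s)⁻¹ = σ * (s * σ⁻¹ * s⁻¹) * (s * s) * s⁻¹ by group, C.ss, mul_one,
    ← conj_inv, C.rel, inv_inv, inv_eq_of_two C.ords, pow_two]

/-- Conjugation by the reflection `σ * s` preserves the centralizer of `z`. -/
theorem refl_cent [Finite G] (C : Ctx S n σ s t O) {z : G} {r : ℕ} (hz : z ∈ O) (hr : r.Prime)
    (hzr : orderOf z = r) (hsz : s * z = z * s) :
    σ * s * z * (σ * s)⁻¹ = z⁻¹ ∧
    ∀ k : G, k * z = z * k → σ * s * k * (σ * s)⁻¹ * z = z * (σ * s * k * (σ * s)⁻¹) := by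
  have h1 : σ * s * z * (σ * s)⁻¹ = z⁻¹ := by
    rw [mul_inv_rev, show σ * s * z * (s⁻¹ * σ⁻¹) = σ * (s * z * s⁻¹) * σ⁻¹ by group, hsz,
      mul_inv_cancel_right, C.inv_σ hz hr hzr hsz]
  refine ⟨h1, fun k hk => ?_⟩
  have h2 := conj_commute (g := σ * s) hk
  rw [h1] at h2
  have := Commute.inv_right h2
  rwa [inv_inv] at this

/-- The centralizer of `z` is solvable. -/
theorem solvable [Finite G] (C : Ctx S n σ s t O) {f : G} (F : Fus O s t f) (hP : ModelPSLStmt)
    {z : G} {r : ℕ} (hz : z ∈ O) (hr : r.Prime) (hzr : orderOf z = r) (hsz : s * z = z * s) :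
    Group.IsSolvable (centralizer ({z} : Set G)) := by
  by_contra hns
  have hr2 : r ≠ 2 := ne_two_of_odd (hzr ▸ odd_orderOf_of_mem C.Oodd hz)
  set K := centralizer ({z} : Set G) with hK
  have hmem : ∀ a : G, a ∈ K ↔ a * z = z * a := fun a => mem_centralizer_singleton_iff
  have hKtop : K ≠ ⊤ := by
    intro h
    have hc : z ∈ center G := mem_center_iff.2 fun g => (hmem g).1 (h ▸ mem_top g)
    rw [center_eq_bot_of_amb C.amb, mem_bot] at hc
    rw [hc, orderOf_one] at hzr
    exact hr.one_lt.ne hzr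
  obtain ⟨X, L, hXn, hLn, hXodd, hcop, hcomm, hidx, p, hpf, hp5, hiso⟩ := C.amb.below K hKtop hns
  haveI := hXn
  haveI := hLn
  haveI := hpf
  have hzt : t * z = z * t := (C.Ot z hz).symm
  let tK : K := ⟨t, (hmem t).2 hzt⟩
  let sK : K := ⟨s, (hmem s).2 hsz⟩
  -- the index of `L`
  have hLidx : L.index ∣ Nat.card X * 2 := by
    rw [← relIndex_mul_index (le_sup_right : L ≤ X ⊔ L), relIndex_sup_right]
    exact mul_dvd_mul (relIndex_dvd_card _ _) hidx
  have hLeven : ¬ Odd (Nat.card L) := by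
    intro hodd
    have hle : C.vgrp ≤ K := by
      intro v hv
      rw [hmem]
      rcases hv with rfl | rfl | rfl | rfl
      exacts [Commute.one_left z, hzt, hsz, Commute.mul_left hzt hsz]
    have h4 : 2 * 2 ∣ Nat.card X * 2 * Nat.card L := by
      refine dvd_trans ?_ (mul_dvd_mul_right hLidx (Nat.card L))
      rw [mul_comm L.index, L.card_mul_index]
      have h := Subgroup.card_dvd_of_le hle
      rwa [C.card_vgrp] at h
    rw [mul_right_comm] at h4
    exact Nat.not_even_iff_odd.2 (hXodd.mul hodd)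
      (even_iff_two_dvd.2 (Nat.dvd_of_mul_dvd_mul_right two_pos h4))
  have hinvL : ∀ v : K, orderOf v = 2 → v ∈ L := by
    intro v hv
    haveI : Fact (Nat.Prime 2) := ⟨Nat.prime_two⟩
    obtain ⟨w, hw⟩ := exists_prime_orderOf_dvd_card' (G := L) 2
      (even_iff_two_dvd.1 (Nat.not_odd_iff_even.1 hLeven))
    have hvG : orderOf (v : G) = 2 := by rw [orderOf_coe, hv]
    have hwG : orderOf ((w : K) : G) = 2 := by rw [orderOf_coe, orderOf_coe, hw]
    obtain ⟨k1, hk1, e1⟩ := C.involution_conj F hz hr hzr hsz hvG ((hmem _).1 v.2)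
    obtain ⟨k2, hk2, e2⟩ := C.involution_conj F hz hr hzr hsz hwG ((hmem _).1 (w : K).2)
    let k : K := ⟨k1 * k2⁻¹, (hmem _).2 (Commute.mul_left hk1 (Commute.inv_left hk2))⟩
    have : v = k * (w : K) * k⁻¹ := Subtype.ext (by
      change (v : G) = k1 * k2⁻¹ * ((w : K) : G) * (k1 * k2⁻¹)⁻¹
      rw [← e1, ← e2]
      group)
    exact this ▸ hLn.conj_mem _ w.2 _
  have htL : tK ∈ L := hinvL _ (by rw [Subgroup.orderOf_mk, C.ordt])
  have hsL : sK ∈ L := hinvL _ (by rw [Subgroup.orderOf_mk, C.ords])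
  rcases hiso with ⟨⟨ι⟩⟩ | ⟨⟨ι⟩⟩
  swap
  · -- the group `SL₂(p)` has a single involution
    refine C.t_ne_s (congrArg (fun x : L => ((x : K) : G)) (ι.injective (a₁ := ⟨tK, htL⟩)
      (a₂ := ⟨sK, hsL⟩) (sl2_involution_unique hp5 _ _ ?_ ?_ ?_ ?_)))
    · rw [← map_mul, ← map_one ι]
      exact congrArg ι (Subtype.ext (Subtype.ext C.tt))
    · rw [Ne, ← map_one ι, ι.injective.eq_iff]
      exact fun h => ne_one_of_two C.ordt (congrArg (fun x : L => ((x : K) : G)) h)
    · rw [← map_mul, ← map_one ι]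
      exact congrArg ι (Subtype.ext (Subtype.ext C.ss))
    · rw [Ne, ← map_one ι, ι.injective.eq_iff]
      exact fun h => ne_one_of_two C.ords (congrArg (fun x : L => ((x : K) : G)) h)
  haveI : IsSimpleGroup (PSL2 p) :=
    Matrix.ProjectiveSpecialLinearGroup.rank_two_simple (by rw [Nat.card_zmod]; omega)
  haveI : Nontrivial L := ι.toEquiv.nontrivial
  haveI : IsSimpleGroup L :=
    IsSimpleGroup.isSimpleGroup_of_surjective ι.symm.toMonoidHom ι.symm.surjective
  -- the reflection `e` normalises `L`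
  set e := σ * s with he
  have he2 : e * e = 1 := C.refl.ss
  obtain ⟨hez, heK⟩ := C.refl_cent hz hr hzr hsz
  let ψ : K →* K := MonoidHom.mk' (fun k => ⟨e * (k : G) * e⁻¹, (hmem _).2 (heK k ((hmem _).1 k.2))⟩)
    fun a b => Subtype.ext (by simp [mul_assoc])
  have hψψ : Function.Involutive ψ := fun k => Subtype.ext (by
    change e * (e * (k : G) * e⁻¹) * e⁻¹ = (k : G)
    rw [← mul_assoc, ← mul_assoc, he2, one_mul, mul_assoc, ← mul_inv_rev, he2, inv_one, mul_one])
  have het : e * t * e⁻¹ = t := mul_inv_eq_iff_eq_mul.2 (C.tcomm (mul_mem C.σmem C.smem))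
  have hψt : ψ tK = tK := Subtype.ext het
  have heL : ∀ k : K, k ∈ L → ψ k ∈ L := by
    intro k hk
    haveI : (L.map ψ).Normal := hLn.map ψ hψψ.surjective
    rcases IsSimpleGroup.eq_bot_or_eq_top_of_normal ((L.map ψ).subgroupOf L) inferInstance with h | h
    · exfalso
      have : (⟨tK, htL⟩ : L) ∈ (L.map ψ).subgroupOf L :=
        mem_subgroupOf.2 ⟨tK, htL, hψt⟩
      rw [h, mem_bot] at this
      exact ne_one_of_two C.ordt (congrArg (fun x : L => ((x : K) : G)) this)
    · obtain ⟨k', hk', he'⟩ := (subgroupOf_eq_top.1 h) hk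
      rw [← he', hψψ k']
      exact hk'
  -- the centre of `L`
  have hcentre : ∀ a : L, (∀ b : L, a * b = b * a) → a = 1 := by
    intro a ha
    rcases IsSimpleGroup.eq_bot_or_eq_top_of_normal (center L) inferInstance with h | h
    · exact mem_bot.1 (h ▸ mem_center_iff.2 fun b => (ha b).symm)
    · exfalso
      haveI : (zpowers (⟨tK, htL⟩ : L)).Normal := ⟨fun x hx g => by
        rwa [(mem_center_iff.1 (h ▸ mem_top x : x ∈ center L) g), mul_inv_cancel_right]⟩
      rcases IsSimpleGroup.eq_bot_or_eq_top_of_normal (zpowers (⟨tK, htL⟩ : L)) inferInstance with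
        h1 | h1
      · exact ne_one_of_two C.ordt
          (congrArg (fun x : L => ((x : K) : G)) (zpowers_eq_bot.1 h1))
      · obtain ⟨i, hi⟩ := mem_zpowers_iff.1 (h1 ▸ mem_top (⟨sK, hsL⟩ : L))
        have hi' : t ^ i = s := congrArg (fun x : L => ((x : K) : G)) hi
        rcases Int.even_or_odd i with ⟨j, rfl⟩ | ⟨j, rfl⟩
        · rw [← two_mul, zpow_mul, zpow_two, C.tt, one_zpow] at hi'
          exact ne_one_of_two C.ords hi'.symm
        · rw [zpow_add, zpow_mul, zpow_two, C.tt, one_zpow, one_mul, zpow_one] at hi'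
          exact C.t_ne_s hi'
  -- the automorphisms
  let α : MulAut L :=
    { toFun := fun l => ⟨ψ (l : K), heL l l.2⟩
      invFun := fun l => ⟨ψ (l : K), heL l l.2⟩
      left_inv := fun l => Subtype.ext (hψψ (l : K))
      right_inv := fun l => Subtype.ext (hψψ (l : K))
      map_mul' := fun a b => Subtype.ext (map_mul ψ (a : K) (b : K)) }
  set I := (MulAut.conj : L →* MulAut L).range with hI
  have hα : α ∉ I := by
    rintro ⟨l, hl⟩
    set h := ((l : K) : G)⁻¹ * e with hh
    have hfix : ∀ v : L, h * ((v : K) : G) * h⁻¹ = ((v : K) : G) := by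
      intro v
      have hv : ((l : K) : G) * ((v : K) : G) * ((l : K) : G)⁻¹ = e * ((v : K) : G) * e⁻¹ :=
        congrArg (fun x : L => ((x : K) : G)) (DFunLike.congr_fun hl v)
      rw [hh, show ((l : K) : G)⁻¹ * e * ((v : K) : G) * (((l : K) : G)⁻¹ * e)⁻¹ =
        ((l : K) : G)⁻¹ * (e * ((v : K) : G) * e⁻¹) * ((l : K) : G) by group, ← hv]
      group
    have h1 : h * t = t * h := mul_inv_eq_iff_eq_mul.1 (hfix ⟨tK, htL⟩)
    have h2 : s * h = h * s := (mul_inv_eq_iff_eq_mul.1 (hfix ⟨sK, hsL⟩)).symm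
    obtain ⟨o, ho, a, ha, hoa, -, hsa⟩ := C.split_comm C.smem h1 h2
    have hcz : h * z = z * h := by
      rw [hoa]
      refine Commute.mul_left (C.Ocomm ho hz) ?_
      rcases C.mem_isV ha hsa with rfl | rfl | rfl | rfl
      exacts [Commute.one_left z, hzt, hsz, Commute.mul_left hzt hsz]
    have hlz : ((l : K) : G) * z = z * ((l : K) : G) := (hmem _).1 (l : K).2
    have hcz' : e * z = z * e := by
      have := Commute.mul_left hlz hcz
      rwa [hh, mul_inv_cancel_left] at this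
    rw [hcz', mul_inv_cancel_right, eq_inv_iff_mul_eq_one] at hez
    have := eq_one_of_sq_of_odd (odd_orderOf_of_mem C.Oodd hz) hez
    rw [this, orderOf_one] at hzr
    exact hr.one_lt.ne hzr
  have hinj : Function.Injective (MulAut.conj : L →* MulAut L) := by
    rw [injective_iff_map_eq_one]
    intro a ha
    exact hcentre a fun b => mul_inv_eq_iff_eq_mul.1 (DFunLike.congr_fun ha b)
  obtain ⟨hcard, γ0, hγ0, hγ02, y0, q, hq, hq2, hy0, hγy, hy0c⟩ := hP p hp5
  have hindex : I.index = 2 := by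
    have h1 : Nat.card I = Nat.card L := (Nat.card_congr (MonoidHom.ofInjective hinj).toEquiv).symm
    have h2 : Nat.card (MulAut L) = 2 * Nat.card L := by
      rw [Nat.card_congr (MulAut.congr ι).toEquiv, hcard, Nat.card_congr ι.toEquiv]
    have h3 := I.card_mul_index
    rw [h1, h2, mul_comm 2] at h3
    exact Nat.eq_of_mul_eq_mul_left Nat.card_pos h3
  set γ : MulAut L := MulAut.congr ι.symm γ0 with hγ
  have hγapp : ∀ l : L, γ l = ι.symm (γ0 (ι l)) := fun _ => rfl
  have hγI : γ ∉ I := by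
    rintro ⟨l, hl⟩
    refine hγ0 (ι l) (MulEquiv.ext fun x => ?_)
    have hx := DFunLike.congr_fun hl (ι.symm x)
    rw [hγapp, MulAut.conj_apply, MulEquiv.apply_symm_apply] at hx
    have := congrArg ι hx
    simpa using this.symm
  obtain ⟨l, hl⟩ : γ * α⁻¹ ∈ I := by
    rw [mul_mem_iff_of_index_two hindex]
    exact ⟨fun h => absurd h hγI, fun h => absurd (inv_mem_iff.1 h) hα⟩
  have hγeq : γ = MulAut.conj l * α := by rw [hl, inv_mul_cancel_right]
  set g := ((l : K) : G) * e with hg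
  have hgact : ∀ v : L, g * ((v : K) : G) * g⁻¹ = ((γ v : K) : G) := by
    intro v
    have hlv : γ v = l * α v * l⁻¹ := by rw [hγeq]; rfl
    rw [hlv, hg]
    change _ = ((l : K) : G) * (e * ((v : K) : G) * e⁻¹) * ((l : K) : G)⁻¹
    group
  have hγ2 : γ * γ = 1 := by rw [hγ, ← map_mul, hγ02, map_one]
  have hgg : g * g = 1 := by
    let m : L := l * α l
    have hm : g * g = ((m : K) : G) := by
      have he' : e⁻¹ = e := inv_eq_of_mul_eq_one_right he2
      change ((l : K) : G) * e * (((l : K) : G) * e) = ((l : K) : G) * (e * ((l : K) : G) * e⁻¹)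
      rw [he']
      group
    have hm1 : m = 1 := by
      refine hcentre m fun v => ?_
      apply Subtype.ext
      apply Subtype.ext
      change ((m : K) : G) * ((v : K) : G) = ((v : K) : G) * ((m : K) : G)
      rw [← hm, ← mul_inv_eq_iff_eq_mul,
        show g * g * ((v : K) : G) * (g * g)⁻¹ = g * (g * ((v : K) : G) * g⁻¹) * g⁻¹ by group,
        hgact, hgact, ← MulAut.mul_apply, hγ2, MulAut.one_apply]
    rw [hm, hm1]
    rfl
  have hg1 : g ≠ 1 := by
    intro h
    refine hγI ⟨1, MulEquiv.ext fun v => Subtype.ext (Subtype.ext ?_)⟩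
    rw [← hgact v, h]
    simp
  obtain ⟨c, hc⟩ := isConj_iff.1 (C.one g t (orderOf_eq_two' hg1 hgg) C.ordt)
  set y : L := ι.symm y0 with hy
  have hyq : orderOf ((y : K) : G) = q := by
    rw [orderOf_coe, orderOf_coe, hy, MulEquiv.orderOf_eq, hy0]
  have hgy : g * ((y : K) : G) = ((y : K) : G) * g := by
    rw [← mul_inv_eq_iff_eq_mul, hgact, hy, hγapp, MulEquiv.apply_symm_apply, hγy]
  set y' := c * ((y : K) : G) * c⁻¹ with hy'
  have hy't : y' * t = t * y' := hc ▸ (conj_commute hgy).symm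
  have hy'q : orderOf y' = q := (orderOf_conj_eq c _).trans hyq
  have hy'O : y' ∈ O := C.Omem y' hy't (hy'q ▸ odd_of_prime hq hq2)
  let yK : K := ⟨y', (hmem _).2 (C.Ocomm hy'O hz)⟩
  have hqL : q ∣ Nat.card L := by
    rw [← hy0, ← MulEquiv.orderOf_eq ι.symm y0]
    exact orderOf_dvd_natCard _
  have hyKL : yK ∈ L := by
    refine (QuotientGroup.eq_one_iff yK).1 (orderOf_eq_one_iff.1 (Nat.eq_one_of_dvd_coprimes
      (a := q) (b := Nat.card X * 2) ?_ ?_ ?_))
    · refine Nat.Coprime.mul_right ?_ ((Nat.coprime_primes hq Nat.prime_two).2 hq2)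
      exact (Nat.Coprime.coprime_dvd_right hqL hcop).symm
    · rw [← hy'q, ← Subgroup.orderOf_mk y' ((hmem _).2 (C.Ocomm hy'O hz))]
      exact orderOf_map_dvd (QuotientGroup.mk' L) yK
    · refine dvd_trans ?_ hLidx
      rw [Subgroup.index_eq_card]
      exact orderOf_dvd_natCard _
  have hv2 : orderOf (ι ⟨tK, htL⟩) = 2 := by
    rw [MulEquiv.orderOf_eq, Subgroup.orderOf_mk, Subgroup.orderOf_mk, C.ordt]
  refine hy0c (ι ⟨tK, htL⟩) hv2 ?_
  have hyq' : orderOf (ι ⟨yK, hyKL⟩) = q := by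
    rw [MulEquiv.orderOf_eq, Subgroup.orderOf_mk, Subgroup.orderOf_mk, hy'q]
  rw [← hyq']
  refine Subgroup.orderOf_dvd_natCard _ (mem_centralizer_singleton_iff.2 ?_)
  rw [← map_mul, ← map_mul]
  exact congrArg ι (Subtype.ext (Subtype.ext hy't))

end Ctx

end Cfsg.Agent.Lib.CyclicOddSylow16.DihLarge
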