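import Cfsg.Agent.Lib.CyclicOddSylow16.DihLargeSolvable
import Cfsg.Agent.Lib.Coprime.Generation

/-!
# Dihedral Sylow 2-subgroups of order at least 8: the structure of a fixed-point centralizer
-/

set_option autoImplicit false

namespace Cfsg.Agent.Lib.CyclicOddSylow16.DihLarge

open Subgroup
open scoped commutatorElement

universe u

variable {G : Type u} [Group G]

theorem isV_conj_mem {t s g : G} {H : Subgroup G} (ht : g * t * g⁻¹ ∈ H) (hs : g * s * g⁻¹ ∈ H)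
    {v : G} (hv : IsV t s v) : g * v * g⁻¹ ∈ H := by
  rcases hv with rfl | rfl | rfl | rfl
  · rw [mul_one, mul_inv_cancel]; exact one_mem H
  · exact ht
  · exact hs
  · rw [show g * (t * s) * g⁻¹ = g * t * g⁻¹ * (g * s * g⁻¹) by group]; exact mul_mem ht hs

/-- The last member of the derived series of even order. -/
theorem exists_series [Finite G] {K : Subgroup G} (hK : Group.IsSolvable K)
    (heven : ¬ Odd (Nat.card K)) :
    ∃ N D : Subgroup G, D ≤ N ∧ N ≤ K ∧ Odd (Nat.card D) ∧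
      (∀ k ∈ K, ∀ d ∈ D, k * d * k⁻¹ ∈ D) ∧ (∀ k ∈ K, ∀ m ∈ N, k * m * k⁻¹ ∈ N) ∧
      (∀ a ∈ N, ∀ b ∈ N, a * b * a⁻¹ * b⁻¹ ∈ D) ∧ ∃ w ∈ N, orderOf w = 2 := by
  classical
  haveI : Fact (Nat.Prime 2) := ⟨Nat.prime_two⟩
  obtain ⟨m, hm⟩ := (Group.isSolvable_def K).1 hK
  have hex : ∃ i, Odd (Nat.card (derivedSeries K i)) := ⟨m, by rw [hm, card_bot]; exact odd_one⟩
  have hne : Nat.find hex ≠ 0 := by
    intro h
    have h1 := Nat.find_spec hex
    rw [h, derivedSeries_zero, card_top] at h1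
    exact heven h1
  obtain ⟨i, hi⟩ := Nat.exists_eq_succ_of_ne_zero hne
  have hodd : Odd (Nat.card (derivedSeries K (i + 1))) := by
    have := Nat.find_spec hex
    rwa [hi] at this
  have hev : ¬ Odd (Nat.card (derivedSeries K i)) := Nat.find_min hex (by omega)
  have hnorm : ∀ (j : ℕ), ∀ k ∈ K, ∀ d ∈ (derivedSeries K j).map K.subtype,
      k * d * k⁻¹ ∈ (derivedSeries K j).map K.subtype := by
    rintro j k hk _ ⟨d, hd, rfl⟩
    exact ⟨⟨k, hk⟩ * d * ⟨k, hk⟩⁻¹, (derivedSeries_normal K j).conj_mem d hd _, rfl⟩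
  refine ⟨(derivedSeries K i).map K.subtype, (derivedSeries K (i + 1)).map K.subtype,
    map_mono (derivedSeries_antitone K (Nat.le_succ i)), map_subtype_le _,
    by rwa [card_map_of_injective K.subtype_injective], hnorm _, hnorm _, ?_, ?_⟩
  · rintro _ ⟨a, ha, rfl⟩ _ ⟨b, hb, rfl⟩
    refine ⟨⁅a, b⁆, ?_, rfl⟩
    rw [derivedSeries_succ]
    exact commutator_mem_commutator ha hb
  · obtain ⟨w, hw⟩ := exists_prime_orderOf_dvd_card' (G := derivedSeries K i) 2
      (even_iff_two_dvd.1 (Nat.not_odd_iff_even.1 hev))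
    exact ⟨((w : K) : G), ⟨w, w.2, rfl⟩, by rw [orderOf_coe, orderOf_coe, hw]⟩

namespace Ctx

variable {S : Sylow 2 G} {n : ℕ} {σ s t : G} {O : Subgroup G}

/-- Elements of `C(z) ∩ C(t)` have their components in `O` and in the four-group. -/
theorem cent_form [Finite G] (C : Ctx S n σ s t O) (hn4 : n = 4) {z : G} {r : ℕ} (hz : z ∈ O)
    (hr : r.Prime) (hzr : orderOf z = r) (hsz : s * z = z * s) {c : G} (hcz : c * z = z * c)
    (hct : c * t = t * c) : ∃ o ∈ O, ∃ v, IsV t s v ∧ c = o * v := by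
  obtain ⟨o, ho, a, ha, rfl⟩ := C.Osplit c hct
  refine ⟨o, ho, a, ?_, rfl⟩
  have haz : a * z = z * a := by
    have := Commute.mul_left (Commute.inv_left (C.Ocomm ho hz)) hcz
    rwa [inv_mul_cancel_left] at this
  have hσ2 : σ ^ 2 = t := by rw [C.tdef, hn4]
  have hts : ∀ j : ℕ, (σ ^ 2) ^ j = 1 ∨ (σ ^ 2) ^ j = t := by
    intro j
    rw [hσ2]
    rcases Nat.even_or_odd j with ⟨i, rfl⟩ | ⟨i, rfl⟩
    · left; rw [← two_mul, pow_mul, pow_two, C.tt, one_pow]
    · right; rw [pow_succ, pow_mul, pow_two, C.tt, one_pow, one_mul]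
  obtain ⟨j, rfl | rfl⟩ := C.S_cent hz hr hzr hsz ha haz
  · rw [pow_mul]
    rcases hts j with h | h
    exacts [Or.inl h, Or.inr (Or.inl h)]
  · rw [pow_mul]
    rcases hts j with h | h
    · exact Or.inr (Or.inr (Or.inl (by rw [h, one_mul])))
    · exact Or.inr (Or.inr (Or.inr (by rw [h])))

/-- An odd-order element commuting with a non-trivial element of the four-group lies in `O`,
provided `s` centralises `O`. -/
theorem mem_O_of_comm [Finite G] (C : Ctx S n σ s t O) {f : G} (F : Fus O s t f)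
    (hsO : ∀ o ∈ O, s * o = o * s) {x v : G} (hx : Odd (orderOf x)) (hv : IsV t s v) (hv1 : v ≠ 1)
    (hxv : x * v = v * x) : x ∈ O := by
  have hfO : ∀ o ∈ O, f * o = o * f := fun o ho => F.fix o ho (hsO o ho)
  rcases hv with h | h | h | h <;> rw [h] at hxv
  · exact absurd h hv1
  · exact C.Omem x hxv hx
  · have h1 : f⁻¹ * s * f = t := by rw [← F.ft]; group
    have h2 := conj_commute (g := f⁻¹) hxv
    rw [inv_inv, h1] at h2
    have h3 : f⁻¹ * x * f ∈ O :=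
      C.Omem _ h2 (by rw [show f⁻¹ * x * f = f⁻¹ * x * f⁻¹⁻¹ by group, orderOf_conj_eq]; exact hx)
    have h4 : x = f⁻¹ * x * f := by
      have h5 := hfO _ h3
      have h6 : x = f * (f⁻¹ * x * f) * f⁻¹ := by group
      conv_lhs => rw [h6]
      rw [h5, mul_inv_cancel_right]
    exact h4 ▸ h3
  · have h2 := conj_commute (g := f) hxv
    rw [F.fts C] at h2
    have h3 : f * x * f⁻¹ ∈ O := C.Omem _ h2 (by rw [orderOf_conj_eq]; exact hx)
    have h4 : x = f * x * f⁻¹ := by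
      have h5 := hfO _ h3
      have h6 : x = f⁻¹ * (f * x * f⁻¹) * f := by group
      conv_lhs => rw [h6]
      rw [mul_assoc, ← h5, inv_mul_cancel_left]
    exact h4 ▸ h3

/-- An odd subgroup normalised by the four-group lies in `O`, provided `s` centralises `O`. -/
theorem le_O [Finite G] (C : Ctx S n σ s t O) {f : G} (F : Fus O s t f)
    (hsO : ∀ o ∈ O, s * o = o * s) {P : Subgroup G} (hP : Odd (Nat.card P))
    (ht : ∀ x ∈ P, t * x * t⁻¹ ∈ P) (hs : ∀ x ∈ P, s * x * s⁻¹ ∈ P) : P ≤ O := by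
  refine Coprime.le_of_pair Nat.prime_two (Nat.coprime_two_left.2 hP) (a := t) (b := s) ?_ C.st.symm
    (by rw [pow_two, C.tt]) (by rw [pow_two, C.ss]) (ne_one_of_two C.ords) ?_ ?_
  · refine (closure_le _).2 ?_
    rintro x (rfl | rfl)
    · exact Coprime.le_normalizer_of_conj_mem (A := zpowers x) (fun a ha y hy => by
        obtain ⟨i, rfl⟩ := mem_zpowers_iff.1 ha
        rcases Int.even_or_odd i with ⟨j, rfl⟩ | ⟨j, rfl⟩
        · rw [← two_mul, zpow_mul, zpow_two, C.tt, one_zpow]; simpa using hy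
        · rw [zpow_add, zpow_mul, zpow_two, C.tt, one_zpow, one_mul, zpow_one]; exact ht y hy)
        (mem_zpowers x)
    · exact Coprime.le_normalizer_of_conj_mem (A := zpowers x) (fun a ha y hy => by
        obtain ⟨i, rfl⟩ := mem_zpowers_iff.1 ha
        rcases Int.even_or_odd i with ⟨j, rfl⟩ | ⟨j, rfl⟩
        · rw [← two_mul, zpow_mul, zpow_two, C.ss, one_zpow]; simpa using hy
        · rw [zpow_add, zpow_mul, zpow_two, C.ss, one_zpow, one_mul, zpow_one]; exact hs y hy)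
        (mem_zpowers x)
  · intro h
    obtain ⟨i, hi⟩ := mem_zpowers_iff.1 h
    rcases Int.even_or_odd i with ⟨j, rfl⟩ | ⟨j, rfl⟩
    · rw [← two_mul, zpow_mul, zpow_two, C.ss, one_zpow] at hi
      exact ne_one_of_two C.ordt hi.symm
    · rw [zpow_add, zpow_mul, zpow_two, C.ss, one_zpow, one_mul, zpow_one] at hi
      exact C.t_ne_s hi.symm
  · intro v hv hv1 x hx
    have hle : closure ({t, s} : Set G) ≤ C.vgrp := (closure_le _).2 (by
      rintro a (rfl | rfl)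
      exacts [Or.inr (Or.inl rfl), Or.inr (Or.inr (Or.inl rfl))])
    exact C.mem_O_of_comm F hsO (odd_orderOf_of_mem hP hx.1) (hle hv) hv1
      (mem_centralizer_singleton_iff.1 hx.2)

/-- Conjugacy of the four-group inside a subgroup of the centralizer of `z`. -/
theorem frattini [Finite G] (C : Ctx S n σ s t O) (hn4 : n = 4) {z : G} {r : ℕ} (hz : z ∈ O)
    (hr : r.Prime) (hzr : orderOf z = r) {H : Subgroup G} (hH : ∀ a ∈ H, a * z = z * a)
    (hVH : C.vgrp ≤ H) {k : G} (hk : ∀ v ∈ C.vgrp, k * v * k⁻¹ ∈ H) :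
    ∃ u ∈ H, ∀ v ∈ C.vgrp, u⁻¹ * k * v * (u⁻¹ * k)⁻¹ ∈ C.vgrp := by
  haveI : Fact (Nat.Prime 2) := ⟨Nat.prime_two⟩
  have hbound : ∀ P : Subgroup H, IsPGroup 2 P → Nat.card P ≤ 4 := by
    intro P hP
    rw [← card_map_of_injective H.subtype_injective, ← hn4]
    exact C.two_bound hz hr hzr (hP.map _) (by rintro _ ⟨a, -, rfl⟩; exact hH a a.2)
  set V' := C.vgrp.map (MulAut.conj k).toMonoidHom with hV'
  have hV'H : V' ≤ H := by
    rintro _ ⟨v, hv, rfl⟩
    exact hk v hv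
  have hcV : Nat.card (C.vgrp.subgroupOf H) = 4 :=
    (Nat.card_congr (subgroupOfEquivOfLe hVH).toEquiv).trans C.card_vgrp
  have hcV' : Nat.card (V'.subgroupOf H) = 4 := by
    rw [Nat.card_congr (subgroupOfEquivOfLe hV'H).toEquiv, hV', card_map_of_injective
      (MulAut.conj k).injective, C.card_vgrp]
  obtain ⟨P, hP⟩ := (IsPGroup.of_card (p := 2) (n := 2) hcV).exists_le_sylow
  obtain ⟨Q, hQ⟩ := (IsPGroup.of_card (p := 2) (n := 2) hcV').exists_le_sylow
  have hPV : C.vgrp.subgroupOf H = (P : Subgroup H) :=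
    Subgroup.eq_of_le_of_card_ge hP (by rw [hcV]; exact hbound _ P.2)
  have hQV : V'.subgroupOf H = (Q : Subgroup H) :=
    Subgroup.eq_of_le_of_card_ge hQ (by rw [hcV']; exact hbound _ Q.2)
  obtain ⟨u, hu⟩ := MulAction.exists_smul_eq H P Q
  refine ⟨u, u.2, fun v hv => ?_⟩
  have hmem : (⟨k * v * k⁻¹, hk v hv⟩ : H) ∈ ((u • P : Sylow 2 H) : Subgroup H) := by
    rw [hu, ← hQV]
    exact mem_subgroupOf.2 ⟨v, hv, rfl⟩
  rw [Sylow.coe_subgroup_smul] at hmem
  obtain ⟨w, hw, hwe⟩ := hmem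
  rw [SetLike.mem_coe, ← hPV, mem_subgroupOf] at hw
  have hwe' : (u : G) * (w : G) * (u : G)⁻¹ = k * v * k⁻¹ := congrArg Subtype.val hwe
  have : (u : G)⁻¹ * k * v * ((u : G)⁻¹ * k)⁻¹ = w := by
    rw [show (u : G)⁻¹ * k * v * ((u : G)⁻¹ * k)⁻¹ = (u : G)⁻¹ * (k * v * k⁻¹) * u by group, ← hwe']
    group
  rw [this]
  exact hw

/-- An element normalising the four-group and centralising `z`. -/
theorem norm_form [Finite G] (C : Ctx S n σ s t O) {f : G} (F : Fus O s t f) (hn4 : n = 4) {z : G}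
    {r : ℕ} (hz : z ∈ O) (hr : r.Prime) (hzr : orderOf z = r) (hsz : s * z = z * s) {h : G}
    (hhz : h * z = z * h) (hhV : ∀ v ∈ C.vgrp, h * v * h⁻¹ ∈ C.vgrp) :
    ∃ i : ℕ, ∃ w ∈ O, ∃ v, IsV t s v ∧ s * w = w * s ∧ h = f ^ i * w * v ∧
      (h * t = t * h → i = 0) := by
  have hfz : f * z = z * f := F.fix z hz hsz
  obtain ⟨i, hi, hti⟩ :
      ∃ i : ℕ, f ^ i * t * (f ^ i)⁻¹ = h * t * h⁻¹ ∧ (h * t = t * h → i = 0) := by
    rcases hhV t (Or.inr (Or.inl rfl)) with h1 | h1 | h1 | h1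
    · exact absurd ((MulAut.conj h).injective (h1.trans (map_one _).symm)) (ne_one_of_two C.ordt)
    · exact ⟨0, by rw [h1]; group, fun _ => rfl⟩
    · refine ⟨1, by rw [h1, pow_one, F.ft], fun hc => ?_⟩
      rw [hc, mul_inv_cancel_right] at h1
      exact absurd h1 C.t_ne_s
    · refine ⟨2, by rw [h1, pow_two, show f * f * t * (f * f)⁻¹ = f * (f * t * f⁻¹) * f⁻¹ by group,
        F.ft, F.fs], fun hc => ?_⟩
      rw [hc, mul_inv_cancel_right] at h1
      exact absurd (mul_eq_left.1 h1.symm) (ne_one_of_two C.ords)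
  have hfV : ∀ v ∈ C.vgrp, (f ^ i)⁻¹ * v * f ^ i ∈ C.vgrp := by
    have hstep : ∀ v ∈ C.vgrp, f⁻¹ * v * f ∈ C.vgrp := by
      intro v hv
      have h1 : f⁻¹ * t * f ∈ C.vgrp := by
        refine Or.inr (Or.inr (Or.inr ?_))
        conv_lhs => rw [← F.fts C]
        group
      have h2 : f⁻¹ * s * f ∈ C.vgrp := by
        refine Or.inr (Or.inl ?_)
        conv_lhs => rw [← F.ft]
        group
      simpa using isV_conj_mem (g := f⁻¹) (by rwa [inv_inv]) (by rwa [inv_inv]) hv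
    clear hi hti
    induction i with
    | zero => intro v hv; simpa using hv
    | succ i ih =>
      intro v hv
      rw [pow_succ', show (f * f ^ i)⁻¹ * v * (f * f ^ i) = (f ^ i)⁻¹ * (f⁻¹ * v * f) * f ^ i by group]
      exact ih _ (hstep v hv)
  set h' := (f ^ i)⁻¹ * h with hh'
  have h't : h' * t = t * h' := by
    rw [← mul_inv_eq_iff_eq_mul, hh',
      show (f ^ i)⁻¹ * h * t * ((f ^ i)⁻¹ * h)⁻¹ = (f ^ i)⁻¹ * (h * t * h⁻¹) * f ^ i by group, ← hi]
    group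
  have h'z : h' * z = z * h' :=
    Commute.mul_left (Commute.inv_left (Commute.pow_left hfz i)) hhz
  obtain ⟨w, hw, v, hv, hwv⟩ := C.cent_form hn4 hz hr hzr hsz h'z h't
  have hsw : s * w = w * s := by
    have hws : w * s * w⁻¹ ∈ C.vgrp := by
      have h1 := hfV _ (hhV (v * s * v⁻¹) (mul_mem (mul_mem hv (Or.inr (Or.inr (Or.inl rfl))))
        (inv_mem (show v ∈ C.vgrp from hv))))
      have hvs : v * s * v⁻¹ = s := by
        rcases hv with h2 | h2 | h2 | h2 <;> subst h2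
        · group
        · rw [← C.st, mul_inv_cancel_right]
        · group
        · rw [mul_inv_eq_iff_eq_mul, ← mul_assoc, C.st]
      rw [hvs] at h1
      have h3 : (f ^ i)⁻¹ * (h * s * h⁻¹) * f ^ i = w * (v * s * v⁻¹) * w⁻¹ := by
        rw [show (f ^ i)⁻¹ * (h * s * h⁻¹) * f ^ i = h' * s * h'⁻¹ by rw [hh']; group, hwv]
        group
      rwa [h3, hvs] at h1
    have h1 : w * (s * w⁻¹ * s⁻¹) * s = 1 * (w * s * w⁻¹) := by group
    have h2 := (C.uniq (mul_mem hw (C.Onorm s C.st _ (inv_mem hw))) (one_mem _) C.smem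
      (C.isV_mem hws) h1).2
    exact (mul_inv_eq_iff_eq_mul.1 h2.symm).symm
  refine ⟨i, w, hw, v, hv, hsw, ?_, hti⟩
  rw [mul_assoc, ← hwv, hh', mul_inv_cancel_left]

/-- `C(z) = (O × V)⟨f⟩` and the Sylow 2-subgroup has order 8. -/
theorem structure_cent [Finite G] (hC : CommonStmt.{u}) (hP : ModelPSLStmt) (C : Ctx S n σ s t O)
    {f : G} (F : Fus O s t f) {z : G} {r : ℕ} (hz : z ∈ O) (hr : r.Prime) (hzr : orderOf z = r)
    (hsz : s * z = z * s) :
    n = 4 ∧ (∀ o ∈ O, s * o = o * s) ∧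
      ∀ k : G, k * z = z * k → ∃ o ∈ O, ∃ i : ℕ, ∃ v, IsV t s v ∧ k = o * f ^ i * v := by
  set K := centralizer ({z} : Set G) with hK
  have hmem : ∀ a : G, a ∈ K ↔ a * z = z * a := fun a => mem_centralizer_singleton_iff
  have hzt : t * z = z * t := (C.Ot z hz).symm
  have hVK : C.vgrp ≤ K := by
    intro v hv
    rw [hmem]
    rcases hv with rfl | rfl | rfl | rfl
    exacts [Commute.one_left z, hzt, hsz, Commute.mul_left hzt hsz]
  have heven : ¬ Odd (Nat.card K) := fun h =>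
    Nat.not_even_iff_odd.2 (h.of_dvd_nat (Subgroup.card_dvd_of_le hVK))
      (C.card_vgrp.symm ▸ (by decide : Even 4))
  obtain ⟨N, D, hDN, hNK, hDodd, hDnorm, hNnorm, hcomm, w0, hw0N, hw0⟩ :=
    exists_series (C.solvable F hP hz hr hzr hsz) heven
  -- all involutions of `K` lie in `N`
  have hinvN : ∀ v : G, orderOf v = 2 → v * z = z * v → v ∈ N := by
    intro v hv hvz
    obtain ⟨k1, hk1, e1⟩ := C.involution_conj F hz hr hzr hsz hv hvz
    obtain ⟨k2, hk2, e2⟩ := C.involution_conj F hz hr hzr hsz hw0 ((hmem _).1 (hNK hw0N))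
    have : v = k1 * k2⁻¹ * w0 * (k1 * k2⁻¹)⁻¹ := by rw [← e1, ← e2]; group
    exact this ▸ hNnorm _ ((hmem _).2 (Commute.mul_left hk1 (Commute.inv_left hk2))) w0 hw0N
  have htN : t ∈ N := hinvN t C.ordt hzt
  have hsN : s ∈ N := hinvN s C.ords hsz
  have hVN : C.vgrp ≤ N := by
    rintro v (rfl | rfl | rfl | rfl)
    exacts [one_mem _, htN, hsN, mul_mem htN hsN]
  -- the Sylow 2-subgroup has order 8
  have hn4 : n = 4 := by
    have hσs : σ * s * s * (σ * s)⁻¹ = σ ^ 2 * s := C.refl_conj_s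
    have ha : σ ^ 2 * s ∈ N := by
      refine hinvN _ (hσs ▸ (orderOf_conj_eq (σ * s) s).trans C.ords) ?_
      rw [← hσs]
      exact (C.refl_cent hz hr hzr hsz).2 s hsz
    have hc := hcomm s hsN _ ha
    have hcS : s * (σ ^ 2 * s) * s⁻¹ * (σ ^ 2 * s)⁻¹ = (σ ^ 4)⁻¹ := by
      rw [show s * (σ ^ 2 * s) * s⁻¹ * (σ ^ 2 * s)⁻¹ = s * σ ^ 2 * s⁻¹ * (σ ^ 2)⁻¹ by group,
        C.conj_pow_σ 2]
      group
    rw [hcS, inv_mem_iff] at hc
    have h4 := C.S_order (pow_mem C.σmem 4) (odd_orderOf_of_mem hDodd hc)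
    have := Nat.le_of_dvd (by norm_num) (orderOf_dvd_of_pow_eq_one h4)
    rw [C.ordσ] at this
    have := C.hn
    omega
  -- `K = D N_K(V)`
  have hDz : ∀ d ∈ D, d * z = z * d := fun d hd => (hmem d).1 (hNK (hDN hd))
  let H := prodSub D C.vgrp fun v hv d hd => hDnorm v (hVK hv) d hd
  have hform : ∀ k : G, k * z = z * k → ∃ d ∈ D, ∃ h : G, k = d * h ∧ h * z = z * h ∧
      ∀ v ∈ C.vgrp, h * v * h⁻¹ ∈ C.vgrp := by
    intro k hk
    obtain ⟨u, huN, hu⟩ := C.frattini hn4 hz hr hzr (fun a ha => (hmem a).1 (hNK ha)) hVN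
      fun v hv => hNnorm k ((hmem k).2 hk) v (hVN hv)
    obtain ⟨u', ⟨d, hd, v0, hv0, rfl⟩, hu'⟩ := C.frattini hn4 hz hr hzr (H := H) (k := u)
      (by
        rintro _ ⟨d, hd, v, hv, rfl⟩
        exact Commute.mul_left (hDz d hd) ((hmem v).1 (hVK hv)))
      (fun v hv => ⟨1, one_mem _, v, hv, (one_mul v).symm⟩)
      (fun v hv => ⟨u * v * u⁻¹ * v⁻¹, hcomm u huN v (hVN hv), v, hv, by group⟩)
    refine ⟨d, hd, d⁻¹ * k, by group,
      Commute.mul_left (Commute.inv_left (hDz d hd)) hk, fun v hv => ?_⟩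
    have h1 := hu' _ (hu v hv)
    have h2 := mul_mem (mul_mem hv0 h1) (inv_mem hv0)
    convert h2 using 1
    group
  -- the odd normal subgroup of `K` containing `O`
  set W := O ⊓ centralizer ({s} : Set G) with hW
  have hWmem : ∀ w : G, w ∈ W ↔ w ∈ O ∧ s * w = w * s := fun w =>
    ⟨fun h => ⟨h.1, (mem_centralizer_singleton_iff.1 h.2).symm⟩,
      fun h => ⟨h.1, mem_centralizer_singleton_iff.2 h.2.symm⟩⟩
  let M := prodSub D W fun w hw d hd =>
    hDnorm w ((hmem w).2 (C.Ocomm ((hWmem w).1 hw).1 hz)) d hd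
  have hfK : f ∈ K := (hmem f).2 (F.fix z hz hsz)
  have hMconj : ∀ g ∈ K, (∀ w ∈ W, g * w * g⁻¹ = w) → ∀ m ∈ M, g * m * g⁻¹ ∈ M := by
    rintro g hg hgW _ ⟨d, hd, w, hw, rfl⟩
    exact ⟨g * d * g⁻¹, hDnorm g hg d hd, w, hw, by conv_rhs => rw [← hgW w hw]
                                                    group⟩
  have hModd : Odd (Nat.card M) := by
    rw [← Nat.not_even_iff_odd, even_iff_two_dvd]
    intro h2
    haveI : Fact (Nat.Prime 2) := ⟨Nat.prime_two⟩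
    obtain ⟨⟨_, d, hd, w, hw, rfl⟩, hv⟩ := exists_prime_orderOf_dvd_card' (G := M) 2 h2
    replace hv : orderOf (d * w) = 2 := (orderOf_injective M.subtype M.subtype_injective _).trans hv
    have hsq : d * (w * d * w⁻¹) * w ^ 2 = 1 := by
      rw [← mul_self_of_two hv]; group
    have hw2 : w ^ 2 ∈ D := by
      rw [eq_inv_of_mul_eq_one_right hsq]
      exact inv_mem (mul_mem hd (hDnorm w ((hmem w).2 (C.Ocomm ((hWmem w).1 hw).1 hz)) d hd))
    obtain ⟨j, hj⟩ := odd_orderOf_of_mem C.Oodd ((hWmem w).1 hw).1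
    have hwD : w ∈ D := by
      have h3 : w = (w ^ 2) ^ (j + 1) := by
        rw [← pow_mul, show 2 * (j + 1) = orderOf w + 1 by omega, pow_succ, pow_orderOf_eq_one, one_mul]
      exact h3 ▸ pow_mem hw2 _
    exact ne_two_of_odd (odd_orderOf_of_mem hDodd (mul_mem hd hwD)) hv
  have hMt : ∀ m ∈ M, t * m * t⁻¹ ∈ M := hMconj t ((hmem t).2 hzt) fun w hw =>
    mul_inv_eq_iff_eq_mul.2 (C.Ot w ((hWmem w).1 hw).1).symm
  have hMs : ∀ m ∈ M, s * m * s⁻¹ ∈ M := hMconj s ((hmem s).2 hsz) fun w hw =>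
    mul_inv_eq_iff_eq_mul.2 ((hWmem w).1 hw).2
  have hMf : ∀ m ∈ M, f * m * f⁻¹ ∈ M := hMconj f hfK fun w hw =>
    mul_inv_eq_iff_eq_mul.2 (F.fix w ((hWmem w).1 hw).1 ((hWmem w).1 hw).2)
  have hOM : ∀ y ∈ O, y ∈ M := by
    intro y hy
    obtain ⟨d, hd, h, hyh, hhz, hhV⟩ := hform y (C.Ocomm hy hz)
    obtain ⟨i, w, hw, v, hv, hsw, hwv, hi⟩ := C.norm_form F hn4 hz hr hzr hsz hhz hhV
    have hht : h * t = t * h := by
      rw [← mul_inv_eq_iff_eq_mul]
      set τ := h * t * h⁻¹ with hτ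
      have hτV : τ ∈ C.vgrp := hhV t (Or.inr (Or.inl rfl))
      have h1 : d * τ * d⁻¹ = t := by
        rw [hτ, show d * (h * t * h⁻¹) * d⁻¹ = d * h * t * (d * h)⁻¹ by group, ← hyh, C.Ot y hy,
          mul_inv_cancel_right]
      have h2 : t * τ⁻¹ ∈ D := by
        rw [show t * τ⁻¹ = d * (τ * d⁻¹ * τ⁻¹) by rw [← h1]; group]
        exact mul_mem hd (hDnorm τ (hVK hτV) _ (inv_mem hd))
      have h3 := C.S_order (mul_mem C.tmem (inv_mem (C.isV_mem hτV))) (odd_orderOf_of_mem hDodd h2)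
      exact (mul_inv_eq_one.1 h3).symm
    rw [hi hht, pow_zero, one_mul] at hwv
    have hm : d * w ∈ M := ⟨d, hd, w, (hWmem w).2 ⟨hw, hsw⟩, rfl⟩
    have hvM : ∀ m ∈ M, v * m * v⁻¹ ∈ M := by
      refine hMconj v (hVK hv) fun w' hw' => ?_
      obtain ⟨hw'O, hw's⟩ := (hWmem w').1 hw'
      rw [mul_inv_eq_iff_eq_mul]
      rcases hv with h2 | h2 | h2 | h2 <;> rw [h2]
      exacts [Commute.one_left w', (C.Ot w' hw'O).symm, hw's,
        Commute.mul_left (C.Ot w' hw'O).symm hw's]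
    have hy2 : y ^ 2 ∈ M := by
      have : y ^ 2 = d * w * (v * (d * w) * v⁻¹) := by
        rw [inv_eq_of_mul_eq_one_right (C.isV_sq hv), pow_two, hyh, hwv]
        group
      exact this ▸ mul_mem hm (hvM _ hm)
    obtain ⟨j, hj⟩ := odd_orderOf_of_mem C.Oodd hy
    have h3 : y = (y ^ 2) ^ (j + 1) := by
      rw [← pow_mul, show 2 * (j + 1) = orderOf y + 1 by omega, pow_succ, pow_orderOf_eq_one, one_mul]
    exact h3 ▸ pow_mem hy2 _
  -- `s` centralises `O`
  have hsq : ∀ y ∈ O, ∀ q : ℕ, q.Prime → orderOf y = q → s * y = y * s := by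
    intro y hy q hq hyq
    obtain ⟨w, -, hwq, hwt, hws⟩ := hC.2.2.1 G C.amb.hyp.1 M t s hModd C.ordt C.ords C.st.symm hMt hMs q hq
      ⟨y, hOM y hy, hyq, C.Ot y hy⟩
      ⟨f * y * f⁻¹, hMf y (hOM y hy), (orderOf_conj_eq f y).trans hyq, F.ft ▸ conj_commute (C.Ot y hy)⟩
    have hwO : w ∈ O := C.Omem w hwt (hwq.trans hyq.symm ▸ odd_orderOf_of_mem C.Oodd hy)
    exact commute_of_mem_zpowers hws.symm
      (mem_zpowers_of_orderOf_eq C.Ocyc hy hwO (hyq.trans hwq.symm))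
  have hsO : ∀ o ∈ O, s * o = o * s := by
    intro o ho
    rw [← mul_inv_eq_iff_eq_mul]
    set u := s * o * s⁻¹ * o⁻¹ with hu
    have huO : u ∈ O := mul_mem (C.Onorm s C.st o ho) (inv_mem ho)
    suffices h : u = 1 by
      rwa [hu, mul_inv_eq_one] at h
    by_contra hu1
    have hsu : s * u * s⁻¹ = u⁻¹ := by
      rw [hu, inv_eq_of_two C.ords, mul_inv_rev, inv_inv, mul_inv_rev, mul_inv_rev,
        inv_eq_of_two C.ords]
      have h1 := C.ss
      rw [show s * (s * o * s * o⁻¹) * s = (s * s) * (o * (s * o⁻¹ * s)) by group, h1, one_mul]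
      group
    obtain ⟨k, q, hq, -, hk⟩ := exists_pow_prime (odd_orderOf_of_mem C.Oodd huO) hu1
    have h1 := hsq _ (pow_mem huO k) q hq hk
    have h2 : s * u ^ k * s⁻¹ = (u ^ k)⁻¹ := by rw [← conj_pow, hsu, inv_pow]
    rw [h1, mul_inv_cancel_right, eq_inv_iff_mul_eq_one] at h2
    have := eq_one_of_sq_of_odd (odd_orderOf_of_mem C.Oodd (pow_mem huO k)) h2
    rw [this, orderOf_one] at hk
    exact hq.one_lt.ne hk
  refine ⟨hn4, hsO, fun k hk => ?_⟩
  have hDO : D ≤ O := C.le_O F hsO hDodd (fun d hd => hDnorm t ((hmem t).2 hzt) d hd)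
    fun d hd => hDnorm s ((hmem s).2 hsz) d hd
  obtain ⟨d, hd, h, rfl, hhz, hhV⟩ := hform k hk
  obtain ⟨i, w, hw, v, hv, hsw, rfl, -⟩ := C.norm_form F hn4 hz hr hzr hsz hhz hhV
  have hfw : Commute (f ^ i) w := Commute.pow_left (F.fix w hw hsw) i
  exact ⟨d * w, mul_mem (hDO hd) hw, i, v, hv, by rw [hfw.eq]; group⟩

end Ctx

end Cfsg.Agent.Lib.CyclicOddSylow16.DihLarge
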