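import Cfsg.Agent.Lib.CyclicOddSylow16.EightArith
import Cfsg.Agent.Lib.CyclicOddSylow16.EightSys
import Cfsg.Agent.Lib.InvCentralizer.Count
import Cfsg.Agent.Lib.Blocks.PrincipalInner
import Cfsg.Agent.Lib.CharCount.Basic
import Cfsg.Agent.Lib.Chars.PResidualDegree
import Cfsg.Agent.Lib.TwoGroup.Recognition
import Cfsg.Agent.S4481
import Cfsg.Agent.S4482

/-!
# The configuration with dihedral Sylow 2-subgroups of order eight is impossible
-/

set_option autoImplicit false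

namespace Cfsg.Agent.Lib.CyclicOddSylow16

open Cfsg Cfsg.Agent.Lib Subgroup
open scoped ComplexConjugate

universe u

namespace Eight

variable {G : Type u} [Group G] [Finite G] (E : EightConfig G)

theorem tau_not_mem : E.τ ∉ zpowers E.σ := fun h => by
  obtain ⟨k, hk⟩ := mem_zpowers_iff.1 h
  have hrel := E.rel
  rw [← hk] at hrel
  have h2 : E.σ * E.σ = 1 := by
    have : E.σ ^ k * E.σ * (E.σ ^ k)⁻¹ = E.σ := by group
    rw [this] at hrel
    exact mul_eq_one_iff_eq_inv.2 hrel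
  have := orderOf_le_of_pow_eq_one (by norm_num : 0 < 2) (by rwa [pow_two] : E.σ ^ 2 = 1)
  rw [E.orderσ] at this
  omega

theorem dihedral : Nonempty ((E.S : Subgroup G) ≃* DihedralGroup (2 ^ (3 - 1))) := by
  have htt : E.τ * E.τ = 1 := by rw [← pow_two, ← E.orderτ, pow_orderOf_eq_one]
  have hti : E.τ⁻¹ = E.τ := inv_eq_of_mul_eq_one_right htt
  refine TwoGroup.nonempty_mulEquiv_dihedral (a := E.σ) (b := E.τ) (by rw [E.orderσ]; norm_num) htt E.rel
    (tau_not_mem E) _ E.σ_mem E.τ_mem fun g hg => ?_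
  have hle : zpowers E.σ ≤ (E.S : Subgroup G) := zpowers_le.2 E.σ_mem
  have hidx : (zpowers E.σ).relIndex (E.S : Subgroup G) = 2 := by
    have h := (zpowers E.σ).subgroupOf (E.S : Subgroup G) |>.index_mul_card
    rw [Nat.card_congr (subgroupOfEquivOfLe hle).toEquiv, Nat.card_zpowers, E.orderσ, E.card_S] at h
    show ((zpowers E.σ).subgroupOf (E.S : Subgroup G)).index = 2
    omega
  by_cases h : g ∈ zpowers E.σ
  · exact Or.inl h
  refine Or.inr ?_
  have := mul_mem_iff_of_index_two (H := (zpowers E.σ).subgroupOf (E.S : Subgroup G)) hidx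
    (a := ⟨E.τ, E.τ_mem⟩) (b := ⟨g, hg⟩)
  rw [mem_subgroupOf, mem_subgroupOf, mem_subgroupOf] at this
  exact this.2 ⟨fun h' => absurd h' (tau_not_mem E), fun h' => absurd h' h⟩

theorem sigma_tau_order : orderOf (E.σ * E.τ) = 2 := by
  have htt : E.τ * E.τ = 1 := by rw [← pow_two, ← E.orderτ, pow_orderOf_eq_one]
  refine orderOf_eq_prime ?_ fun h => tau_not_mem E ?_
  · rw [pow_two, show E.σ * E.τ * (E.σ * E.τ) = E.σ * (E.τ * E.σ * E.τ⁻¹) * (E.τ * E.τ) by group, E.rel, htt]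
    group
  · rw [← inv_eq_of_mul_eq_one_right h]; exact inv_mem (mem_zpowers _)

include E in
theorem sylow_split : ∃ m : ℕ, Odd m ∧ Nat.card G = 8 * m := by
  refine ⟨(E.S : Subgroup G).index, ?_, ?_⟩
  · rw [← Nat.not_even_iff_odd, even_iff_two_dvd]; exact E.S.not_dvd_index
  · rw [← E.card_S, (E.S : Subgroup G).card_mul_index]

/-- An element of even order has no conjugate in the odd set. -/
theorem indFun_zero [Fintype G] {g : G} (h : Even (orderOf g)) :
    indFun (normalizer (E.A : Set G)) (theta E) g = 0 := by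
  classical
  rw [indFun, Finset.sum_eq_zero, mul_zero]
  intro x _
  by_cases hm : x⁻¹ * g * x ∈ normalizer (E.A : Set G)
  · rw [Chars.extendByZero_of_mem _ hm, theta, if_neg]
    intro hd
    have := odd_order E hd.1
    rw [show ((⟨x⁻¹ * g * x, hm⟩ : normalizer (E.A : Set G)) : G) = MulAut.conj x⁻¹ g by simp,
      MulEquiv.orderOf_eq] at this
    exact Nat.not_even_iff_odd.2 this h
  · exact Chars.extendByZero_of_not_mem _ hm

theorem not_comm_of_amb (hA : Amb G) : ∀ H : Subgroup G, H.index ≠ 2 := fun H hH => by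
  have := hA.simple
  rcases (Subgroup.normal_of_index_eq_two hH).eq_bot_or_eq_top with h | h
  · rw [h, index_bot] at hH
    have : Fact (Nat.Prime 2) := ⟨Nat.prime_two⟩
    have := isCyclic_of_prime_card hH
    exact hA.nonab ⟨⟨(IsCyclic.commGroup (α := G)).mul_comm⟩⟩
  · rw [h, index_top] at hH; omega

include E in
theorem main [Fintype G] (hT : ThetaExpandStmt.{u}) (hA : Amb G) : False := by
  classical
  have hno := not_comm_of_amb hA
  have ht2 : orderOf (E.σ ^ 2) = 2 := by rw [orderOf_pow, E.orderσ]; norm_num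
  have hall : ∀ v : G, orderOf v = 2 → IsConj v (E.σ ^ 2) :=
    InvCentralizer.isConj_of_no_index_two hno ht2 (pow_mem (mem_zpowers _) 2) E.S E.σ_mem
      (by rw [E.card_S, E.orderσ])
  obtain ⟨χ, ψ, e, e', α, a, hχ1, hψ1, hne, he, he', hexp, hα, hα', ha, ha', hord⟩ :=
    hT G (E.σ ^ 2) ht2 hall (sys E)
  rw [count_sys E, E.card_C] at hord
  obtain ⟨M, hM⟩ := CharCount.exists_isPModular 2 Nat.prime_two
  have : Fact (Nat.Prime 2) := ⟨Nat.prime_two⟩
  have : M.IsPrime := hM.2.1.isPrime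
  obtain ⟨-, χ₁, χ₂, χ₃, χ', δ₁, δ₂, δ₃, hδ₁, hδ₂, hδ₃, -, h1, h2, h3, h12, h13, h23, hχ', hB, hval, hodd⟩ :=
    Cfsg.Agent.S4481.result M hM 3 le_rfl E.S (dihedral E) E.σ E.σ_mem
      (by rw [E.orderσ]; norm_num) Complex.I (by
        have : IsPrimitiveRoot Complex.I 4 := by
          refine IsPrimitiveRoot.iff (by norm_num) |>.2 ⟨Complex.I_pow_four, fun l hl0 hl => ?_⟩
          interval_cases l <;> simp [Complex.ext_iff, pow_succ] <;> norm_num
        simpa using this)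
  let j0 : Fin (2 ^ (3 - 2) - 1) := ⟨0, by norm_num⟩
  obtain ⟨χ₄, hχ₄⟩ : ∃ c, c = χ' j0 := ⟨_, rfl⟩
  obtain ⟨one, hone⟩ : ∃ c, c = Chars.trivialIrr G := ⟨_, rfl⟩
  have hone' : ∀ φ : IrrCharacter G, (φ : G → ℂ) ≠ (fun _ => 1) → φ ≠ one := fun φ hφ h =>
    hφ (by rw [h, hone]; rfl)
  obtain ⟨f, hf⟩ : ∃ f : IrrCharacter G → ℤ,
      f = fun φ => (if φ = one then 1 else 0) + (if φ = χ then e else 0) + (if φ = ψ then e' else 0) := ⟨_, rfl⟩
  have hfone : f one = 1 := by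
    rw [hf]; simp [(hone' χ hχ1).symm, (hone' ψ hψ1).symm]
  have hsum : ∀ g : G, ∑ φ : IrrCharacter G, (φ : G → ℂ) g * (f φ : ℂ) =
      indFun (normalizer (E.A : Set G)) (theta E) g := by
    intro g
    show _ = indFun (sys E).N (sys E).θ g
    rw [hexp g, hf]
    simp only [Int.cast_add, mul_add, Finset.sum_add_distrib, apply_ite (Int.cast : ℤ → ℂ), Int.cast_zero,
      mul_ite, mul_zero, Finset.sum_ite_eq', Finset.mem_univ, if_true]
    rw [hone, Chars.trivialIrr_apply]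
    push_cast
    ring
  -- the relation at the principal block
  have hblock : ∀ l : ℕ, 0 < l → l < 4 →
      (1 : ℂ) + (χ₁ : G → ℂ) (E.σ ^ l) * f χ₁ + (χ₂ : G → ℂ) (E.σ ^ l) * f χ₂ +
        (χ₃ : G → ℂ) (E.σ ^ l) * f χ₃ + (χ₄ : G → ℂ) (E.σ ^ l) * f χ₄ = 0 := by
    intro l hl0 hl4
    have hpow : ∃ k : ℕ, orderOf (E.σ ^ l) = 2 ^ k := by
      interval_cases l
      · exact ⟨2, by rw [pow_one, E.orderσ]; norm_num⟩
      · exact ⟨1, by rw [ht2]; norm_num⟩
      · exact ⟨2, by rw [orderOf_pow, E.orderσ]; norm_num⟩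
    have heven : Even (orderOf (E.σ ^ l)) := by
      rw [orderOf_pow, E.orderσ]; interval_cases l <;> decide
    have h := Blocks.PrincipalInner.sum_principal_mul_eq_zero hM hpow (fun φ => (f φ : ℂ)) (fun b hb => by
      rw [hsum]
      refine indFun_zero E ?_
      have hcomm : Commute (E.σ ^ l) (b : G) := (mem_centralizer_singleton_iff.1 b.2).symm
      have hbo : Odd (orderOf (b : G)) := by
        rw [Subgroup.orderOf_coe, ← Nat.not_even_iff_odd, even_iff_two_dvd]; exact hb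
      obtain ⟨k, hk⟩ := hpow
      rw [hcomm.orderOf_mul_eq_mul_orderOf_of_coprime (by
        rw [hk]; exact (Nat.coprime_two_left.2 hbo).pow_left k)]
      exact heven.mul_right _)
    have hset : principalBlock M G = ↑({one, χ₁, χ₂, χ₃, χ₄} : Finset (IrrCharacter G)) := by
      rw [hB]
      ext φ
      simp only [Finset.coe_insert, Finset.coe_singleton, Set.mem_insert_iff, Set.mem_singleton_iff,
        Set.mem_setOf_eq]
      refine or_congr ⟨fun h => by rw [hone]; exact Subtype.ext h, fun h => by rw [h, hone]; rfl⟩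
        (or_congr Iff.rfl (or_congr Iff.rfl (or_congr Iff.rfl
          ⟨fun ⟨j, hj⟩ => by rw [hj, hχ₄]; congr 1; ext; have := j.2; norm_num at this ⊢ <;> omega,
            fun h => ⟨j0, h.trans hχ₄⟩⟩)))
    rw [hset, finsum_mem_coe_finset] at h
    obtain ⟨n1, n2, n3, n4⟩ := hχ' j0
    rw [← hχ₄] at n1 n2 n3 n4
    rw [Finset.sum_insert (by simp [(hone' _ h1).symm, (hone' _ h2).symm, (hone' _ h3).symm, (hone' _ n4).symm]),
      Finset.sum_insert (by simp [h12, h13, n1.symm]), Finset.sum_insert (by simp [h23, n2.symm]),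
      Finset.sum_insert (by simp [n3.symm]), Finset.sum_singleton, hfone] at h
    rw [hone, Chars.trivialIrr_apply] at h
    push_cast at h
    linear_combination h
  obtain ⟨v11, v12, v13, v1j⟩ := hval 1 (by norm_num) (by norm_num)
  obtain ⟨v21, v22, v23, v2j⟩ := hval 2 (by norm_num) (by norm_num)
  have v14 : (χ₄ : G → ℂ) (E.σ ^ 1) = 0 := by
    rw [hχ₄, v1j j0]
    simp [j0]
  have v24 : (χ₄ : G → ℂ) (E.σ ^ 2) = -2 * (δ₁ : ℂ) := by
    rw [hχ₄, v2j j0]
    simp [j0, Complex.I_sq]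
    ring
  have hb1 := hblock 1 (by norm_num) (by norm_num)
  have hb2 := hblock 2 (by norm_num) (by norm_num)
  rw [v11, v12, v13, v14] at hb1
  rw [v21, v22, v23, v24] at hb2
  have hfeq : (1 : ℤ) + δ₁ * f χ₁ - δ₁ * f χ₄ = 0 := by
    have : (((1 : ℤ) + δ₁ * f χ₁ - δ₁ * f χ₄ : ℤ) : ℂ) = 0 := by
      push_cast
      linear_combination (hb1 + hb2) / 2
    exact_mod_cast this
  have hbound : f χ₁ ^ 2 + f χ₄ ^ 2 ≤ 2 := by
    have h14 : χ₁ ≠ χ₄ := fun h => (hχ' j0).1 (hχ₄ ▸ h.symm)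
    have hval' : ∀ φ, φ ≠ one → f φ ^ 2 = (if φ = χ then 1 else 0) + (if φ = ψ then 1 else 0) := by
      intro φ hφ
      rw [hf]
      simp only [if_neg hφ, zero_add]
      rcases eq_or_ne φ χ with rfl | h
      · rw [if_pos rfl, if_neg hne, if_pos rfl, if_neg hne]
        rcases he with rfl | rfl <;> norm_num
      · rw [if_neg h, if_neg h]
        rcases eq_or_ne φ ψ with rfl | h'
        · rw [if_pos rfl, if_pos rfl]
          rcases he' with rfl | rfl <;> norm_num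
        · simp [h']
    rw [hval' _ (hone' _ h1), hval' _ (hone' _ (hχ₄ ▸ (hχ' j0).2.2.2))]
    have e1 : ¬(χ₁ = χ ∧ χ₄ = χ) := fun h => h14 (h.1.trans h.2.symm)
    have e2 : ¬(χ₁ = ψ ∧ χ₄ = ψ) := fun h => h14 (h.1.trans h.2.symm)
    have e3 : ¬(χ₁ = χ ∧ χ₁ = ψ) := fun h => hne (h.1.symm.trans h.2)
    have e4 : ¬(χ₄ = χ ∧ χ₄ = ψ) := fun h => hne (h.1.symm.trans h.2)
    split_ifs <;> first | omega | tauto
  -- the order formula
  have hS := Cfsg.Agent.S4482.result M hM 3 le_rfl E.S E.σ E.τ E.σ_mem E.τ_mem (by rw [E.orderσ]; norm_num)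
    E.orderτ E.rel E.gen ⟨(hall _ E.orderτ).symm, (hall _ (sigma_tau_order E)).symm⟩ χ₁
    (by rw [hB]; exact Or.inr (Or.inl rfl)) h1 δ₁ hδ₁ fun l hl0 hl => (hval l hl0 hl).1
  obtain ⟨hX1, hS⟩ := hS
  rw [show (2 : ℕ) ^ (3 - 2) = 2 from rfl, E.card_C, E.card_Cτ, E.card_Cστ] at hS
  obtain ⟨x₁, hx₁⟩ : ∃ x, x = charDegree (χ₁ : G → ℂ) := ⟨_, rfl⟩
  obtain ⟨hx₁pos, hx₁v⟩ := Chars.charDegree_spec χ₁
  rw [← hx₁] at hS hX1 hx₁pos hx₁v
  obtain ⟨X, hX⟩ : ∃ X : ℤ, X = δ₁ * x₁ := ⟨_, rfl⟩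
  have hw0 : (E.w : ℚ) ≠ 0 := by have := E.three_le; exact_mod_cast (show E.w ≠ 0 by omega)
  have hS' : (Nat.card G : ℤ) * (X - 1) ^ 2 = 64 * (E.w : ℤ) * (1 + E.w) ^ 2 * (X * (X + 1)) := by
    have key : (Nat.card G : ℚ) * ((x₁ : ℚ) - δ₁) ^ 2 =
        64 * (E.w : ℚ) * (1 + E.w) ^ 2 * ((x₁ : ℚ) * (x₁ + δ₁)) := by
      rw [hS]
      push_cast
      field_simp
      ring
    have : (((Nat.card G : ℤ) * (X - 1) ^ 2 : ℤ) : ℚ) =
        ((64 * (E.w : ℤ) * (1 + E.w) ^ 2 * (X * (X + 1)) : ℤ) : ℚ) := by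
      rw [hX]
      push_cast
      rcases hδ₁ with rfl | rfl <;> push_cast at key ⊢ <;> linear_combination key
    exact_mod_cast this
  have hXne1 : X ≠ 1 := by
    intro h
    apply hX1
    rcases hδ₁ with rfl | rfl <;> omega
  have hXne0 : X ≠ 0 := by rcases hδ₁ with rfl | rfl <;> omega
  -- transfer the two constituents to a pair of integers
  have hpair : ∀ φ : IrrCharacter G, φ ≠ one → f φ ≠ 0 → ∀ β b : ℤ,
      (f φ : ℂ) * (φ : G → ℂ) 1 = β → (f φ : ℂ) * (φ : G → ℂ) (E.σ ^ 2) = b →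
      192 * (E.w : ℤ) ^ 3 * (β * (β + 1)) = (Nat.card G : ℤ) * (β - b) ^ 2 := by
    intro φ hφ hfφ β b hβ hb
    have hc : ((192 * (E.w : ℤ) ^ 3 * (α * (α + 1)) : ℤ) : ℂ) = ((Nat.card G : ℤ) * (α - a) ^ 2 : ℤ) := by
      push_cast at hord ⊢
      linear_combination hord
    have hbase : 192 * (E.w : ℤ) ^ 3 * (α * (α + 1)) = (Nat.card G : ℤ) * (α - a) ^ 2 := by exact_mod_cast hc
    rw [hf] at hβ hb hfφ
    rcases eq_or_ne φ χ with rfl | hφχ
    · simp only [if_neg hφ, if_pos rfl, if_neg hne, zero_add, add_zero] at hβ hb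
      obtain rfl : β = α := by exact_mod_cast hβ.symm.trans hα
      obtain rfl : b = a := by exact_mod_cast hb.symm.trans ha
      exact hbase
    · rcases eq_or_ne φ ψ with rfl | hφψ
      · simp only [if_neg hφ, if_neg hφχ, if_pos rfl, zero_add] at hβ hb
        obtain rfl : β = -1 - α := by exact_mod_cast hβ.symm.trans hα'
        obtain rfl : b = -1 - a := by exact_mod_cast hb.symm.trans ha'
        linear_combination hbase
      · simp [if_neg hφ, if_neg hφχ, if_neg hφψ] at hfφ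
  have hcases : (δ₁ * f χ₁ = -1) ∨ (δ₁ * f χ₁ = 0) := by
    have hsq : (δ₁ * f χ₁) ^ 2 + (δ₁ * f χ₄) ^ 2 ≤ 2 := by
      rcases hδ₁ with rfl | rfl <;> linarith [hbound]
    have h4 : δ₁ * f χ₄ = δ₁ * f χ₁ + 1 := by omega
    rw [h4] at hsq
    have hlo : -2 < δ₁ * f χ₁ := by nlinarith
    have hhi : δ₁ * f χ₁ < 1 := by nlinarith
    omega
  have hw3 : (3 : ℤ) ≤ E.w := by exact_mod_cast E.three_le
  obtain ⟨m, hmo, hm⟩ := sylow_split E
  rcases hcases with hc | hc
  · have hf1 : f χ₁ = -δ₁ := by rcases hδ₁ with rfl | rfl <;> omega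
    have h := hpair χ₁ (hone' _ h1) (by rcases hδ₁ with rfl | rfl <;> omega) (-X) (-1)
      (by rw [hf1, hx₁v, hX]; push_cast; ring)
      (by rw [hf1, v21]; rcases hδ₁ with rfl | rfl <;> norm_num)
    exact arith_one hw3 hXne1 hXne0 hS' (by linear_combination h)
  · have hf4 : f χ₄ = δ₁ := by rcases hδ₁ with rfl | rfl <;> omega
    have hdeg := (hodd 1 (by rw [orderOf_one]; decide) j0).2
    rw [← hχ₄, hx₁v] at hdeg
    have h := hpair χ₄ (hone' _ (hχ₄ ▸ (hχ' j0).2.2.2)) (by rcases hδ₁ with rfl | rfl <;> omega) (X + 1) (-2)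
      (by rw [hf4, hX]; push_cast; linear_combination -hdeg)
      (by rw [hf4, v24]; rcases hδ₁ with rfl | rfl <;> norm_num)
    refine arith_two hw3 (by exact_mod_cast E.odd_w) (m := (m : ℤ)) (by exact_mod_cast hmo)
      (by exact_mod_cast hm) hXne1 hS' (by linear_combination h)

end Eight

/-- The configuration is impossible. -/
theorem eightFalse (hT : ThetaExpandStmt.{u}) : EightConfigFalseStmt.{u} := by
  intro G _ _ hA E
  let := Fintype.ofFinite G
  exact Eight.main E hT hA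

end Cfsg.Agent.Lib.CyclicOddSylow16
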