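import Mathlib

/-!
# The arithmetic ending the configuration with dihedral Sylow 2-subgroups of order eight
-/

set_option autoImplicit false

namespace Cfsg.Agent.Lib.CyclicOddSylow16.Eight

/-- Case (i). -/
theorem arith_one {w X N : ℤ} (hw : 3 ≤ w) (hX1 : X ≠ 1) (hX0 : X ≠ 0)
    (h1 : N * (X - 1) ^ 2 = 64 * w * (1 + w) ^ 2 * (X * (X + 1)))
    (h2 : 192 * w ^ 3 * (X * (X - 1)) = N * (X - 1) ^ 2) : False := by
  have hwX : (64 * w * X : ℤ) ≠ 0 := mul_ne_zero (by omega) hX0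
  have h : 3 * w ^ 2 * (X - 1) = (1 + w) ^ 2 * (X + 1) := by
    apply mul_left_cancel₀ hwX
    linear_combination h2.trans h1
  rcases (by omega : w = 3 ∨ w = 4 ∨ 5 ≤ w) with rfl | rfl | h5
  · omega
  · omega
  have hd : X * (2 * w ^ 2 - 2 * w - 1) = 4 * w ^ 2 + 2 * w + 1 := by linear_combination h
  have hd0 : 0 < 2 * w ^ 2 - 2 * w - 1 := by nlinarith
  rcases (by omega : X ≤ 2 ∨ 3 ≤ X) with hX | hX
  · nlinarith [mul_le_mul_of_nonneg_right hX hd0.le]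
  · nlinarith [mul_le_mul_of_nonneg_right hX hd0.le]

/-- Case (ii). -/
theorem arith_two {w X N m : ℤ} (hw : 3 ≤ w) (hwo : Odd w) (hm : Odd m) (hN : N = 8 * m) (hX1 : X ≠ 1)
    (h1 : N * (X - 1) ^ 2 = 64 * w * (1 + w) ^ 2 * (X * (X + 1)))
    (h2 : 192 * w ^ 3 * ((X + 1) * (X + 2)) = N * (X + 3) ^ 2) : False := by
  subst hN
  obtain ⟨k, rfl⟩ : ∃ k, X = 2 * k + 1 := by
    rcases Int.even_or_odd X with ⟨k, rfl⟩ | h
    · exfalso
      have he : Even (m * (k + k - 1) ^ 2) :=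
        ⟨4 * w * (1 + w) ^ 2 * ((k + k) * (k + k + 1)), by linarith [h1]⟩
      have ho : Odd (k + k - 1) := ⟨k - 1, by ring⟩
      exact Int.not_even_iff_odd.2 (hm.mul ho.pow) he
    · exact h
  have h3 : 12 * w ^ 3 * ((k + 1) * (2 * k + 3)) = m * (k + 2) ^ 2 := by linarith [h2]
  obtain ⟨j, rfl⟩ : ∃ j, k = 2 * j := by
    rcases Int.even_or_odd k with ⟨j, rfl⟩ | h
    · exact ⟨j, by ring⟩
    · exfalso
      have he : Even (m * (k + 2) ^ 2) := ⟨6 * w ^ 3 * ((k + 1) * (2 * k + 3)), by linarith [h3]⟩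
      exact Int.not_even_iff_odd.2 (hm.mul (h.add_even even_two).pow) he
  have h4 : 3 * w ^ 3 * ((2 * j + 1) * (4 * j + 3)) = m * (j + 1) ^ 2 := by linarith [h3]
  obtain ⟨i, rfl⟩ : ∃ i, j = 2 * i := by
    rcases Int.even_or_odd j with ⟨i, rfl⟩ | h
    · exact ⟨i, by ring⟩
    · exfalso
      have ho : Odd (m * (j + 1) ^ 2) := by
        rw [← h4]
        exact ((show Odd (3 : ℤ) from ⟨1, rfl⟩).mul hwo.pow).mul ((odd_two_mul_add_one j).mul ⟨2 * j + 1, by ring⟩)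
      exact Int.not_even_iff_odd.2 ho ((h.add_odd odd_one).pow_of_ne_zero two_ne_zero |>.mul_left m)
  obtain ⟨X, hX⟩ : ∃ X, X = 2 * (2 * (2 * i)) + 1 := ⟨_, rfl⟩
  rw [← hX] at h1 h2 hX1
  have hXp : X + 1 ≠ 0 := by omega
  have hbal : (1 + w) ^ 2 * (X * (X + 3) ^ 2) = 3 * w ^ 2 * ((X + 2) * (X - 1) ^ 2) := by
    apply mul_left_cancel₀ (show (64 * w * (X + 1) : ℤ) ≠ 0 from mul_ne_zero (by omega) hXp)
    linear_combination (-(X + 3) ^ 2) * h1 - (X - 1) ^ 2 * h2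
  have hlo : (1 + w) ^ 2 < 3 * w ^ 2 := by nlinarith
  have hhi : 9 * (1 + w) ^ 2 ≤ 16 * w ^ 2 := by nlinarith
  have hcase : 17 ≤ X ∨ X = 9 ∨ X ≤ -7 := by omega
  rcases hcase with hb | rfl | hb
  · have hA : 0 < 27 * ((X + 2) * (X - 1) ^ 2) - 16 * (X * (X + 3) ^ 2) := by
      nlinarith [mul_le_mul_of_nonneg_right hb (by nlinarith : (0 : ℤ) ≤ X ^ 2), sq_nonneg (X - 17)]
    have hY : (0 : ℤ) ≤ X * (X + 3) ^ 2 := mul_nonneg (by omega) (sq_nonneg _)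
    have hw2 : (0 : ℤ) < w ^ 2 := by positivity
    nlinarith [mul_le_mul_of_nonneg_right hhi hY, mul_pos hw2 hA]
  · rcases (by omega : w = 3 ∨ 4 ≤ w) with rfl | h4w
    · norm_num at hbal
    · nlinarith
  · obtain ⟨Y, rfl⟩ : ∃ Y, X = -Y := ⟨-X, by ring⟩
    have hY : 7 ≤ Y := by omega
    have h' : (1 + w) ^ 2 * (Y * (Y - 3) ^ 2) = 3 * w ^ 2 * ((Y - 2) * (Y + 1) ^ 2) := by
      linear_combination -hbal
    have hlt : Y * (Y - 3) ^ 2 < (Y - 2) * (Y + 1) ^ 2 := by nlinarith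
    have hY0 : (0 : ℤ) ≤ Y * (Y - 3) ^ 2 := mul_nonneg (by omega) (sq_nonneg _)
    nlinarith [mul_le_mul_of_nonneg_right hlo.le hY0, mul_lt_mul_of_pos_left hlt (show (0 : ℤ) < 3 * w ^ 2 by positivity)]

end Cfsg.Agent.Lib.CyclicOddSylow16.Eight
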