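import Cfsg.Agent.Lib.CyclicOddSylow16.Spec
import Cfsg.Agent.Lib.SL2.Orders
import Cfsg.Agent.Lib.PSLAut.Kernel
import Cfsg.Agent.Lib.LinGroup.Order
import Cfsg.Agent.Lib.LinGroup.Simple
import Cfsg.Agent.S0813

/-!
# The facts about `PSL₂(p)` and `SL₂(p)` used for groups with cyclic odd Sylow subgroups
-/

set_option autoImplicit false

namespace Cfsg.Agent.Lib.CyclicOddSylow16

namespace Model

open Subgroup
open Cfsg.Agent.Lib.SL2 (SLtwo IsElliptic IsSplit commElt)
open Cfsg.Agent.Lib.PSLAut (proj conj slConj quotAut)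

variable {p : ℕ} [Fact p.Prime]

lemma two_ne (hp : 5 ≤ p) : (2 : ZMod p) ≠ 0 := by
  intro h
  have : ((2 : ℕ) : ZMod p) = 0 := by exact_mod_cast h
  have := Nat.le_of_dvd two_pos ((ZMod.natCast_eq_zero_iff 2 p).1 this)
  omega

lemma card_sl : Nat.card (SL2 p) = p * (p + 1) * (p - 1) := by
  rw [SL2.card_SLtwo, ZMod.card, show p ^ 2 - 1 = (p + 1) * (p - 1) by
    simpa using Nat.sq_sub_sq p 1, mul_assoc]

lemma quotAut_injective (hp : 5 ≤ p) :
    Function.Injective (quotAut : MulAut (SL2 p) →* MulAut (PSL2 p)) := by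
  refine (injective_iff_map_eq_one _).2 fun e he => ?_
  have hz : ∀ s : SL2 p, s⁻¹ * e s ∈ center (SL2 p) := fun s => by
    have h : proj (e s) = proj s := by rw [← PSLAut.quotAut_proj, he]; rfl
    exact QuotientGroup.eq.1 h.symm
  let f : SL2 p →* center (SL2 p) := MonoidHom.mk' (fun s => ⟨s⁻¹ * e s, hz s⟩) fun s t => by
    refine Subtype.ext ?_
    show (s * t)⁻¹ * e (s * t) = (s⁻¹ * e s) * (t⁻¹ * e t)
    rw [← mul_assoc (s⁻¹ * e s) t⁻¹, ← mem_center_iff.1 (hz s) t⁻¹, map_mul]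
    group
  have hle : commutator (SL2 p) ≤ f.ker := by
    rw [commutator_def, Subgroup.commutator_le]
    intro a _ b _
    rw [MonoidHom.mem_ker, map_commutatorElement, commutatorElement_eq_one_iff_mul_comm]
    exact Subtype.ext (mem_center_iff.1 (f b).2 (f a : SL2 p))
  rw [LinGroup.commutator_SL_fin_eq_top le_rfl (fun _ => by rw [Nat.card_zmod]; omega)] at hle
  refine MulEquiv.ext fun s => ?_
  have h := congrArg Subtype.val (MonoidHom.mem_ker.1 (hle (mem_top s)))
  simp only [f, MonoidHom.mk'_apply, OneMemClass.coe_one] at h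
  exact (inv_mul_eq_one.1 h).symm

lemma exists_eq_conj (β : MulAut (PSL2 p)) : ∃ g : GL (Fin 2) (ZMod p), β = conj g := by
  obtain ⟨g, σ, ε, hε, rfl⟩ := PSLAut.exists_eq_conj_mul_fieldAut_mul le_rfl β
  obtain rfl : σ = 1 := RingEquiv.ext fun x =>
    DFunLike.congr_fun (RingHom.ext_zmod σ.toRingHom (RingHom.id (ZMod p))) x
  rcases hε with rfl | rfl
  · exact ⟨g, by rw [map_one, mul_one, mul_one]⟩
  · obtain ⟨w, hw⟩ := PSLAut.invTrans_eq_conj_two (F := ZMod p)
    exact ⟨g * w, by rw [hw, map_one, mul_one, map_mul]⟩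

lemma exists_eq_slConj (hp : 5 ≤ p) (β : MulAut (SL2 p)) :
    ∃ g : GL (Fin 2) (ZMod p), β = slConj g := by
  obtain ⟨g, hg⟩ := exists_eq_conj (quotAut (n := 2) (F := ZMod p) β)
  exact ⟨g, quotAut_injective hp hg⟩

lemma card_aut_psl (hp : 5 ≤ p) : Nat.card (MulAut (PSL2 p)) = Nat.card (SL2 p) := by
  have hF : Fintype.card (ZMod p) = p ^ 1 := by rw [ZMod.card, pow_one]
  have h := S0813.result (F := ZMod p) p 1 le_rfl hF 2 le_rfl (fun _ => by rw [pow_one]; omega)
  rw [if_pos rfl, one_mul, one_mul] at h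
  exact h.trans (LinGroup.card_PGL_eq_card_SL 2)

lemma card_sl_psl (hp : 5 ≤ p) : Nat.card (SL2 p) = 2 * Nat.card (PSL2 p) := by
  rw [Subgroup.card_eq_card_quotient_mul_card_subgroup (center (SL2 p)),
    SL2.card_center_odd (two_ne hp), mul_comm]

lemma card_aut_sl (hp : 5 ≤ p) : Nat.card (MulAut (SL2 p)) = Nat.card (SL2 p) := by
  rw [← card_aut_psl hp]
  refine Nat.card_congr (Equiv.ofBijective _ ⟨quotAut_injective hp, fun β => ?_⟩)
  obtain ⟨g, rfl⟩ := exists_eq_conj β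
  exact ⟨slConj g, rfl⟩

/-! ## Types of elements -/

lemma center_mul_self {c : SL2 p} (hc : c ∈ center (SL2 p)) : c * c = 1 := by
  rcases (SL2.mem_center_iff_eq c).1 hc with rfl | rfl <;> simp

lemma not_mem_center {z : SL2 p} (h2 : 2 < orderOf z) : z ∉ center (SL2 p) := fun h => by
  have := Nat.le_of_dvd two_pos (orderOf_dvd_of_pow_eq_one
    (show z ^ 2 = 1 by rw [pow_two, center_mul_self h]))
  omega

lemma elliptic_of_dvd (hp : 5 ≤ p) {z : SL2 p} (h2 : 2 < orderOf z) (h : orderOf z ∣ p + 1) :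
    IsElliptic z := by
  have hc : Nat.Coprime (orderOf z) p :=
    Nat.Coprime.coprime_dvd_left h (by simp [Nat.Coprime])
  have hn := not_mem_center h2
  rcases SL2.semisimple_of_coprime (F := ZMod p) p hn hc with e | e
  · exact e
  · exfalso
    have h1 := SL2.orderOf_dvd_card_centralizer z
    rw [SL2.card_centralizer_split e, ZMod.card] at h1
    have h12 : orderOf z ∣ 2 := by
      have h3 := Nat.dvd_sub h h1
      rwa [show p + 1 - (p - 1) = 2 by omega] at h3
    have := Nat.le_of_dvd two_pos h12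
    omega

lemma split_of_dvd (hp : 5 ≤ p) {z : SL2 p} (h2 : 2 < orderOf z) (h : orderOf z ∣ p - 1) :
    IsSplit z := by
  have hc : Nat.Coprime (orderOf z) p := Nat.Coprime.coprime_dvd_left h
    ((Nat.coprime_self_sub_left (m := 1) (n := p) (by omega)).2 (Nat.coprime_one_left p))
  have hn := not_mem_center h2
  rcases SL2.semisimple_of_coprime (F := ZMod p) p hn hc with e | e
  · exfalso
    have h1 := SL2.orderOf_dvd_card_centralizer z
    rw [SL2.card_centralizer_elliptic e, ZMod.card] at h1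
    have h12 : orderOf z ∣ 2 := by
      have h3 := Nat.dvd_sub h1 h
      rwa [show p + 1 - (p - 1) = 2 by omega] at h3
    have := Nat.le_of_dvd two_pos h12
    omega
  · exact e

lemma torus_add (hp : 5 ≤ p) {z : SL2 p} (h2 : 2 < orderOf z) (h : orderOf z ∣ p + 1) :
    IsCyclic (centralizer ({z} : Set (SL2 p))) ∧
      Nat.card (centralizer ({z} : Set (SL2 p))) = p + 1 :=
  ⟨SL2.isCyclic_centralizer_elliptic (elliptic_of_dvd hp h2 h),
    by rw [SL2.card_centralizer_elliptic (elliptic_of_dvd hp h2 h), ZMod.card]⟩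

lemma torus_sub (hp : 5 ≤ p) {z : SL2 p} (h2 : 2 < orderOf z) (h : orderOf z ∣ p - 1) :
    IsCyclic (centralizer ({z} : Set (SL2 p))) ∧
      Nat.card (centralizer ({z} : Set (SL2 p))) = p - 1 :=
  ⟨SL2.isCyclic_centralizer_split (split_of_dvd hp h2 h),
    by rw [SL2.card_centralizer_split (split_of_dvd hp h2 h), ZMod.card]⟩

lemma torus_two (hp : 5 ≤ p) {z : SL2 p} (h2 : 2 < orderOf z) (h : orderOf z ∣ tor2 p) :
    IsCyclic (centralizer ({z} : Set (SL2 p))) ∧
      Nat.card (centralizer ({z} : Set (SL2 p))) = tor2 p := by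
  unfold tor2 at h ⊢
  split_ifs at h ⊢
  · exact torus_add hp h2 h
  · exact torus_sub hp h2 h

lemma torus_four (hp : 5 ≤ p) {z : SL2 p} (h2 : 2 < orderOf z) (h : orderOf z ∣ tor4 p) :
    IsCyclic (centralizer ({z} : Set (SL2 p))) ∧
      Nat.card (centralizer ({z} : Set (SL2 p))) = tor4 p := by
  unfold tor4 at h ⊢
  split_ifs at h ⊢
  · exact torus_sub hp h2 h
  · exact torus_add hp h2 h

lemma odd_prime (hp : 5 ≤ p) : p % 2 = 1 :=
  (Fact.out : p.Prime).eq_two_or_odd.resolve_left (by omega)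

lemma four_dvd_tor (hp : 5 ≤ p) : 4 ∣ tor4 p := by
  have := odd_prime hp
  unfold tor4; split_ifs <;> omega

omit [Fact p.Prime] in
lemma two_of_dvd_tors {r : ℕ} (hp : 5 ≤ p) (h2 : r ∣ tor2 p) (h4 : r ∣ tor4 p) : r ∣ 2 := by
  have e : p + 1 - (p - 1) = 2 := by omega
  unfold tor2 tor4 at *
  split_ifs at * <;> first | (rw [← e]; exact Nat.dvd_sub h2 h4) | (rw [← e]; exact Nat.dvd_sub h4 h2)

/-- An odd prime dividing the torus order congruent to 2 mod 4. -/
lemma exists_prime_tor (hp : 5 ≤ p) : ∃ r : ℕ, r.Prime ∧ r ≠ 2 ∧ r ∣ tor2 p := by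
  have := odd_prime hp
  obtain ⟨k, hk, hk1, hk2⟩ : ∃ k, tor2 p = 2 * k ∧ k % 2 = 1 ∧ 1 < k :=
    ⟨tor2 p / 2, by unfold tor2; split_ifs <;> omega, by unfold tor2; split_ifs <;> omega,
      by unfold tor2; split_ifs <;> omega⟩
  obtain ⟨r, hr, hrk⟩ := Nat.exists_prime_and_dvd (show k ≠ 1 by omega)
  exact ⟨r, hr, fun e => by subst e; omega, hk ▸ Dvd.dvd.mul_left hrk 2⟩

lemma tor_dvd_card : tor2 p ∣ Nat.card (SL2 p) := by
  rw [card_sl]
  unfold tor2; split_ifs
  · exact Dvd.dvd.mul_right (Dvd.intro_left p rfl) _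
  · exact Dvd.intro_left _ rfl

/-! ## The outer involution -/

lemma slConj_scalar {g : GL (Fin 2) (ZMod p)} {c : ZMod p}
    (hg : (g : Matrix (Fin 2) (Fin 2) (ZMod p)) = c • 1) : slConj g = 1 := by
  refine MulEquiv.ext fun s => Subtype.ext ?_
  show (g : Matrix (Fin 2) (Fin 2) (ZMod p)) * s.1 *
    ((g⁻¹ : GL (Fin 2) (ZMod p)) : Matrix (Fin 2) (Fin 2) (ZMod p)) = s.1
  have hs : (g : Matrix (Fin 2) (Fin 2) (ZMod p)) * s.1 =
      s.1 * (g : Matrix (Fin 2) (Fin 2) (ZMod p)) := by simp [hg]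
  rw [hs, mul_assoc, ← Units.val_mul, mul_inv_cancel, Units.val_one, mul_one]

lemma not_inner {g : GL (Fin 2) (ZMod p)}
    (hg : ¬ IsSquare (g : Matrix (Fin 2) (Fin 2) (ZMod p)).det) (v : PSL2 p) :
    conj g ≠ MulAut.conj v := by
  obtain ⟨s, rfl⟩ := PSLAut.proj_surjective v
  intro h
  rw [← PSLAut.conj_toGL] at h
  have h1 : conj ((Matrix.SpecialLinearGroup.toGL s)⁻¹ * g) = 1 := by
    rw [map_mul, map_inv, h, inv_mul_cancel]
  rw [PSLAut.conj_eq_one_iff, Matrix.GeneralLinearGroup.center_eq_range_scalar] at h1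
  obtain ⟨c, hc⟩ := h1
  apply hg
  have hmul : Matrix.SpecialLinearGroup.toGL s * Matrix.GeneralLinearGroup.scalar (Fin 2) c = g := by
    rw [hc, mul_inv_cancel_left]
  refine ⟨(c : ZMod p), ?_⟩
  rw [← hmul]
  simp [pow_two]

lemma not_inner_sl {g : GL (Fin 2) (ZMod p)}
    (hg : ¬ IsSquare (g : Matrix (Fin 2) (Fin 2) (ZMod p)).det) (x : SL2 p) :
    slConj g ≠ MulAut.conj x := by
  intro h
  refine not_inner hg (proj x) (PSLAut.aut_ext fun t => ?_)
  show proj (slConj g t) = proj x * proj t * (proj x)⁻¹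
  rw [h, MulAut.conj_apply, map_mul, map_mul, map_inv]

/-- The trace-zero part of an element of the torus of order `tor2` is an outer involution. -/
lemma exists_outer (hp : 5 ≤ p) {y : SL2 p} {r : ℕ} (hr : r.Prime) (hr2 : r ≠ 2)
    (hy : orderOf y = r) (hd : r ∣ tor2 p) :
    ∃ g : GL (Fin 2) (ZMod p), ¬ IsSquare (g : Matrix (Fin 2) (Fin 2) (ZMod p)).det ∧
      slConj g * slConj g = 1 ∧ slConj g y = y := by
  have h3 : 2 < orderOf y := by have := hr.two_le; omega
  have hodd := odd_prime hp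
  obtain ⟨h, hh⟩ : ∃ h : ZMod p, SL2.tr y = 2 * h :=
    ⟨SL2.tr y / 2, by rw [mul_div_cancel₀ _ (two_ne hp)]⟩
  have hs : y 0 0 + y 1 1 = 2 * h := hh
  have hdet := SL2.det_entries y
  let M : Matrix (Fin 2) (Fin 2) (ZMod p) := (y : Matrix (Fin 2) (Fin 2) (ZMod p)) - h • 1
  have hMd : M.det = 1 - h ^ 2 := by
    simp [M, Matrix.det_fin_two]
    linear_combination hdet - h * hs
  have hMM : M * M = (h ^ 2 - 1) • 1 := by
    ext i j
    fin_cases i <;> fin_cases j <;> simp [M, Matrix.mul_apply, Fin.sum_univ_two]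
    · linear_combination y 0 0 * hs - hdet
    · linear_combination y 0 1 * hs
    · linear_combination y 1 0 * hs
    · linear_combination y 1 1 * hs - hdet
  have hsq : ¬ IsSquare (1 - h ^ 2) := by
    rintro ⟨s, hs'⟩
    unfold tor2 at hd
    split_ifs at hd with h4
    · obtain ⟨i, hi⟩ := ZMod.exists_sq_eq_neg_one_iff.2 (show p % 4 ≠ 3 by omega)
      have he := elliptic_of_dvd hp h3 (hy ▸ hd)
      refine he (h + i * s) ?_
      rw [hh]
      linear_combination hs' - (s * s) * hi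
    · obtain ⟨l, m, ht, hlm, hne⟩ := SL2.isSplit_roots (split_of_dvd hp h3 (hy ▸ hd))
      have hd0 : l - m ≠ 0 := sub_ne_zero.2 hne
      refine ZMod.exists_sq_eq_neg_one_iff.1 ⟨2 * s / (l - m), ?_⟩ (by omega)
      rw [hh] at ht
      field_simp
      linear_combination (4 : ZMod p) * hs' + (2 * h + (l + m)) * ht - (4 : ZMod p) * hlm
  have hM0 : M.det ≠ 0 := fun e => hsq (by rw [← hMd, e]; exact IsSquare.zero)
  let g := Matrix.GeneralLinearGroup.mkOfDetNeZero M hM0
  have hgc : (g : Matrix (Fin 2) (Fin 2) (ZMod p)) = M := rfl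
  refine ⟨g, by rw [hgc, hMd]; exact hsq, ?_, ?_⟩
  · rw [← map_mul]
    exact slConj_scalar (c := h ^ 2 - 1) (by rw [Units.val_mul, hgc, hMM])
  · refine Subtype.ext ?_
    show (g : Matrix (Fin 2) (Fin 2) (ZMod p)) * y.1 *
      ((g⁻¹ : GL (Fin 2) (ZMod p)) : Matrix (Fin 2) (Fin 2) (ZMod p)) = y.1
    have hc : (g : Matrix (Fin 2) (Fin 2) (ZMod p)) * y.1 =
        y.1 * (g : Matrix (Fin 2) (Fin 2) (ZMod p)) := by simp [hgc, M, sub_mul, mul_sub]
    rw [hc, mul_assoc, ← Units.val_mul, mul_inv_cancel, Units.val_one, mul_one]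

/-- The centraliser of an involution of `PSL₂(p)` avoids the primes of `tor2`. -/
lemma not_dvd_centralizer (hp : 5 ≤ p) {r : ℕ} (hr : r.Prime) (hr2 : r ≠ 2) (hd : r ∣ tor2 p)
    (v : PSL2 p) (hv : orderOf v = 2) : ¬ r ∣ Nat.card (centralizer ({v} : Set (PSL2 p))) := by
  intro hdvd
  haveI := Fact.mk hr
  obtain ⟨w, hw⟩ := exists_prime_orderOf_dvd_card' r hdvd
  have hwv := mem_centralizer_singleton_iff.1 w.2
  have hwo : orderOf (w : PSL2 p) = r := by rw [orderOf_coe, hw]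
  obtain ⟨h, rfl⟩ := PSLAut.proj_surjective v
  obtain ⟨k, hk⟩ := PSLAut.proj_surjective (w : PSL2 p)
  rw [← hk] at hwv hwo
  have hncen : h ∉ center (SL2 p) := fun hc => by
    have h1 : (proj h : PSL2 p) = 1 := (QuotientGroup.eq_one_iff h).2 hc
    rw [h1, orderOf_one] at hv
    omega
  have hhc : h * h ∈ center (SL2 p) := (QuotientGroup.eq_one_iff (h * h)).1 (by
    show proj (h * h) = 1
    have e := pow_orderOf_eq_one (proj h : PSL2 p)
    rw [hv, pow_two, ← map_mul] at e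
    exact e)
  have hh1 : h * h ≠ 1 := fun e => hncen ((SL2.mem_center_iff_eq h).2 (by
    by_cases h1 : h = 1
    · exact Or.inl h1
    · exact Or.inr (SL2.eq_neg_one_of_mul_self_eq_one (two_ne hp) e h1)))
  have ho : orderOf h = 2 ^ (1 + 1) := orderOf_eq_prime_pow (by rwa [pow_one, pow_two]) (by
    rw [show 2 ^ (1 + 1) = 2 + 2 by norm_num, pow_add, pow_two, center_mul_self hhc])
  have hcen := (torus_four hp (by rw [ho]; norm_num) (by rw [ho]; exact four_dvd_tor hp)).2
  obtain ⟨c, hc, hc2⟩ : ∃ c ∈ center (SL2 p), h * k = k * h * c := ⟨_, QuotientGroup.eq.1 (show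
    proj (k * h) = proj (h * k) by rw [map_mul, map_mul, hwv]), (mul_inv_cancel_left _ _).symm⟩
  have hkk : k * k ∈ centralizer ({h} : Set (SL2 p)) := by
    rw [mem_centralizer_singleton_iff]
    symm
    calc h * (k * k) = k * h * c * k := by rw [← mul_assoc, hc2]
      _ = k * (h * k) * c := by
        rw [mul_assoc (k * h) c k, ← mem_center_iff.1 hc k, ← mul_assoc, mul_assoc k h k]
      _ = k * k * h * (c * c) := by rw [hc2]; simp only [mul_assoc]
      _ = k * k * h := by rw [center_mul_self hc, mul_one]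
  have hrk : r ∣ orderOf (k * k) := by
    have h1 := orderOf_map_dvd (proj : SL2 p →* PSL2 p) (k * k)
    rw [map_mul, ← pow_two, Nat.Coprime.orderOf_pow
      (by rw [hwo]; exact (Nat.coprime_primes hr Nat.prime_two).2 hr2), hwo] at h1
    exact h1
  have := Nat.le_of_dvd two_pos (two_of_dvd_tors hp hd (hcen ▸ hrk.trans
    (by
      have h1 := orderOf_dvd_natCard (⟨k * k, hkk⟩ : centralizer ({h} : Set (SL2 p)))
      rwa [Subgroup.orderOf_mk] at h1)))
  have := hr.two_le
  omega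

/-- An automorphism fixing or inverting `z` does the same on the centraliser of `z`. -/
lemma fix_or_invert (hp : 5 ≤ p) (β : MulAut (SL2 p)) {z x : SL2 p} (hz : z ∉ center (SL2 p))
    (hx : x * z = z * x) : (β z = z → β x = x) ∧ (β z = z⁻¹ → β x = x⁻¹) := by
  obtain ⟨g, rfl⟩ := exists_eq_slConj hp β
  obtain ⟨⟨a, b⟩, hab⟩ := SL2.exists_commElt (SL2.not_isScalarMat hz)
    (show x.1 * z.1 = z.1 * x.1 by
      have := congrArg Subtype.val hx
      simpa using this)
  have hg : (g : Matrix (Fin 2) (Fin 2) (ZMod p)) *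
      ((g⁻¹ : GL (Fin 2) (ZMod p)) : Matrix (Fin 2) (Fin 2) (ZMod p)) = 1 := by
    rw [← Units.val_mul, mul_inv_cancel, Units.val_one]
  have hval : ((slConj g x : SL2 p) : Matrix (Fin 2) (Fin 2) (ZMod p)) =
      a • 1 + b • ((slConj g z : SL2 p) : Matrix (Fin 2) (Fin 2) (ZMod p)) := by
    show (g : Matrix (Fin 2) (Fin 2) (ZMod p)) * x.1 *
      ((g⁻¹ : GL (Fin 2) (ZMod p)) : Matrix (Fin 2) (Fin 2) (ZMod p)) =
        a • 1 + b • ((g : Matrix (Fin 2) (Fin 2) (ZMod p)) * z.1 *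
          ((g⁻¹ : GL (Fin 2) (ZMod p)) : Matrix (Fin 2) (Fin 2) (ZMod p)))
    rw [hab, commElt, mul_add, add_mul, Matrix.mul_smul, Matrix.smul_mul, Matrix.mul_smul,
      Matrix.smul_mul, mul_one, hg]
  constructor
  · intro e
    refine Subtype.ext ?_
    rw [hval, e, hab]
    rfl
  · intro e
    refine Subtype.ext ?_
    rw [hval, e, Matrix.SpecialLinearGroup.coe_inv, Matrix.SpecialLinearGroup.coe_inv, hab]
    ext i j
    fin_cases i <;> fin_cases j <;> simp [Matrix.adjugate_fin_two, commElt]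

end Model

open Cfsg.Agent.Lib.PSLAut (proj conj slConj quotAut)

theorem modelPSL : ModelPSLStmt := by
  intro p _ hp
  refine ⟨by rw [Model.card_aut_psl hp, Model.card_sl_psl hp], ?_⟩
  obtain ⟨r, hr, hr2, hd⟩ := Model.exists_prime_tor hp
  haveI := Fact.mk hr
  obtain ⟨y, hy⟩ := exists_prime_orderOf_dvd_card' r (hd.trans (Model.tor_dvd_card (p := p)))
  obtain ⟨g, hg, hgg, hgy⟩ := Model.exists_outer hp hr hr2 hy hd
  refine ⟨conj g, Model.not_inner hg, ?_, proj y, r, hr, hr2, ?_, ?_,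
    Model.not_dvd_centralizer hp hr hr2 hd⟩
  · show quotAut (slConj g) * quotAut (slConj g) = 1
    rw [← map_mul, hgg, map_one]
  · refine orderOf_eq_prime (by rw [← map_pow, ← hy, pow_orderOf_eq_one, map_one]) fun e => ?_
    exact Model.not_mem_center (by have := hr.two_le; omega) ((QuotientGroup.eq_one_iff y).1 e)
  · show proj (slConj g y) = proj y
    rw [hgy]

theorem modelSL : ModelSLStmt := by
  intro p _ hp
  refine ⟨Model.card_aut_sl hp, Model.card_sl, fun β z x hz hx => Model.fix_or_invert hp β hz hx,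
    fun z h2 h => Model.torus_two hp h2 h, fun z h2 h => Model.torus_four hp h2 h,
    fun y r hr hr2 hy hd => ?_⟩
  obtain ⟨g, hg, hgg, hgy⟩ := Model.exists_outer hp hr hr2 hy hd
  exact ⟨slConj g, Model.not_inner_sl hg, hgg, hgy⟩

end Cfsg.Agent.Lib.CyclicOddSylow16
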