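import Cfsg.Agent.Lib.CyclicOddSylow16.Types
import Cfsg.Agent.Lib.Components.GenFitting
import Cfsg.Agent.Lib.Primitive62.Basic
import Cfsg.Agent.Lib.BaseThree.Basic
import Mathlib

/-!
# Perfect subgroups centralise solvable normal subgroups
-/

set_option autoImplicit false

namespace Cfsg.Agent.Lib.CyclicOddSylow16.Radical16

open Subgroup
open scoped commutatorElement

universe u

theorem hyp_subgroup {G : Type u} [Group G] [Finite G] (hG : Hyp G) (H : Subgroup G) : Hyp H := by
  refine ⟨fun p hp hp2 P => ?_, fun P => ?_⟩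
  · haveI : Fact p.Prime := ⟨hp⟩
    obtain ⟨Q, hQ⟩ := (P.2.map H.subtype).exists_le_sylow
    haveI := hG.1 p hp hp2 Q
    exact isCyclic_of_injective ((Subgroup.inclusion hQ).comp
      ((P : Subgroup H).equivMapOfInjective H.subtype H.subtype_injective).toMonoidHom)
      ((Subgroup.inclusion_injective hQ).comp (MulEquiv.injective _))
  · haveI : Fact (Nat.Prime 2) := ⟨Nat.prime_two⟩
    obtain ⟨Q, hQ⟩ := (P.2.map H.subtype).exists_le_sylow
    obtain ⟨C, hC, hi⟩ := hG.2 Q
    let f : (P : Subgroup H) →* (Q : Subgroup G) := (Subgroup.inclusion hQ).comp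
      ((P : Subgroup H).equivMapOfInjective H.subtype H.subtype_injective).toMonoidHom
    have hf : Function.Injective f := (Subgroup.inclusion_injective hQ).comp (MulEquiv.injective _)
    refine ⟨C.comap f, isCyclic_of_injective (f.subgroupComap C) fun a b h =>
      Subtype.ext (hf (congrArg Subtype.val h)), ?_⟩
    haveI := Types.normal_of_index hi
    rw [Subgroup.index_comap]
    exact (Subgroup.relIndex_dvd_index_of_normal C f.range).trans hi

theorem hyp_of_surjective {G H : Type u} [Group G] [Group H] [Finite G] [Finite H] (hG : Hyp G)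
    (f : G →* H) (hf : Function.Surjective f) : Hyp H := by
  refine ⟨fun p hp hp2 P => ?_, fun P => ?_⟩
  · haveI : Fact p.Prime := ⟨hp⟩
    obtain ⟨Q, rfl⟩ := Sylow.mapSurjective_surjective hf p P
    haveI := hG.1 p hp hp2 Q
    rw [Sylow.coe_mapSurjective]
    exact isCyclic_of_surjective (f.subgroupMap (Q : Subgroup G)) (f.subgroupMap_surjective _)
  · haveI : Fact (Nat.Prime 2) := ⟨Nat.prime_two⟩
    obtain ⟨Q, rfl⟩ := Sylow.mapSurjective_surjective hf 2 P
    obtain ⟨C, hC, hi⟩ := hG.2 Q
    rw [Sylow.coe_mapSurjective]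
    refine ⟨C.map (f.subgroupMap (Q : Subgroup G)), isCyclic_of_surjective _
      ((f.subgroupMap (Q : Subgroup G)).subgroupMap_surjective C), ?_⟩
    exact (Subgroup.index_map_dvd C (f.subgroupMap_surjective _)).trans hi

/-- Commuting elementwise trivially meeting subgroups of prime exponent give a noncyclic group. -/
theorem card_le_of_elem {G : Type u} [Group G] [Finite G] (hG : Hyp G) {A : Subgroup G}
    (hA : IsMulCommutative A) {r : ℕ} (hr : r.Prime) (he : ∀ a ∈ A, a ^ r = 1) :
    Nat.card A ≤ 4 ∨ IsCyclic A := by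
  by_cases h2 : r = 2
  · subst h2
    left
    simpa using Types.rank_le hG A hA he
  · right
    haveI : Fact r.Prime := ⟨hr⟩
    have hp : IsPGroup r A := fun a => ⟨1, by
      rw [pow_one]; exact Subtype.ext (by rw [SubmonoidClass.coe_pow]; exact he a a.2)⟩
    obtain ⟨P, hP⟩ := hp.exists_le_sylow
    haveI := hG.1 r hr h2 P
    exact isCyclic_of_injective (Subgroup.inclusion hP) (Subgroup.inclusion_injective hP)

/-- A perfect subgroup maps trivially to a solvable group. -/
theorem map_eq_bot {G A : Type*} [Group G] [Group A] [Group.IsSolvable A] (φ : G →* A) {L : Subgroup G}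
    (hL : ⁅L, L⁆ = L) : L.map φ = ⊥ := by
  have h : ∀ n, L.map φ ≤ derivedSeries A n := by
    intro n
    induction n with
    | zero => simp
    | succ n ih =>
      rw [derivedSeries_succ]
      calc L.map φ = ⁅L.map φ, L.map φ⁆ := by rw [← Subgroup.map_commutator, hL]
        _ ≤ _ := Subgroup.commutator_mono ih ih
  obtain ⟨n, hn⟩ := (Group.isSolvable_def A).1 inferInstance
  exact eq_bot_iff.2 (hn ▸ h n)

theorem isSolvable_mulAut {G : Type u} [Group G] [Finite G] {W : Subgroup G}
    (h : Nat.card W ≤ 4 ∨ IsCyclic W) : Group.IsSolvable (MulAut W) := by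
  rcases h with h | h
  · haveI := BaseThree.isSolvable_perm_of_card_le (α := W) h
    exact Group.isSolvable_of_isSolvable_injective (f := MulAut.toPerm W)
      fun a b hab => MulEquiv.ext fun w => Equiv.congr_fun hab w
  · haveI := h
    let e := IsCyclic.mulAutMulEquiv W
    exact Group.isSolvable_of_isSolvable_injective (f := e.toMonoidHom) e.injective

/-- A perfect normal subgroup centralises every solvable normal subgroup. -/
theorem centralises : ∀ (n : ℕ) (G : Type u) [Group G] [Finite G], Nat.card G = n → Hyp G →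
    ∀ L Z : Subgroup G, ⁅L, L⁆ = L → Z.Normal → Group.IsSolvable Z → ⁅L, Z⁆ = ⊥ := by
  intro n
  induction n using Nat.strong_induction_on with
  | _ n ih =>
    intro G _ _ hn hG L Z hL hZn hZs
    by_cases hZ : Z = ⊥
    · rw [hZ]; exact Subgroup.commutator_bot_right L
    obtain ⟨W, hWn, hW0, hWZ, hWmin⟩ : ∃ W : Subgroup G, W.Normal ∧ W ≠ ⊥ ∧ W ≤ Z ∧
        ∀ M : Subgroup G, M.Normal → M ≤ W → M = ⊥ ∨ M = W := by
      obtain ⟨W, ⟨hWn, hW0, hWZ⟩, hmin⟩ := (Set.toFinite {W : Subgroup G | W.Normal ∧ W ≠ ⊥ ∧ W ≤ Z}).exists_minimal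
        ⟨Z, hZn, hZ, le_rfl⟩
      refine ⟨W, hWn, hW0, hWZ, fun M hM hMW => ?_⟩
      by_cases h0 : M = ⊥
      · exact Or.inl h0
      · exact Or.inr (le_antisymm hMW (hmin ⟨hM, h0, hMW.trans hWZ⟩ hMW))
    haveI := hWn
    have hWs : Group.IsSolvable W :=
      Group.isSolvable_of_isSolvable_injective (f := Subgroup.inclusion hWZ) (Subgroup.inclusion_injective hWZ)
    have hsmall : Nat.card W ≤ 4 ∨ IsCyclic W := by
      rcases Primitive62.minimal_normal_cases W hW0 hWmin with ⟨hc, r, hr, he⟩ | ⟨S, _, _, _, k, hk, hS, ⟨e⟩⟩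
      · exact card_le_of_elem hG hc hr he
      · exfalso
        haveI : Group.IsSolvable (Fin k → S) := Group.isSolvable_of_surjective (f := e.toMonoidHom) e.surjective
        haveI : Group.IsSolvable S := Group.isSolvable_of_surjective
          (f := Pi.evalMonoidHom (fun _ : Fin k => S) ⟨0, hk⟩) (fun x => ⟨fun _ => x, rfl⟩)
        exact hS (IsMulCommutative.of_comm fun a b => IsSimpleGroup.comm_iff_isSolvable.2 inferInstance a b)
    haveI := isSolvable_mulAut hsmall
    have hLW : ⁅L, W⁆ = ⊥ := by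
      have h := map_eq_bot (MulAut.conjNormal : G →* MulAut W) hL
      rw [Subgroup.commutator_eq_bot_iff_le_centralizer]
      intro l hl
      rw [Subgroup.mem_centralizer_iff]
      intro w hw
      have h1 : (MulAut.conjNormal l : MulAut W) = 1 := by
        rw [← Subgroup.mem_bot, ← h]; exact ⟨l, hl, rfl⟩
      have h2 : l * w * l⁻¹ = w := by
        have := congrArg (fun φ : MulAut W => ((φ ⟨w, hw⟩ : W) : G)) h1
        simpa using this
      exact (mul_inv_eq_iff_eq_mul.1 h2).symm
    let π := QuotientGroup.mk' W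
    have hπ : Function.Surjective π := QuotientGroup.mk'_surjective W
    have hlt : Nat.card (G ⧸ W) < n := by
      have h1 := W.card_mul_index
      rw [hn, Subgroup.index_eq_card] at h1
      have h2 : 1 < Nat.card W := (Subgroup.one_lt_card_iff_ne_bot W).2 hW0
      have h3 : 0 < Nat.card (G ⧸ W) := Nat.card_pos
      nlinarith
    haveI : Group.IsSolvable Z := hZs
    have hq := ih _ hlt (G ⧸ W) rfl (hyp_of_surjective hG π hπ) (L.map π) (Z.map π)
      (by rw [← Subgroup.map_commutator, hL]) (hZn.map π hπ)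
      (Group.isSolvable_of_surjective (f := π.subgroupMap Z) (π.subgroupMap_surjective Z))
    have hle : ⁅L, Z⁆ ≤ W := by
      rw [← Subgroup.map_commutator, Subgroup.map_eq_bot_iff, QuotientGroup.ker_mk'] at hq
      exact hq
    have h1 : ⁅⁅L, Z⁆, L⁆ = ⊥ := eq_bot_iff.2
      ((Subgroup.commutator_mono hle le_rfl).trans (le_of_eq (by rw [Subgroup.commutator_comm, hLW])))
    have h2 : ⁅⁅Z, L⁆, L⁆ = ⊥ := by rw [Subgroup.commutator_comm Z L]; exact h1
    have h3 := Subgroup.commutator_commutator_eq_bot_of_rotate (H₁ := L) (H₂ := L) (H₃ := Z) h1 h2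
    rwa [hL] at h3

end Cfsg.Agent.Lib.CyclicOddSylow16.Radical16
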