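import Cfsg.Agent.Lib.CyclicOddSylow16.Cover16
import Cfsg.Agent.Lib.CyclicOddSylow16.Radical16
import Cfsg.Agent.Lib.AGroupIndex.Classes
import Cfsg.Agent.S0102
import Mathlib

/-!
# Reduction of S4069 to the simple case
-/

set_option autoImplicit false

namespace Cfsg.Agent.Lib.CyclicOddSylow16.Reduce16

open Subgroup
open scoped commutatorElement

universe u

theorem psl_isSimple {p : ℕ} [Fact p.Prime] (hp : 5 ≤ p) : IsSimpleGroup (PSL2 p) :=
  LinGroup.isSimpleGroup_PSL_of_commutator_SL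
    (LinGroup.commutator_SL_fin_eq_top le_rfl fun _ => by rw [Nat.card_zmod]; omega)

theorem psl_nonab {p : ℕ} [Fact p.Prime] (hp : 5 ≤ p) : ¬ IsMulCommutative (PSL2 p) := by
  intro h
  haveI := psl_isSimple hp
  have h1 : commutator (PSL2 p) = ⊤ := LinGroup.commutator_PSL_eq_top_of_commutator_SL
    (LinGroup.commutator_SL_fin_eq_top le_rfl fun _ => by rw [Nat.card_zmod]; omega)
  have h2 : commutator (PSL2 p) = ⊥ := by
    rw [commutator_eq_bot_iff_center_eq_top, eq_top_iff]
    exact fun x _ => Subgroup.mem_center_iff.2 fun y => h.is_comm.comm y x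
  exact absurd (h1.symm.trans h2) top_ne_bot

/-- A smaller nonabelian simple group with the hypotheses is `PSL₂(p)`. -/
theorem simple_case (hS : SimpleClassStmt.{u}) {n : ℕ}
    (ih : ∀ m < n, ∀ (G : Type u) [Group G] [Finite G], Nat.card G = m → Hyp G →
      ¬ Group.IsSolvable G → Struct G)
    (K : Type u) [Group K] [Finite K] (hs : IsSimpleGroup K) (hK : ¬ IsMulCommutative K) (hH : Hyp K)
    (hle : Nat.card K ≤ n) : IsPSLPrime K := by
  refine hS K ⟨hs, hK, hH, fun H hne hns => ih _ (lt_of_lt_of_le ?_ hle) H rfl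
    (Radical16.hyp_subgroup hH H) hns⟩
  refine lt_of_le_of_ne (Subgroup.card_le_card_group H) fun h => hne ?_
  exact (Subgroup.card_eq_iff_eq_top H).1 h

/-- A group of exponent two inside a commutative subgroup generated by two commuting ones. -/
theorem four_four_false {G : Type u} [Group G] [Finite G] (hG : Hyp G) {A B : Subgroup G}
    (hA : Nat.card A = 4) (hB : Nat.card B = 4) (hd : Disjoint A B)
    (hAc : ∀ a ∈ A, a ^ 2 = 1) (hBc : ∀ b ∈ B, b ^ 2 = 1) (hc : ∀ a ∈ A, ∀ b ∈ B, a * b = b * a) :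
    False := by
  have hAA : ∀ a ∈ A, ∀ a' ∈ A, a * a' = a' * a := fun a ha a' ha' => by
    have h := hAc _ (mul_mem ha ha')
    have h1 := hAc a ha
    have h2 := hAc a' ha'
    rw [pow_two] at h h1 h2
    calc a * a' = (a * a')⁻¹ := eq_inv_of_mul_eq_one_left h
      _ = a' * a := by rw [mul_inv_rev, inv_eq_of_mul_eq_one_left h1, inv_eq_of_mul_eq_one_left h2]
  have hBB : ∀ b ∈ B, ∀ b' ∈ B, b * b' = b' * b := fun a ha a' ha' => by
    have h := hBc _ (mul_mem ha ha')
    have h1 := hBc a ha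
    have h2 := hBc a' ha'
    rw [pow_two] at h h1 h2
    calc a * a' = (a * a')⁻¹ := eq_inv_of_mul_eq_one_left h
      _ = a' * a := by rw [mul_inv_rev, inv_eq_of_mul_eq_one_left h1, inv_eq_of_mul_eq_one_left h2]
  haveI : IsMulCommutative A := ⟨⟨fun a b => Subtype.ext (hAA a a.2 b b.2)⟩⟩
  haveI : IsMulCommutative B := ⟨⟨fun a b => Subtype.ext (hBB a a.2 b b.2)⟩⟩
  let f : A × B →* G := A.subtype.noncommCoprod B.subtype fun a b => hc a a.2 b b.2
  have hf : Function.Injective f := by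
    rw [← MonoidHom.ker_eq_bot_iff, eq_bot_iff]
    rintro ⟨a, b⟩ h
    replace h : (a : G) * (b : G) = 1 := h
    have ha : (a : G) ∈ A ⊓ B := Subgroup.mem_inf.2 ⟨a.2, by
      rw [eq_inv_of_mul_eq_one_left h]; exact B.inv_mem b.2⟩
    rw [hd.eq_bot, Subgroup.mem_bot] at ha
    rw [ha, one_mul] at h
    rw [Subgroup.mem_bot]
    exact Prod.ext (Subtype.ext ha) (Subtype.ext h)
  have h16 : Nat.card f.range = 16 := by
    rw [← Nat.card_congr (MonoidHom.ofInjective hf).toEquiv, Nat.card_prod, hA, hB]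
  have := Types.rank_le hG f.range ⟨⟨by
    rintro ⟨_, x, rfl⟩ ⟨_, y, rfl⟩
    refine Subtype.ext ?_
    show f x * f y = f y * f x
    rw [← map_mul, ← map_mul]
    exact congrArg f (Prod.ext (Subtype.ext (hAA _ x.1.2 _ y.1.2)) (Subtype.ext (hBB _ x.2.2 _ y.2.2)))⟩⟩ (by
    rintro _ ⟨x, rfl⟩
    rw [← map_pow]
    have : x ^ 2 = 1 := Prod.ext (Subtype.ext (by simpa using hAc x.1 x.1.2))
      (Subtype.ext (by simpa using hBc x.2 x.2.2))
    rw [this, map_one])
  rw [h16] at this
  norm_num at this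

theorem exists_four (K : Type u) [Group K] [Finite K] [IsSimpleGroup K] (hK : ¬ IsMulCommutative K) :
    ∃ E : Subgroup K, Nat.card E = 4 ∧ ∀ a ∈ E, a ^ 2 = 1 := by
  obtain ⟨E, hE⟩ := S0204.result (G := K) fun hc => hK (@IsCyclic.commutative K _ hc)
  refine ⟨E, hE.card_four, fun a ha => ?_⟩
  have := Monoid.pow_exponent_eq_one (⟨a, ha⟩ : E)
  rw [hE.exponent_two] at this
  exact congrArg Subtype.val this

/-- The socle of a group with trivial radical. -/
theorem exists_socle {Q : Type u} [Group Q] [Finite Q] (hQ : Hyp Q)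
    (hrad : Cfsg.solvableRadical Q = ⊥) (hne : ¬ Group.IsSolvable Q) :
    ∃ T : Subgroup Q, T.Normal ∧ IsSimpleGroup T ∧ ¬ IsMulCommutative T ∧
      centralizer (T : Set Q) = ⊥ := by
  have key : ∀ N : Subgroup Q, N.Normal → N ≠ ⊥ → ∃ T : Subgroup Q, T.Normal ∧ T ≤ N ∧
      IsSimpleGroup T ∧ ¬ IsMulCommutative T := by
    intro N hN hN0
    obtain ⟨T, ⟨hTn, hT0, hTN⟩, hmin⟩ := (Set.toFinite {W : Subgroup Q | W.Normal ∧ W ≠ ⊥ ∧ W ≤ N}).exists_minimal
      ⟨N, hN, hN0, le_rfl⟩
    haveI := hTn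
    refine ⟨T, hTn, hTN, ?_⟩
    have hmin' : ∀ M : Subgroup Q, M.Normal → M ≤ T → M = ⊥ ∨ M = T := fun M hM hMT => by
      by_cases h0 : M = ⊥
      · exact Or.inl h0
      · exact Or.inr (le_antisymm hMT (hmin ⟨hM, h0, hMT.trans hTN⟩ hMT))
    rcases Primitive62.minimal_normal_cases T hT0 hmin' with ⟨hc, -⟩ | ⟨S, _, _, _, k, hk, hS, ⟨e⟩⟩
    · exfalso
      haveI := hc
      have : Group.IsSolvable T := Group.isSolvable_of_comm fun a b => mul_comm' a b
      exact hT0 (eq_bot_iff.2 (hrad ▸ le_sSup ⟨hTn, this⟩))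
    · have hk1 : k = 1 := by
        by_contra hk'
        obtain ⟨E, hE, hE2⟩ : ∃ E : Subgroup S, Nat.card E = 4 ∧ ∀ a ∈ E, a ^ 2 = 1 := by
          obtain ⟨E, hE⟩ := S0204.result (G := S) fun hc => hS (@IsCyclic.commutative S _ hc)
          refine ⟨E, hE.card_four, fun a ha => ?_⟩
          have := Monoid.pow_exponent_eq_one (⟨a, ha⟩ : E)
          rw [hE.exponent_two] at this
          exact congrArg Subtype.val this
        classical
        let i0 : Fin k := ⟨0, hk⟩
        let i1 : Fin k := ⟨1, by omega⟩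
        let φ : Fin k → (S →* Q) := fun i =>
          T.subtype.comp (e.symm.toMonoidHom.comp (MonoidHom.mulSingle (fun _ : Fin k => S) i))
        have hinj : ∀ i, Function.Injective (φ i) := fun i a b h => by
          have := e.symm.injective (Subtype.ext h : e.symm (Pi.mulSingle i a) = e.symm (Pi.mulSingle i b))
          exact (Pi.mulSingle_injective i) this
        refine four_four_false hQ (A := E.map (φ i0)) (B := E.map (φ i1)) ?_ ?_ ?_ ?_ ?_ ?_
        · rw [Subgroup.card_map_of_injective (hinj i0), hE]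
        · rw [Subgroup.card_map_of_injective (hinj i1), hE]
        · rw [Subgroup.disjoint_def]
          rintro x ⟨a, -, rfl⟩ ⟨b, -, hb⟩
          have := e.symm.injective (Subtype.ext hb : e.symm (Pi.mulSingle i1 b) = e.symm (Pi.mulSingle i0 a))
          have h0 := congrFun this i0
          rw [Pi.mulSingle_eq_of_ne (by simp [i0, i1]), Pi.mulSingle_eq_same] at h0
          rw [← h0, map_one]
        · rintro _ ⟨a, ha, rfl⟩; rw [← map_pow, hE2 a ha, map_one]
        · rintro _ ⟨a, ha, rfl⟩; rw [← map_pow, hE2 a ha, map_one]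
        · rintro _ ⟨a, -, rfl⟩ _ ⟨b, -, rfl⟩
          have hc : Commute (Pi.mulSingle i0 a : Fin k → S) (Pi.mulSingle i1 b) :=
            Pi.mulSingle_commute (f := fun _ : Fin k => S) (by simp [i0, i1]) a b
          exact congrArg Subtype.val (hc.map e.symm.toMonoidHom).eq
      subst hk1
      let e1 : T ≃* S := e.trans (MulEquiv.funUnique (Fin 1) S)
      haveI : Nontrivial T := (Subgroup.nontrivial_iff_ne_bot T).2 hT0
      refine ⟨IsSimpleGroup.isSimpleGroup_of_surjective e1.symm.toMonoidHom e1.symm.surjective, fun h => hS ?_⟩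
      exact ⟨⟨fun a b => e1.symm.injective (by rw [map_mul, map_mul]; exact h.is_comm.comm _ _)⟩⟩
  have hne' : (⊤ : Subgroup Q) ≠ ⊥ := fun h => hne (by
    haveI : Subsingleton Q := by
      rw [← Subgroup.subsingleton_iff]
      exact subsingleton_of_bot_eq_top h.symm
    infer_instance)
  obtain ⟨T, hTn, -, hTs, hTa⟩ := key ⊤ inferInstance hne'
  refine ⟨T, hTn, hTs, hTa, ?_⟩
  by_contra hC
  haveI := hTn
  obtain ⟨T', hT'n, hT'C, hT's, hT'a⟩ := key (centralizer (T : Set Q)) inferInstance hC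
  haveI := hTs
  haveI := hT's
  obtain ⟨E, hE, hE2⟩ := exists_four T hTa
  obtain ⟨E', hE', hE2'⟩ := exists_four T' hT'a
  refine four_four_false hQ (A := E.map T.subtype) (B := E'.map T'.subtype) ?_ ?_ ?_ ?_ ?_ ?_
  · rw [Subgroup.card_map_of_injective T.subtype_injective, hE]
  · rw [Subgroup.card_map_of_injective T'.subtype_injective, hE']
  · rw [Subgroup.disjoint_def]
    rintro x ⟨a, -, rfl⟩ ⟨b, -, hb⟩
    by_contra hx
    have hz : a ∈ center T := Subgroup.mem_center_iff.2 fun c => Subtype.ext (by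
      have := Subgroup.mem_centralizer_iff.1 (hT'C b.2) c c.2
      rw [show ((b : T') : Q) = (a : Q) from hb] at this
      exact this)
    have hcen : center T = ⊥ := (inferInstance : (center T).Normal).eq_bot_or_eq_top.resolve_right
      fun hc => hTa ⟨⟨fun u v => (Subgroup.mem_center_iff.1 (hc ▸ mem_top v) u)⟩⟩
    rw [hcen, Subgroup.mem_bot] at hz
    exact hx (by rw [hz, map_one])
  · rintro _ ⟨a, ha, rfl⟩; rw [← map_pow, hE2 a ha, map_one]
  · rintro _ ⟨a, ha, rfl⟩; rw [← map_pow, hE2' a ha, map_one]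
  · rintro _ ⟨a, -, rfl⟩ _ ⟨b, -, rfl⟩
    exact Subgroup.mem_centralizer_iff.1 (hT'C b.2) a a.2

end Cfsg.Agent.Lib.CyclicOddSylow16.Reduce16
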