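import Cfsg.Agent.Lib.CyclicOddSylow16.Reduce16
import Cfsg.Agent.Lib.LinGroup.Order
import Cfsg.Agent.Lib.SmallSimple1.Models
import Mathlib

/-!
# The structure theorem from the simple case
-/

set_option autoImplicit false
set_option maxHeartbeats 1000000

namespace Cfsg.Agent.Lib.CyclicOddSylow16.Reduce16

open Subgroup
open scoped commutatorElement Pointwise

universe u

/-- A 2-element centralising a preimage of a four-group and squaring into the centre lies in it. -/
theorem mem_of_sq_mem {G : Type u} [Group G] [Finite G] (hG : Hyp G) {Z F : Subgroup G}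
    (hZF : Z ≤ F) (hZ : Nat.card Z ≤ 2) (hF : Nat.card F = 4 * Nat.card Z)
    (hFsq : ∀ f ∈ F, f * f ∈ Z) {v : G} (hv : v * v ∈ Z) (hvF : ∀ f ∈ F, f * v = v * f) :
    v ∈ F := by
  haveI : Fact (Nat.Prime 2) := ⟨Nat.prime_two⟩
  by_contra hvn
  set U := zpowers v with hU
  have hFU : F ≤ normalizer (U : Set G) := by
    refine le_trans (fun f hf => ?_) (Subgroup.centralizer_le_normalizer _)
    rw [Subgroup.mem_centralizer_iff]
    rintro _ ⟨i, rfl⟩
    exact ((Commute.zpow_right (hvF f hf) i).eq).symm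
  set H := F ⊔ U with hH
  have hmem : ∀ h ∈ H, h * h ∈ Z := by
    intro h hh
    have : h ∈ (F : Set G) * (U : Set G) := by
      rw [← Subgroup.coe_mul_of_left_le_normalizer_right F U hFU]; exact hh
    obtain ⟨f, hf, _, ⟨i, rfl⟩, rfl⟩ := this
    have hc : Commute f (v ^ i) := Commute.zpow_right (hvF f hf) i
    rw [hc.symm.mul_mul_mul_comm]
    refine mul_mem (hFsq f hf) ?_
    rw [← (Commute.refl v).mul_zpow]
    exact zpow_mem hv i
  have hlt : F < H := lt_of_le_of_ne le_sup_left fun e => hvn (e ▸ Subgroup.mem_sup_right (mem_zpowers v))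
  have hcard : 2 * Nat.card F ≤ Nat.card H := by
    obtain ⟨c, hc⟩ := Subgroup.card_dvd_of_le hlt.le
    have hne : Nat.card F ≠ Nat.card H := fun e => hlt.ne (Subgroup.eq_of_le_of_card_ge hlt.le e.ge)
    have hpos : 0 < Nat.card H := Nat.card_pos
    rcases c with _ | _ | c
    · omega
    · omega
    · rw [hc]; nlinarith [(Nat.card_pos : 0 < Nat.card F)]
  have hexp : ∀ h ∈ H, h ^ (2 * Nat.card Z) = 1 := fun h hh => by
    rw [pow_mul, pow_two]
    have := pow_card_eq_one' (G := Z) (x := ⟨h * h, hmem h hh⟩)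
    exact congrArg Subtype.val this
  have hp : IsPGroup 2 H := fun h => by
    have h1 : orderOf h ∣ 2 * Nat.card Z := orderOf_dvd_of_pow_eq_one
      (Subtype.ext (by rw [SubmonoidClass.coe_pow]; exact hexp h h.2))
    have h2 : 2 * Nat.card Z ∣ 2 ^ 2 := by
      have : 0 < Nat.card Z := Nat.card_pos
      interval_cases Nat.card Z <;> norm_num
    obtain ⟨k, -, hk⟩ := (Nat.dvd_prime_pow Nat.prime_two).1 (h1.trans h2)
    exact ⟨k, by rw [← hk, pow_orderOf_eq_one]⟩
  obtain ⟨S, hS⟩ := hp.exists_le_sylow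
  obtain ⟨C, hC, hi⟩ := hG.2 S
  haveI := Types.normal_of_index hi
  set C' := C.comap (Subgroup.inclusion hS) with hC'
  haveI : IsCyclic C' := isCyclic_of_injective ((Subgroup.inclusion hS).subgroupComap C)
    fun a b h => Subtype.ext (Subgroup.inclusion_injective hS (congrArg Subtype.val h))
  have hi' : C'.index ∣ 2 := by
    rw [hC', Subgroup.index_comap]
    exact (Subgroup.relIndex_dvd_index_of_normal C _).trans hi
  obtain ⟨g, hg⟩ := IsCyclic.exists_generator (α := C')
  have h3 : orderOf g = Nat.card C' := orderOf_eq_card_of_forall_mem_zpowers hg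
  have h4 : orderOf g ≤ 2 * Nat.card Z := by
    refine Nat.le_of_dvd (by have := (Nat.card_pos : 0 < Nat.card Z); omega)
      (orderOf_dvd_of_pow_eq_one (Subtype.ext (Subtype.ext ?_)))
    rw [SubmonoidClass.coe_pow, SubmonoidClass.coe_pow]
    exact hexp _ g.1.2
  have h5 := C'.card_mul_index
  have h6 := Nat.le_of_dvd two_pos hi'
  have h7 : 0 < Nat.card Z := Nat.card_pos
  nlinarith

theorem exists_surjective_of_iso {T : Type u} [Group T] [Finite T] {p : ℕ} [Fact p.Prime]
    (e : T ≃* PSL2 p) : Nat.card (MulAut T) = Nat.card (MulAut (PSL2 p)) :=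
  SmallSimple1.card_mulAut_congr e

/-- The induction. -/
theorem main (hP : ModelPSLStmt) (hS : SimpleClassStmt.{u}) : ∀ (n : ℕ) (G : Type u) [Group G]
    [Finite G], Nat.card G = n → Hyp G → ¬ Group.IsSolvable G → Struct G := by
  intro n
  induction n using Nat.strong_induction_on with
  | _ n ih =>
  intro G _ _ hn hG hns
  haveI : Fact (Nat.Prime 2) := ⟨Nat.prime_two⟩
  set R := Cfsg.solvableRadical G with hR
  haveI hRn : R.Normal := Components.solvableRadical_normal
  haveI hRs : Group.IsSolvable R := Components.solvableRadical_isSolvable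
  set π := QuotientGroup.mk' R with hπ
  have hπs : Function.Surjective π := QuotientGroup.mk'_surjective R
  have hQ : Hyp (G ⧸ R) := Radical16.hyp_of_surjective hG π hπs
  obtain ⟨T, hTn, hTs, hTa, hTC⟩ := exists_socle hQ (AGroupIndex.radical_quotient_eq_bot R hR)
    fun h => hns ((Group.isSolvable_iff_subgroup_quotient R).2 ⟨hRs, h⟩)
  haveI := hTn
  haveI := hTs
  have hQle : Nat.card (G ⧸ R) ≤ n := hn ▸ Nat.card_le_card_of_surjective π hπs
  obtain ⟨p, hp, hp5, ⟨eT⟩⟩ := simple_case hS ih T hTs hTa (Radical16.hyp_subgroup hQ T)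
    ((Subgroup.card_le_card_group T).trans hQle)
  haveI := hp
  -- the index of the socle
  have hTidx : T.index ∣ 2 := by
    have hinj : Function.Injective (MulAut.conjNormal : G ⧸ R →* MulAut T) := by
      rw [← MonoidHom.ker_eq_bot_iff, eq_bot_iff, ← hTC]
      intro q hq
      rw [Subgroup.mem_centralizer_iff]
      intro x hx
      have h1 := congrArg (fun φ : MulAut T => ((φ ⟨x, hx⟩ : T) : G ⧸ R)) (MonoidHom.mem_ker.1 hq)
      have h2 : q * x * q⁻¹ = x := by simpa using h1
      exact (mul_inv_eq_iff_eq_mul.1 h2).symm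
    have h1 : Nat.card (G ⧸ R) ∣ 2 * Nat.card T := by
      have := Subgroup.card_dvd_of_injective _ hinj
      rwa [exists_surjective_of_iso eT, (hP p hp5).1, ← Nat.card_congr eT.toEquiv] at this
    rw [← T.card_mul_index, mul_comm 2] at h1
    exact Nat.dvd_of_mul_dvd_mul_left Nat.card_pos h1
  set M := T.comap π with hM
  have hMidx : M.index ∣ 2 := by rwa [hM, Subgroup.index_comap_of_surjective _ hπs]
  have hRM : R ≤ M := fun r hr => by
    rw [hM, Subgroup.mem_comap, show π r = 1 from (QuotientGroup.eq_one_iff r).2 hr]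
    exact one_mem T
  -- the perfect normal subgroup
  have hMR : ¬ M ≤ R := fun h => by
    refine hTa ⟨⟨fun a b => Subtype.ext ?_⟩⟩
    have hone : ∀ x : T, (x : G ⧸ R) = 1 := fun x => by
      obtain ⟨g, hg⟩ := hπs x
      rw [← hg]
      exact (QuotientGroup.eq_one_iff g).2 (h (show π g ∈ T from hg ▸ x.2))
    simp [hone]
  obtain ⟨L, ⟨hLn, hLM, hLR⟩, hLmin⟩ := (Set.toFinite {W : Subgroup G | W.Normal ∧ W ≤ M ∧ ¬ W ≤ R}).exists_minimal
    ⟨M, inferInstance, le_rfl, hMR⟩
  haveI := hLn
  have hLT : L.map π = T := by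
    have hle : L.map π ≤ T := Subgroup.map_le_iff_le_comap.2 hLM
    haveI : (L.map π).Normal := hLn.map π hπs
    have hne : (L.map π).subgroupOf T ≠ ⊥ := fun h => hLR (by
      rw [Subgroup.subgroupOf_eq_bot] at h
      have h' : L.map π = ⊥ := disjoint_self.1 (h.mono_right hle)
      rwa [Subgroup.map_eq_bot_iff, QuotientGroup.ker_mk'] at h')
    have h := ((inferInstance : ((L.map π).subgroupOf T).Normal).eq_bot_or_eq_top).resolve_left hne
    exact le_antisymm hle (Subgroup.subgroupOf_eq_top.1 h)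
  have hperf : ⁅L, L⁆ = L := by
    by_contra hne
    have hlt : ⁅L, L⁆ ≤ L := Subgroup.commutator_le_left L L
    refine hne (le_antisymm hlt (hLmin ⟨inferInstance, hlt.trans hLM, fun h => hTa ?_⟩ hlt))
    have h0 : ⁅T, T⁆ = ⊥ := by
      rw [← hLT, ← Subgroup.map_commutator, Subgroup.map_eq_bot_iff, QuotientGroup.ker_mk']
      exact h
    refine ⟨⟨fun a b => Subtype.ext ?_⟩⟩
    exact (Subgroup.mem_centralizer_iff.1 (Subgroup.commutator_eq_bot_iff_le_centralizer.1 h0 b.2) a a.2)
  have hLRc : ⁅L, R⁆ = ⊥ := Radical16.centralises _ G rfl hG L R hperf hRn hRs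
  have hcomm : ∀ l ∈ L, ∀ r ∈ R, l * r = r * l := fun l hl r hr =>
    (Subgroup.mem_centralizer_iff.1 (Subgroup.commutator_eq_bot_iff_le_centralizer.1 hLRc hl) r hr).symm
  -- the cover
  let σ : L →* PSL2 p := eT.toMonoidHom.comp
    ((π.comp L.subtype).codRestrict T fun l => hLT ▸ ⟨l, l.2, rfl⟩)
  have hσker : ∀ l : L, l ∈ σ.ker ↔ (l : G) ∈ R := fun l => by
    rw [MonoidHom.mem_ker, MonoidHom.comp_apply, MulEquiv.coe_toMonoidHom, map_eq_one_iff _ eT.injective,
      ← QuotientGroup.eq_one_iff (N := R)]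
    exact ⟨fun h => congrArg Subtype.val h, fun h => Subtype.ext h⟩
  have hσs : Function.Surjective σ := by
    refine eT.surjective.comp fun x => ?_
    obtain ⟨l, hl, hlx⟩ : (x : G ⧸ R) ∈ L.map π := by rw [hLT]; exact x.2
    exact ⟨⟨l, hl⟩, Subtype.ext hlx⟩
  have hσc : σ.ker ≤ center L := fun l hl => Subgroup.mem_center_iff.2 fun m =>
    Subtype.ext (hcomm m m.2 l ((hσker l).1 hl))
  have hLperf : commutator L = ⊤ := by
    rw [← (Subgroup.map_injective L.subtype_injective).eq_iff, Subgroup.map_subtype_commutator,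
      hperf, ← MonoidHom.range_eq_map, Subgroup.range_subtype]
  obtain ⟨φ, hφs, hφk⟩ := Cover16.exists_surjective hp5 σ hσs hσc hLperf
  have hcen : Nat.card (center (SL2 p)) ≤ 2 := by
    rw [LinGroup.card_center_SL, Fintype.card_fin]
    exact Nat.le_of_dvd two_pos (Nat.gcd_dvd_left _ _)
  have hcardL : Nat.card L = Nat.card σ.ker * Nat.card (PSL2 p) := by
    rw [← σ.ker.card_mul_index, Subgroup.index_ker, MonoidHom.range_eq_top.2 hσs, Subgroup.card_top]
  have hcardSL : Nat.card (SL2 p) = Nat.card (center (SL2 p)) * Nat.card (PSL2 p) := by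
    rw [← (center (SL2 p)).card_mul_index]; rfl
  have hLle : Nat.card L ≤ Nat.card (SL2 p) := Nat.card_le_card_of_surjective φ hφs
  have hpsl : 0 < Nat.card (PSL2 p) := Nat.card_pos
  have hker2 : Nat.card σ.ker ≤ 2 := by
    rw [hcardL, hcardSL] at hLle
    exact (Nat.le_of_mul_le_mul_right hLle hpsl).trans hcen
  have hiso : Nonempty (L ≃* PSL2 p) ∨ Nonempty (L ≃* SL2 p) := by
    by_cases h1 : Nat.card σ.ker = 1
    · exact Or.inl ⟨MulEquiv.ofBijective σ ⟨by
        rw [← MonoidHom.ker_eq_bot_iff]; exact Subgroup.card_eq_one.1 h1, hσs⟩⟩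
    · refine Or.inr ⟨(MulEquiv.ofBijective φ ⟨?_, hφs⟩).symm⟩
      have h2 : Nat.card σ.ker = 2 := by
        have := (Nat.card_pos : 0 < Nat.card σ.ker); omega
      have : Nat.card (SL2 p) ≤ Nat.card L := by
        rw [hcardSL, hcardL, h2]; exact Nat.mul_le_mul_right _ hcen
      exact ((Nat.bijective_iff_surjective_and_card φ).2 ⟨hφs, le_antisymm this hLle⟩).1
  -- the preimage of a four-group
  set Z := L ⊓ R with hZ
  have hZcard : Nat.card Z = Nat.card σ.ker := by
    have : σ.ker = Z.subgroupOf L := by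
      ext l; rw [hσker, Subgroup.mem_subgroupOf, hZ, Subgroup.mem_inf]; simp
    rw [this, Nat.card_congr (Subgroup.subgroupOfEquivOfLe (inf_le_left)).toEquiv]
  obtain ⟨E, hE, hE2⟩ := exists_four T hTa
  set E0 := E.map eT.toMonoidHom with hE0
  set F := (E0.comap σ).map L.subtype with hF
  have hFcard : Nat.card F = 4 * Nat.card Z := by
    have h1 : Nat.card (E0.comap σ) = 4 * Nat.card σ.ker := by
      have hi : (E0.comap σ).index = E0.index := Subgroup.index_comap_of_surjective _ hσs
      have h2 := (E0.comap σ).card_mul_index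
      rw [hi, hcardL, ← E0.card_mul_index, hE0, Subgroup.card_map_of_injective (show Function.Injective
        eT.toMonoidHom from eT.injective), hE] at h2
      have hpos : 0 < (E.map eT.toMonoidHom).index := Nat.pos_of_ne_zero Subgroup.index_ne_zero_of_finite
      exact Nat.eq_of_mul_eq_mul_right hpos (h2.trans (by ring))
    rw [hF, Subgroup.card_map_of_injective L.subtype_injective, h1, hZcard]
  have hFL : F ≤ L := Subgroup.map_subtype_le _
  have hZF : Z ≤ F := fun z hz => ⟨⟨z, hz.1⟩, by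
    rw [SetLike.mem_coe, Subgroup.mem_comap, MonoidHom.mem_ker.1 ((hσker _).2 hz.2)]
    exact one_mem _, rfl⟩
  have hFsq : ∀ f ∈ F, f * f ∈ Z := by
    rintro _ ⟨l, ⟨a, ha, hal⟩, rfl⟩
    refine ⟨L.mul_mem l.2 l.2, (hσker (l * l)).1 ?_⟩
    rw [MonoidHom.mem_ker, map_mul, ← hal, ← map_mul, ← pow_two, hE2 a ha, map_one]
  -- two-elements of the radical
  have hkey : ∀ v ∈ R, ∀ k : ℕ, v ^ 2 ^ k ∈ Z → v ∈ Z := by
    intro v hv k
    induction k generalizing v with
    | zero => intro h; simpa using h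
    | succ k ih' =>
      intro h
      have h1 : v * v ∈ Z := ih' _ (R.mul_mem hv hv) (by
        rwa [← pow_two, ← pow_mul, ← pow_succ'])
      have h2 := mem_of_sq_mem hG hZF (hZcard ▸ hker2) hFcard hFsq h1
        (fun f hf => hcomm f (hFL hf) v hv)
      exact ⟨hFL h2, hv⟩
  let P : Sylow 2 R := default
  have hPZ : ∀ x : R, x ∈ (P : Subgroup R) → (x : G) ∈ Z := fun x hx => by
    obtain ⟨k, hk⟩ := P.2 ⟨x, hx⟩
    refine hkey x x.2 k ?_
    have : (x : G) ^ 2 ^ k = 1 := congrArg (fun y : (P : Subgroup R) => ((y : R) : G)) hk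
    rw [this]; exact one_mem Z
  have hPc : normalizer ((P : Subgroup R) : Set R) ≤ centralizer ((P : Subgroup R) : Set R) := fun r _ => by
    rw [Subgroup.mem_centralizer_iff]
    intro x hx
    exact Subtype.ext (hcomm x (hPZ x hx).1 r r.2)
  set K := (MonoidHom.transferSylow P hPc).ker with hK
  have hKP : K.IsComplement' (P : Subgroup R) := MonoidHom.ker_transferSylow_isComplement' P hPc
  have hKodd : Odd (Nat.card K) := by
    rw [← Nat.not_even_iff_odd, even_iff_two_dvd, ← hKP.index_eq_card]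
    exact P.not_dvd_index
  have hKmem : ∀ r : R, Odd (orderOf r) → r ∈ K := fun r hr => by
    rw [hK, MonoidHom.mem_ker, ← orderOf_eq_one_iff]
    obtain ⟨k, hk⟩ := (IsPGroup.iff_orderOf.1 P.2) (MonoidHom.transferSylow P hPc r)
    have hco : (orderOf (MonoidHom.transferSylow P hPc r)).Coprime (orderOf r) := by
      rw [hk]
      exact (Nat.coprime_two_left.2 hr).pow_left k
    exact Nat.eq_one_of_dvd_coprimes hco dvd_rfl (orderOf_map_dvd _ r)
  set X := K.map R.subtype with hX
  have hXn : X.Normal := ⟨by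
    rintro _ ⟨x, hx, rfl⟩ g
    refine ⟨⟨g * x * g⁻¹, hRn.conj_mem x x.2 g⟩, hKmem _ ?_, rfl⟩
    rw [Subgroup.orderOf_mk]
    show Odd (orderOf (MulAut.conj g (x : G)))
    rw [MulEquiv.orderOf_eq, Subgroup.orderOf_coe]
    exact hKodd.of_dvd_nat (Subgroup.orderOf_dvd_natCard K hx)⟩
  haveI := hXn
  have hXcard : Nat.card X = Nat.card K := Subgroup.card_map_of_injective R.subtype_injective
  have hRle : R ≤ X ⊔ L := fun r hr => by
    obtain ⟨⟨k, q⟩, hkq⟩ := hKP.2 ⟨r, hr⟩
    have : r = ((k : R) : G) * ((q : R) : G) := congrArg Subtype.val hkq.symm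
    rw [this]
    exact Subgroup.mul_mem _ (Subgroup.mem_sup_left ⟨k, k.2, rfl⟩)
      (Subgroup.mem_sup_right (hPZ q q.2).1)
  have hsup : X ⊔ L = M := by
    refine le_antisymm (sup_le ((Subgroup.map_subtype_le K).trans hRM) hLM) fun m hm => ?_
    obtain ⟨l, hl, hlm⟩ : π m ∈ L.map π := by rw [hLT]; exact hm
    have : l⁻¹ * m ∈ R := QuotientGroup.eq.1 hlm
    rw [show m = l * (l⁻¹ * m) by group]
    exact Subgroup.mul_mem _ (Subgroup.mem_sup_right hl) (hRle this)
  have hcop : (Nat.card X).Coprime (Nat.card L) := by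
    refine Nat.coprime_of_dvd fun r hr hrX hrL => ?_
    haveI : Fact r.Prime := ⟨hr⟩
    have hr2 : r ≠ 2 := by
      rintro rfl
      rw [hXcard] at hrX
      exact Nat.not_even_iff_odd.2 hKodd (even_iff_two_dvd.2 hrX)
    obtain ⟨x, hx⟩ := exists_prime_orderOf_dvd_card' r hrX
    obtain ⟨l, hl⟩ := exists_prime_orderOf_dvd_card' r hrL
    rw [← Subgroup.orderOf_coe] at hx hl
    have hxR : (x : G) ∈ R := Subgroup.map_subtype_le K x.2
    set A := closure ({(x : G), (l : G)} : Set G) with hA
    have hAc : IsMulCommutative A := Subgroup.isMulCommutative_closure (by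
      rintro a (rfl | rfl) b (rfl | rfl)
      exacts [rfl, (hcomm l l.2 x hxR).symm, hcomm l l.2 x hxR, rfl])
    have hAe : ∀ a ∈ A, a ^ r = 1 := fun a ha => by
      induction ha using Subgroup.closure_induction with
      | mem y hy =>
        rcases hy with rfl | rfl
        · rw [← hx]; exact pow_orderOf_eq_one _
        · rw [← hl]; exact pow_orderOf_eq_one _
      | one => simp
      | mul y z hy hz h1 h2 =>
        have hyz : Commute y z := congrArg Subtype.val (hAc.is_comm.comm ⟨y, hy⟩ ⟨z, hz⟩)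
        rw [hyz.mul_pow, h1, h2, one_mul]
      | inv y _ h1 => rw [inv_pow, h1, inv_one]
    haveI : IsCyclic A := by
      have hp' : IsPGroup r A := fun a => ⟨1, by
        rw [pow_one]; exact Subtype.ext (by rw [SubmonoidClass.coe_pow]; exact hAe a a.2)⟩
      obtain ⟨S, hS'⟩ := hp'.exists_le_sylow
      haveI := hG.1 r hr hr2 S
      exact isCyclic_of_injective (Subgroup.inclusion hS') (Subgroup.inclusion_injective hS')
    have hAcard : Nat.card A ∣ r := by
      rw [← IsCyclic.exponent_eq_card]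
      exact Monoid.exponent_dvd_of_forall_pow_eq_one fun a => Subtype.ext
        (by rw [SubmonoidClass.coe_pow]; exact hAe a a.2)
    have hle : zpowers (x : G) ≤ A := Subgroup.zpowers_le.2 (subset_closure (by simp))
    have heq : zpowers (x : G) = A := Subgroup.eq_of_le_of_card_ge hle (by
      rw [Nat.card_zpowers, hx]; exact Nat.le_of_dvd hr.pos hAcard)
    have hlA : (l : G) ∈ zpowers (x : G) := by rw [heq]; exact subset_closure (by simp)
    have hlX : (l : G) ∈ X := Subgroup.zpowers_le.2 x.2 hlA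
    have hlZ : (l : G) ∈ Z := ⟨l.2, Subgroup.map_subtype_le K hlX⟩
    have h1 : orderOf (l : G) ∣ Nat.card Z := Subgroup.orderOf_dvd_natCard Z hlZ
    rw [hl] at h1
    have := Nat.le_of_dvd Nat.card_pos h1
    rw [hZcard] at this
    have := hr.two_le
    omega
  exact ⟨X, L, hXn, hLn, hXcard ▸ hKodd, hcop,
    fun x hx l hl => (hcomm l hl x (Subgroup.map_subtype_le K hx)).symm, hsup ▸ hMidx, p, hp, hp5, hiso⟩

end Cfsg.Agent.Lib.CyclicOddSylow16.Reduce16

namespace Cfsg.Agent.Lib.CyclicOddSylow16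

universe u

/-- Reduction of the main theorem to the simple case. -/
theorem reduce16 (hP : ModelPSLStmt) : SimpleClassStmt.{u} → MainStmt.{u} :=
  fun hS G _ _ hG hns => Reduce16.main hP hS _ G rfl hG hns

end Cfsg.Agent.Lib.CyclicOddSylow16
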