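import Cfsg.Agent.Lib.CyclicOddSylow16.SDNon.Three
import Cfsg.Agent.Lib.CyclicOddSylow16.SDNon.TorusSys

/-!
# S4069, brick SD NONSOLVABLE

A quasi-dihedral Sylow 2-subgroup with non-solvable centraliser of an involution is impossible in the standing
situation.
-/

set_option autoImplicit false

namespace Cfsg.Agent.Lib.CyclicOddSylow16

open Subgroup

universe u

theorem sdNonsolvable (hC : CommonStmt.{u}) (hT : TwoFalseStmt.{u}) (hM : ModelSLStmt) :
    SDNonsolvableStmt.{u} := by
  intro G _ _ hamb S hS t htS ht hcen hns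
  obtain ⟨c⟩ := SDNon.exists_ctx hC hM hamb S hS t htS ht hcen hns
  obtain ⟨l⟩ := c.exists_loc hC
  by_cases h3 : 3 ∣ tor2 c.p
  · obtain ⟨hX, E, hE⟩ := c.three_case hC l h3
    obtain ⟨φ, hφt, hφs⟩ := c.exists_char hX
    obtain ⟨-, h4, -, hle, h6, -, -⟩ := SDNon.tor_facts c.fp.out c.hp5
    let := Fintype.ofFinite G
    refine hT G hamb.simple hamb.nonab c.t c.orderOf_t (fun v hv => c.one v c.t hv c.orderOf_t)
      (E.sys c.orderOf_t) (c.torSys hC hX φ hφt hφs) ?_ (3 * E.w) (tor4 c.p / 2)
      (by rw [E.count_sys c.orderOf_t]; norm_num) (c.count_torSys hC hX φ hφt hφs) ?_ ?_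
    · intro g y hy hg
      -- `t` would centralise an element with centraliser of odd order
      have hcomm : Commute c.t (g * y * g⁻¹) := c.tor_comm hX c.t_tor hg.1
      have h1 : g⁻¹ * c.t * g ∈ centralizer ({y} : Set G) := by
        rw [mem_centralizer_singleton_iff]
        calc g⁻¹ * c.t * g * y = g⁻¹ * (c.t * (g * y * g⁻¹)) * g := by group
          _ = y * (g⁻¹ * c.t * g) := by rw [hcomm.eq]; group
      rw [E.cent_d hy] at h1
      refine E.not_mem_A ?_ h1
      refine Eq.trans ?_ c.orderOf_t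
      simpa using (MulAut.conj g⁻¹).orderOf_eq c.t
    · have : 4 ≤ tor4 c.p := by
        have h1 := c.torus_i.2
        have h2 : 0 < Nat.card (c.CL c.i) := Nat.card_pos
        exact Nat.le_of_dvd (by omega) h4
      omega
    · omega
  · exact c.false_of_not_three hC l h3

end Cfsg.Agent.Lib.CyclicOddSylow16
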