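import Cfsg.Agent.Lib.CyclicOddSylow16.Spec
import Cfsg.Agent.Lib.InvCentralizer.Count
import Cfsg.Agent.Lib.PrimeDegreeSimple

/-!
# The norm three argument of S4069

A norm three generalised character supported on a trivial intersection set avoiding the involutions
induces to `1 + e χ + e' ψ`; counting pairs of involutions gives the order equation.
-/

set_option autoImplicit false

namespace Cfsg.Agent.Lib.CyclicOddSylow16.Theta

open scoped ComplexConjugate
open Cfsg Cfsg.Agent.Lib Cfsg.Agent.Lib.CyclicOddSylow16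

universe u

variable {G : Type u} [Group G]

theorem orderOf_conj (g x : G) : orderOf (g * x * g⁻¹) = orderOf x := by
  rw [← MulAut.conj_apply, MulEquiv.orderOf_eq]

theorem invPairs_conj (g y : G) : invPairs (g * y * g⁻¹) = invPairs y := by
  refine (Nat.card_congr ((MulAut.conj g).toEquiv.subtypeEquiv fun v => ?_)).symm
  simp only [MulEquiv.toEquiv_eq_coe, EquivLike.coe_coe, MulAut.conj_apply]
  rw [orderOf_conj, show g * v * g⁻¹ * (g * y * g⁻¹) = g * (v * y) * g⁻¹ by group, orderOf_conj]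

variable [Fintype G]

/-- The induced function of a system vanishes off the conjugates of the support. -/
theorem exists_conj_of_ne_zero {t : G} (Y : Sys G t) {g : G} (h : indFun Y.N Y.θ g ≠ 0) :
    ∃ x : G, x⁻¹ * g * x ∈ Y.D := by
  by_contra! hno
  refine h ?_
  rw [indFun, Finset.sum_eq_zero fun x _ => ?_, mul_zero]
  by_cases hm : x⁻¹ * g * x ∈ Y.N
  · rw [Chars.extendByZero_of_mem _ hm]
    by_contra h0
    exact hno x (Y.supp ⟨_, hm⟩ h0)
  · exact Chars.extendByZero_of_not_mem _ hm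

/-- The sum of a function over the products of two involutions. -/
theorem sum_sum_involutions (F : G → ℂ) :
    ∑ u ∈ Finset.univ.filter (fun u : G => orderOf u = 2),
      ∑ v ∈ Finset.univ.filter (fun v : G => orderOf v = 2), F (u * v)
      = ∑ y : G, (invPairs y : ℂ) * F y := by
  classical
  have hinner : ∀ u ∈ Finset.univ.filter (fun u : G => orderOf u = 2),
      ∑ v ∈ Finset.univ.filter (fun v : G => orderOf v = 2), F (u * v)
        = ∑ y : G, if orderOf (u * y) = 2 then F y else 0 := by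
    intro u hu
    rw [Finset.mem_filter] at hu
    have huu : u * u = 1 := by rw [← pow_two, ← hu.2, pow_orderOf_eq_one]
    rw [← Finset.sum_filter]
    refine Finset.sum_nbij' (fun v => u * v) (fun y => u * y) ?_ ?_ ?_ ?_ ?_
    · intro v hv; simp [← mul_assoc, huu] at hv ⊢; exact hv
    · intro y hy; simp at hy ⊢; exact hy
    · intro v _; simp [← mul_assoc, huu]
    · intro y _; simp [← mul_assoc, huu]
    · intro v _; rfl
  rw [Finset.sum_congr rfl hinner, Finset.sum_comm]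
  refine Finset.sum_congr rfl fun y _ => ?_
  rw [← Finset.sum_filter, Finset.sum_const, nsmul_eq_mul, invPairs, Nat.card_eq_fintype_card,
    Fintype.card_subtype, Finset.filter_filter]

/-- The pair sum of the induced function is the group order times the count. -/
theorem sum_invPairs_indFun {t : G} (Y : Sys G t) :
    ∑ y : G, (invPairs y : ℂ) * indFun Y.N Y.θ y = (Nat.card G : ℂ) * Y.count := by
  classical
  letI := Y.fN
  have hshift : ∀ x : G, ∑ y : G, (invPairs y : ℂ) * extendByZero Y.N Y.θ (x⁻¹ * y * x)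
      = ∑ y : G, (invPairs y : ℂ) * extendByZero Y.N Y.θ y := by
    intro x
    refine Fintype.sum_equiv (MulAut.conj x⁻¹).toEquiv _ _ fun y => ?_
    simp only [MulEquiv.toEquiv_eq_coe, EquivLike.coe_coe, MulAut.conj_apply]
    rw [invPairs_conj, inv_inv]
  have hsub : ∑ y : G, (invPairs y : ℂ) * extendByZero Y.N Y.θ y
      = ∑ x : Y.N, (invPairs (x : G) : ℂ) * Y.θ x := by
    simp_rw [mul_comm (invPairs _ : ℂ)]
    exact Chars.sum_extendByZero_mul Y.N Y.θ _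
  simp only [Sys.count, finsum_eq_sum_of_fintype, indFun, Finset.mul_sum]
  rw [Finset.sum_comm]
  calc ∑ x : G, ∑ y : G,
        (invPairs y : ℂ) * ((Nat.card Y.N : ℂ)⁻¹ * extendByZero Y.N Y.θ (x⁻¹ * y * x))
      = ∑ _x : G, (Nat.card Y.N : ℂ)⁻¹ * ∑ y : G, (invPairs y : ℂ) * extendByZero Y.N Y.θ y := by
        refine Finset.sum_congr rfl fun x _ => ?_
        rw [← hshift x, Finset.mul_sum]
        exact Finset.sum_congr rfl fun y _ => by ring
    _ = _ := by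
        rw [Finset.sum_const, nsmul_eq_mul, Finset.card_univ, ← Nat.card_eq_fintype_card, hsub,
          Finset.mul_sum, Finset.mul_sum]

/-- The induced function and the order equation. -/
theorem expand : ThetaExpandStmt.{u} := by
  intro G _ _ t ht hconj Y
  classical
  letI := Y.fN
  set T := indFun Y.N Y.θ with hT
  have hθcl := Chars.isClassFunction_of_isGeneralizedCharacter Y.gen
  have hTcl : IsClassFunction G T := Chars.isClassFunction_indFun Y.N Y.θ
  have hc : ∀ χ : IrrCharacter G, ∃ k : ℤ, classInner T (χ : G → ℂ) = k := fun χ => by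
    rw [hT, Chars.classInner_indFun_left Y.N Y.θ _ (Chars.irr_isClassFunction χ)]
    exact Chars.isGeneralizedCharacter_classInner_int Y.gen
      (Chars.isGeneralizedCharacter_of_isCharacter
        (Chars.isCharacter_restrict Y.N (Chars.irr_isCharacter χ)))
  choose c hc using hc
  have hc0 : c (Chars.trivialIrr G) = 1 := by
    have h := hc (Chars.trivialIrr G)
    rw [hT, Chars.classInner_indFun_left Y.N Y.θ _ (Chars.irr_isClassFunction _)] at h
    have h' : classInner Y.θ (fun _ => (1 : ℂ)) = (c (Chars.trivialIrr G) : ℂ) := h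
    rw [Y.triv] at h'
    exact_mod_cast h'.symm
  have hnorm : ∑ χ, c χ ^ 2 = c (Chars.trivialIrr G) ^ 2 + 2 := by
    have h : classInner T T = 3 := by
      rw [hT, BrauerSuzuki.classInner_indFun_of_supported hθcl Y.supp Y.supp Y.ti]
      exact Y.norm
    rw [Chars.classInner_eq_sum_mul_conj hTcl hTcl] at h
    simp only [hc, map_intCast, ← pow_two] at h
    rw [hc0]
    exact_mod_cast h
  obtain ⟨χ, ψ, hne, hχ, hψ, he, he', hz, -⟩ := InvCentralizer.exists_pair_support c _ hnorm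
  have hval : ∀ f : IrrCharacter G → ℂ,
      ∑ φ, (c φ : ℂ) * f φ = f (Chars.trivialIrr G) + c χ * f χ + c ψ * f ψ := by
    intro f
    rw [← Finset.sum_subset (Finset.subset_univ
        ({Chars.trivialIrr G, χ, ψ} : Finset (IrrCharacter G))) fun i _ hi => ?_,
      Finset.sum_insert (by simp [hχ.symm, hψ.symm]), Finset.sum_pair hne, hc0, Int.cast_one,
      one_mul, add_assoc]
    simp only [Finset.mem_insert, Finset.mem_singleton, not_or] at hi
    rw [hz i hi.1 hi.2.1 hi.2.2, Int.cast_zero, zero_mul]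
  have hTeq : ∀ g, T g = 1 + (c χ : ℂ) * (χ : G → ℂ) g + (c ψ : ℂ) * (ψ : G → ℂ) g := fun g => by
    rw [Chars.isClassFunction_apply_eq_sum_classInner hTcl g]
    simp only [hc]
    rw [hval, Chars.trivialIrr_apply]
  have hT1 : T 1 = 0 := by rw [hT, Chars.indFun_one_eq, Y.one, mul_zero]
  have hTt : T t = 0 := by
    by_contra h
    obtain ⟨x, hx⟩ := exists_conj_of_ne_zero Y h
    exact Y.off x⁻¹ (by rwa [inv_inv])
  obtain ⟨a₀, d, ha₀, hd, hd0, -⟩ := InvCentralizer.exists_int_value χ ht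
  have hα : (c χ : ℂ) * (χ : G → ℂ) 1 = ((c χ * d : ℤ) : ℂ) := by rw [hd]; push_cast; ring
  have ha : (c χ : ℂ) * (χ : G → ℂ) t = ((c χ * a₀ : ℤ) : ℂ) := by rw [ha₀]; push_cast; ring
  have hα' : (c ψ : ℂ) * (ψ : G → ℂ) 1 = -1 - ((c χ * d : ℤ) : ℂ) := by
    rw [← hα]
    linear_combination (hTeq 1).symm.trans hT1
  have ha' : (c ψ : ℂ) * (ψ : G → ℂ) t = -1 - ((c χ * a₀ : ℤ) : ℂ) := by
    rw [← ha]
    linear_combination (hTeq t).symm.trans hTt
  refine ⟨χ, ψ, c χ, c ψ, c χ * d, c χ * a₀, fun h => hχ (Subtype.ext h),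
    fun h => hψ (Subtype.ext h), hne, he, he', hTeq, hα, hα', ha, ha', ?_⟩
  -- the double sum over the class of `t`
  have hK : Finset.univ.filter (IsConj t) = Finset.univ.filter (fun g : G => orderOf g = 2) := by
    ext g
    simp only [Finset.mem_filter, Finset.mem_univ, true_and]
    exact ⟨fun h => by
      obtain ⟨w, rfl⟩ := isConj_iff.mp h
      rw [orderOf_conj, ht], fun h => (hconj g h).symm⟩
  set K := Finset.univ.filter (IsConj t) with hKdef
  set C := (Nat.card (Subgroup.centralizer ({t} : Set G)) : ℂ)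
  have hKcard : (K.card : ℂ) * C = Nat.card G := by
    have h1 : K.card = (Subgroup.centralizer ({t} : Set G)).index := by
      rw [← Chars.card_conjClass_eq_index t, Nat.card_eq_fintype_card, Fintype.card_subtype]
    rw [h1, ← (Subgroup.centralizer ({t} : Set G)).index_mul_card]
    push_cast
    rfl
  have hleft : ∑ u ∈ K, ∑ v ∈ K, T (u * v) = (Nat.card G : ℂ) * Y.count := by
    rw [hK, sum_sum_involutions, hT, sum_invPairs_indFun]
  have hright : ∑ u ∈ K, ∑ v ∈ K, T (u * v)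
      = (K.card : ℂ) ^ 2
        * ∑ φ : IrrCharacter G, (c φ : ℂ) * ((φ : G → ℂ) t ^ 2 / (φ : G → ℂ) 1) := by
    rw [Finset.sum_congr rfl fun u _ => Finset.sum_congr rfl fun v _ =>
      (Chars.isClassFunction_apply_eq_sum_classInner hTcl (u * v))]
    simp only [hc]
    rw [Finset.sum_congr rfl fun u _ => Finset.sum_comm, Finset.sum_comm]
    simp only [← Finset.mul_sum]
    conv_rhs => rw [Finset.mul_sum]
    refine Finset.sum_congr rfl fun φ _ => ?_
    have h := BrauerSuzuki.sum_sum_class φ t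
    rw [← hKdef] at h
    field_simp [Chars.irr_apply_one_ne_zero φ]
    linear_combination (c φ : ℂ) * h
  rw [hleft, hval, Chars.trivialIrr_apply, Chars.trivialIrr_apply] at hright
  have hsq : ((c χ : ℂ)) ^ 2 = 1 := by rcases he with h | h <;> simp [h]
  have hsq' : ((c ψ : ℂ)) ^ 2 = 1 := by rcases he' with h | h <;> simp [h]
  have hχ1 := Chars.irr_apply_one_ne_zero χ
  have hψ1 := Chars.irr_apply_one_ne_zero ψ
  set A : ℂ := ((c χ * d : ℤ) : ℂ)
  set a : ℂ := ((c χ * a₀ : ℤ) : ℂ)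
  have h1 : (c χ : ℂ) * ((χ : G → ℂ) t ^ 2 / (χ : G → ℂ) 1) * A = a ^ 2 := by
    rw [← hα, ← ha]
    field_simp
  have h2 : (c ψ : ℂ) * ((ψ : G → ℂ) t ^ 2 / (ψ : G → ℂ) 1) * (-1 - A) = (-1 - a) ^ 2 := by
    rw [← hα', ← ha']
    field_simp
  have hG0 : (Nat.card G : ℂ) ≠ 0 := Nat.cast_ne_zero.mpr Nat.card_pos.ne'
  set X := (c χ : ℂ) * ((χ : G → ℂ) t ^ 2 / (χ : G → ℂ) 1)
  set Z := (c ψ : ℂ) * ((ψ : G → ℂ) t ^ 2 / (ψ : G → ℂ) 1)
  have hcount : Y.count * C ^ 2 = (Nat.card G : ℂ) * (1 ^ 2 / 1 + X + Z) := by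
    apply mul_left_cancel₀ hG0
    linear_combination C ^ 2 * hright
      + (1 ^ 2 / 1 + X + Z) * ((K.card : ℂ) * C + Nat.card G) * hKcard
  linear_combination A * (A + 1) * hcount + (Nat.card G : ℂ) * (A + 1) * h1
    - (Nat.card G : ℂ) * A * h2

/-- The inner product of an expansion with a non-trivial irreducible character. -/
theorem inner_expansion {χ ψ φ : IrrCharacter G} (e e' : ℤ) (hφ : (φ : G → ℂ) ≠ fun _ => 1) :
    classInner (fun g => 1 + (e : ℂ) * (χ : G → ℂ) g + (e' : ℂ) * (ψ : G → ℂ) g) (φ : G → ℂ)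
      = (if χ = φ then (e : ℂ) else 0) + (if ψ = φ then (e' : ℂ) else 0) := by
  classical
  have hf : (fun g => 1 + (e : ℂ) * (χ : G → ℂ) g + (e' : ℂ) * (ψ : G → ℂ) g)
      = (Chars.trivialIrr G : G → ℂ) + (e : ℂ) • (χ : G → ℂ) + (e' : ℂ) • (ψ : G → ℂ) := rfl
  rw [hf, Chars.classInner_add_left, Chars.classInner_add_left, Chars.classInner_smul_left,
    Chars.classInner_smul_left, Chars.classInner_irr_of_ne (fun h => hφ (by rw [← h]; rfl)),
    Chars.classInner_irr, Chars.classInner_irr]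
  split_ifs <;> simp

/-- Non-trivial irreducible characters of a non-abelian simple group have degree at least three. -/
theorem three_le_degree (hs : IsSimpleGroup G) (hna : ¬ IsMulCommutative G) {χ : IrrCharacter G}
    (hne : (χ : G → ℂ) ≠ fun _ => 1) : ∃ d : ℤ, 3 ≤ d ∧ (χ : G → ℂ) 1 = d := by
  haveI := hs
  have hnc : ¬ ∀ a b : G, a * b = b * a := fun h => hna ⟨⟨h⟩⟩
  obtain ⟨d, hd0, hd⟩ := Chars.isIrrCharacter_exists_degree_pos χ.2
  refine ⟨d, ?_, by rw [hd, Int.cast_natCast]⟩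
  have h2 : d ≠ 2 := fun h => PrimeDegreeSimple.degree_ne_two hnc
    (fun h' => hne (congrArg Subtype.val h')) (by rw [hd, h]; norm_num)
  have h1 : d ≠ 1 := by
    rintro rfl
    obtain ⟨l, hl⟩ := Chars.exists_hom_of_degree_one (Chars.irr_isCharacter χ) (by rw [hd]; norm_num)
    have hker := Abelianization.commutator_subset_ker l
    rw [PrimeDegreeSimple.commutator_eq_top hnc, top_le_iff] at hker
    refine hne (funext fun g => ?_)
    have : l g = 1 := MonoidHom.mem_ker.mp (hker ▸ Subgroup.mem_top g)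
    rw [hl]
    simp [this]
  omega

/-- The arithmetic of two order equations with a common constituent of opposite signs. -/
theorem arith {k₁ k₂ A a c g : ℤ} (hc : c ≠ 0) (hA : 3 ≤ A ∨ A ≤ -3) (hk : 0 < k₂)
    (hkk : 2 * k₂ < k₁) (h₁ : k₁ * c ^ 2 * (A * (A + 1)) = g * (A - a) ^ 2)
    (h₂ : k₂ * c ^ 2 * (-A * (-A + 1)) = g * (-A - -a) ^ 2) : False := by
  have h : k₁ * (A + 1) = k₂ * (A - 1) := by
    have hA0 : c ^ 2 * A ≠ 0 := mul_ne_zero (pow_ne_zero _ hc) (by omega)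
    apply mul_left_cancel₀ hA0
    linear_combination h₁ - h₂
  rcases hA with hA | hA <;> nlinarith

/-- Two systems with disjoint supports cannot have very different counts. -/
theorem two (hT : ThetaExpandStmt.{u}) : TwoFalseStmt.{u} := by
  intro G _ _ hs hna t ht hconj Y₁ Y₂ hdis k₁ k₂ hk₁ hk₂ hpos hlt
  classical
  obtain ⟨χ₁, ψ₁, e₁, e₁', α₁, a₁, hχ₁, hψ₁, hne₁, he₁, he₁', hf₁, hα₁, hα₁', ha₁, ha₁', heq₁⟩ :=
    hT G t ht hconj Y₁
  obtain ⟨χ₂, ψ₂, e₂, e₂', α₂, a₂, hχ₂, hψ₂, hne₂, he₂, he₂', hf₂, hα₂, hα₂', ha₂, ha₂', heq₂⟩ :=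
    hT G t ht hconj Y₂
  have horth : classInner (indFun Y₁.N Y₁.θ) (indFun Y₂.N Y₂.θ) = 0 := by
    rw [classInner, Finset.sum_eq_zero fun g _ => ?_, mul_zero]
    by_contra h
    obtain ⟨h1, h2⟩ := mul_ne_zero_iff.mp h
    obtain ⟨x, hx⟩ := exists_conj_of_ne_zero Y₁ h1
    obtain ⟨y, hy⟩ := exists_conj_of_ne_zero Y₂ ((map_ne_zero _).mp h2)
    refine hdis (y⁻¹ * x) _ hx ?_
    rwa [show y⁻¹ * x * (x⁻¹ * g * x) * (y⁻¹ * x)⁻¹ = y⁻¹ * g * y by group]
  rw [funext hf₁, funext hf₂] at horth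
  have hf : (fun g => 1 + (e₂ : ℂ) * (χ₂ : G → ℂ) g + (e₂' : ℂ) * (ψ₂ : G → ℂ) g)
      = (Chars.trivialIrr G : G → ℂ) + (e₂ : ℂ) • (χ₂ : G → ℂ) + (e₂' : ℂ) • (ψ₂ : G → ℂ) := rfl
  rw [hf, Chars.classInner_add_right, Chars.classInner_add_right, Chars.classInner_smul_right,
    Chars.classInner_smul_right, inner_expansion _ _ hχ₂, inner_expansion _ _ hψ₂,
    map_intCast, map_intCast] at horth
  have htriv : classInner (fun g => 1 + (e₁ : ℂ) * (χ₁ : G → ℂ) g + (e₁' : ℂ) * (ψ₁ : G → ℂ) g)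
      (Chars.trivialIrr G : G → ℂ) = 1 := by
    have hf' : (fun g => 1 + (e₁ : ℂ) * (χ₁ : G → ℂ) g + (e₁' : ℂ) * (ψ₁ : G → ℂ) g)
        = (Chars.trivialIrr G : G → ℂ) + (e₁ : ℂ) • (χ₁ : G → ℂ) + (e₁' : ℂ) • (ψ₁ : G → ℂ) := rfl
    rw [hf', Chars.classInner_add_left, Chars.classInner_add_left, Chars.classInner_smul_left,
      Chars.classInner_smul_left, Chars.classInner_irr_self,
      Chars.classInner_irr_of_ne (fun h => hχ₁ (by rw [h]; rfl)),
      Chars.classInner_irr_of_ne (fun h => hψ₁ (by rw [h]; rfl))]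
    simp
  rw [htriv] at horth
  -- the degrees
  have hdeg : ∀ {χ : IrrCharacter G} {e A : ℤ}, (χ : G → ℂ) ≠ (fun _ => 1) → (e = 1 ∨ e = -1) →
      (e : ℂ) * (χ : G → ℂ) 1 = A → 3 ≤ A ∨ A ≤ -3 := by
    intro χ e A hne he hA
    obtain ⟨d, hd3, hd⟩ := three_le_degree hs hna hne
    rw [hd] at hA
    have hA' : e * d = A := by exact_mod_cast hA
    rcases he with rfl | rfl <;> omega
  set C := Nat.card (Subgroup.centralizer ({t} : Set G)) with hC
  have hC0 : (C : ℤ) ≠ 0 := by exact_mod_cast (Nat.card_pos).ne'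
  rw [hk₁] at heq₁
  rw [hk₂] at heq₂
  have E1 : (k₁ : ℤ) * (C : ℤ) ^ 2 * (α₁ * (α₁ + 1)) = (Nat.card G : ℤ) * (α₁ - a₁) ^ 2 := by
    exact_mod_cast heq₁
  have E2 : (k₂ : ℤ) * (C : ℤ) ^ 2 * (α₂ * (α₂ + 1)) = (Nat.card G : ℤ) * (α₂ - a₂) ^ 2 := by
    exact_mod_cast heq₂
  have hkk : 2 * (k₂ : ℤ) < k₁ := by exact_mod_cast hlt
  have hpos' : 0 < (k₂ : ℤ) := by exact_mod_cast hpos
  -- a common constituent of opposite signs finishes the argument
  have fin : ∀ (φ φ' : IrrCharacter G) (e e' A A' x x' : ℤ), (φ : G → ℂ) ≠ (fun _ => 1) →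
      (e = 1 ∨ e = -1) → φ = φ' → e' = -e →
      (e : ℂ) * (φ : G → ℂ) 1 = A → (e' : ℂ) * (φ' : G → ℂ) 1 = A' →
      (e : ℂ) * (φ : G → ℂ) t = x → (e' : ℂ) * (φ' : G → ℂ) t = x' →
      (k₁ : ℤ) * (C : ℤ) ^ 2 * (A * (A + 1)) = (Nat.card G : ℤ) * (A - x) ^ 2 →
      (k₂ : ℤ) * (C : ℤ) ^ 2 * (A' * (A' + 1)) = (Nat.card G : ℤ) * (A' - x') ^ 2 → False := by
    intro φ φ' e e' A A' x x' hne he hφ hee hA hA' hx hx' F1 F2
    subst hφ hee
    have h1 : A' = -A := by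
      have : (A' : ℂ) = ((-A : ℤ) : ℂ) := by push_cast at hA' ⊢; linear_combination -hA' - hA
      exact_mod_cast this
    have h2 : x' = -x := by
      have : (x' : ℂ) = ((-x : ℤ) : ℂ) := by push_cast at hx' ⊢; linear_combination -hx' - hx
      exact_mod_cast this
    subst h1 h2
    exact arith hC0 (hdeg hne he hA) hpos' hkk F1 F2
  have S1 : (k₁ : ℤ) * (C : ℤ) ^ 2 * ((-1 - α₁) * ((-1 - α₁) + 1))
      = (Nat.card G : ℤ) * ((-1 - α₁) - (-1 - a₁)) ^ 2 := by linear_combination E1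
  have S2 : (k₂ : ℤ) * (C : ℤ) ^ 2 * ((-1 - α₂) * ((-1 - α₂) + 1))
      = (Nat.card G : ℤ) * ((-1 - α₂) - (-1 - a₂)) ^ 2 := by linear_combination E2
  have hα₁i : (e₁' : ℂ) * (ψ₁ : G → ℂ) 1 = ((-1 - α₁ : ℤ) : ℂ) := by rw [hα₁']; push_cast; rfl
  have ha₁i : (e₁' : ℂ) * (ψ₁ : G → ℂ) t = ((-1 - a₁ : ℤ) : ℂ) := by rw [ha₁']; push_cast; rfl
  have hα₂i : (e₂' : ℂ) * (ψ₂ : G → ℂ) 1 = ((-1 - α₂ : ℤ) : ℂ) := by rw [hα₂']; push_cast; rfl
  have ha₂i : (e₂' : ℂ) * (ψ₂ : G → ℂ) t = ((-1 - a₂ : ℤ) : ℂ) := by rw [ha₂']; push_cast; rfl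
  by_cases h11 : χ₁ = χ₂ ∧ e₂ = -e₁
  · exact fin _ _ _ _ _ _ _ _ hχ₁ he₁ h11.1 h11.2 hα₁ hα₂ ha₁ ha₂ E1 E2
  by_cases h12 : χ₁ = ψ₂ ∧ e₂' = -e₁
  · exact fin _ _ _ _ _ _ _ _ hχ₁ he₁ h12.1 h12.2 hα₁ hα₂i ha₁ ha₂i E1 S2
  by_cases h21 : ψ₁ = χ₂ ∧ e₂ = -e₁'
  · exact fin _ _ _ _ _ _ _ _ hψ₁ he₁' h21.1 h21.2 hα₁i hα₂ ha₁i ha₂ S1 E2
  by_cases h22 : ψ₁ = ψ₂ ∧ e₂' = -e₁'
  · exact fin _ _ _ _ _ _ _ _ hψ₁ he₁' h22.1 h22.2 hα₁i hα₂i ha₁i ha₂i S1 S2
  have horth' : (1 : ℤ) + e₂ * ((if χ₁ = χ₂ then e₁ else 0) + (if ψ₁ = χ₂ then e₁' else 0))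
      + e₂' * ((if χ₁ = ψ₂ then e₁ else 0) + (if ψ₁ = ψ₂ then e₁' else 0)) = 0 := by
    have : (((1 : ℤ) + e₂ * ((if χ₁ = χ₂ then e₁ else 0) + (if ψ₁ = χ₂ then e₁' else 0))
      + e₂' * ((if χ₁ = ψ₂ then e₁ else 0) + (if ψ₁ = ψ₂ then e₁' else 0)) : ℤ) : ℂ)
        = ((0 : ℤ) : ℂ) := by
      push_cast
      linear_combination horth
    exact_mod_cast this
  have key : ∀ (φ φ' : IrrCharacter G) (e e' : ℤ), (e = 1 ∨ e = -1) → (e' = 1 ∨ e' = -1) →
      ¬(φ = φ' ∧ e' = -e) → 0 ≤ e' * (if φ = φ' then e else 0) := by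
    intro φ φ' e e' he he' hn
    split_ifs with h
    · have hee : e' ≠ -e := fun hh => hn ⟨h, hh⟩
      rcases he with rfl | rfl <;> rcases he' with rfl | rfl <;> omega
    · simp
  linarith [key χ₁ χ₂ e₁ e₂ he₁ he₂ h11, key χ₁ ψ₂ e₁ e₂' he₁ he₂' h12,
    key ψ₁ χ₂ e₁' e₂ he₁' he₂ h21, key ψ₁ ψ₂ e₁' e₂' he₁' he₂' h22, mul_add e₂
      (if χ₁ = χ₂ then e₁ else 0) (if ψ₁ = χ₂ then e₁' else 0), mul_add e₂'
      (if χ₁ = ψ₂ then e₁ else 0) (if ψ₁ = ψ₂ then e₁' else 0)]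

end Cfsg.Agent.Lib.CyclicOddSylow16.Theta

namespace Cfsg.Agent.Lib.CyclicOddSylow16

universe u

/-- The norm three expansion. -/
theorem thetaExpand : ThetaExpandStmt.{u} := Theta.expand

/-- Two systems. -/
theorem twoFalse : TwoFalseStmt.{u} := Theta.two thetaExpand

end Cfsg.Agent.Lib.CyclicOddSylow16
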