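import Cfsg.Agent.Lib.CyclicOddSylow16.Spec
import Cfsg.Agent.Lib.BrauerSuzukiQ.ZStarFinal
import Cfsg.Agent.Lib.Signalizer.LayerBasic
import Cfsg.Agent.S0204
import Cfsg.Agent.S1238
import Cfsg.Agent.S1248
import Mathlib

/-!
# The Sylow 2-subgroup of a simple group with cyclic odd Sylow subgroups
-/

set_option autoImplicit false

namespace Cfsg.Agent.Lib.CyclicOddSylow16.Types

open Subgroup

universe u

variable {G : Type u} [Group G] [Finite G]

/-- In a cyclic group there is at most one involution. -/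
theorem involution_unique {H : Type*} [Group H] [Finite H] {C : Subgroup H} (hC : IsCyclic C)
    {a b : H} (ha : a ∈ C) (hb : b ∈ C) (ha2 : orderOf a = 2) (hb2 : orderOf b = 2) : a = b := by
  classical
  cases nonempty_fintype H
  have h := IsCyclic.card_orderOf_eq_totient (α := C) (d := 2)
    (by rw [← Nat.card_eq_fintype_card, ← ha2, ← Subgroup.orderOf_mk a ha]; exact orderOf_dvd_natCard _)
  rw [Nat.totient_two, Finset.card_eq_one] at h
  obtain ⟨c, hc⟩ := h
  have h1 : (⟨a, ha⟩ : C) ∈ Finset.univ.filter (fun x : C => orderOf x = 2) := by simp [ha2]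
  have h2 : (⟨b, hb⟩ : C) ∈ Finset.univ.filter (fun x : C => orderOf x = 2) := by simp [hb2]
  rw [hc, Finset.mem_singleton] at h1 h2
  exact congrArg Subtype.val (h1.trans h2.symm)

theorem normal_of_index {H : Type*} [Group H] {C : Subgroup H} (h : C.index ∣ 2) : C.Normal := by
  rcases (Nat.dvd_prime Nat.prime_two).1 h with h | h
  · rw [Subgroup.index_eq_one.1 h]; infer_instance
  · exact Subgroup.normal_of_index_eq_two h

theorem sq_mem {H : Type*} [Group H] {C : Subgroup H} (h : C.index ∣ 2) (x : H) : x * x ∈ C := by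
  rcases (Nat.dvd_prime Nat.prime_two).1 h with h | h
  · rw [Subgroup.index_eq_one.1 h]; trivial
  · exact Subgroup.mul_self_mem_of_index_two h x

/-- The 2-rank is at most two. -/
theorem rank_le (hG : Hyp G) : Cfsg.PRankLE 2 2 G := by
  intro A _ hA
  haveI : Fact (Nat.Prime 2) := ⟨Nat.prime_two⟩
  have hp : IsPGroup 2 A := fun a => ⟨1, by simpa using Subtype.ext (hA a a.2)⟩
  obtain ⟨Q, hQ⟩ := hp.exists_le_sylow
  obtain ⟨C, hC, hi⟩ := hG.2 Q
  haveI := normal_of_index hi
  set B := A.subgroupOf (Q : Subgroup G) with hB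
  rw [← Nat.card_congr (Subgroup.subgroupOfEquivOfLe hQ).toEquiv, ← hB]
  have h1 : Nat.card (C ⊓ B : Subgroup (Q : Subgroup G)) ≤ 2 := by
    haveI : IsCyclic (C ⊓ B : Subgroup (Q : Subgroup G)) :=
      isCyclic_of_injective (Subgroup.inclusion inf_le_left) (Subgroup.inclusion_injective _)
    rw [← IsCyclic.exponent_eq_card]
    refine Nat.le_of_dvd two_pos (Monoid.exponent_dvd_of_forall_pow_eq_one fun x => ?_)
    exact Subtype.ext (Subtype.ext (hA _ (Subgroup.mem_subgroupOf.1 x.2.2)))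
  have h2 : C.relIndex B ∣ 2 := (Subgroup.relIndex_dvd_index_of_normal C B).trans hi
  have h3 : Nat.card B = Nat.card (C ⊓ B : Subgroup (Q : Subgroup G)) * C.relIndex B := by
    rw [← Subgroup.inf_relIndex_right, ← Subgroup.relIndex_bot_left, ← Subgroup.relIndex_bot_left,
      Subgroup.relIndex_mul_relIndex _ _ _ bot_le inf_le_right]
  rw [h3]
  calc _ ≤ 2 * 2 := Nat.mul_le_mul h1 (Nat.le_of_dvd two_pos h2)
    _ = 2 ^ 2 := by norm_num

theorem oddCore_eq_bot (hG : Amb G) (hev : ∃ z : G, orderOf z = 2) : Cfsg.oddCore G = ⊥ := by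
  haveI := hG.simple
  have hn : (Cfsg.oddCore G).Normal := by
    unfold Cfsg.oddCore; infer_instance
  refine hn.eq_bot_or_eq_top.resolve_right fun h => ?_
  have hodd := PLayerBasic.oddCore_odd (G := G)
  rw [h, Subgroup.card_top] at hodd
  obtain ⟨z, hz⟩ := hev
  exact Nat.not_even_iff_odd.2 hodd (even_iff_two_dvd.2 (hz ▸ orderOf_dvd_natCard z))

theorem not_isolated (hG : Amb G) (z : G) : ¬ Cfsg.IsIsolatedInvolution z := fun hz => by
  haveI := hG.simple
  have h : z ∈ center G := by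
    refine Subgroup.mem_center_iff.2 fun g => ?_
    have h1 := BrauerSuzukiQ.zstar hz g
    rw [oddCore_eq_bot hG ⟨z, hz.1⟩, Subgroup.mem_bot, mul_inv_eq_one, mul_inv_eq_iff_eq_mul] at h1
    exact h1.symm
  have hc : center G = ⊥ := by
    refine (inferInstance : (center G).Normal).eq_bot_or_eq_top.resolve_right fun hc => ?_
    exact hG.nonab ⟨⟨fun a b => (Subgroup.mem_center_iff.1 (hc ▸ mem_top b) a)⟩⟩
  rw [hc, Subgroup.mem_bot] at h
  have := hz.1
  rw [h, orderOf_one] at this
  omega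

theorem no_index_two (hG : Amb G) (H : Subgroup G) : H.index ≠ 2 := fun h => by
  haveI := hG.simple
  rcases (Subgroup.normal_of_index_eq_two h).eq_bot_or_eq_top with e | e
  · rw [e, Subgroup.index_bot] at h
    haveI : Fact (Nat.Prime 2) := ⟨Nat.prime_two⟩
    haveI := isCyclic_of_prime_card h
    exact hG.nonab (IsCyclic.commutative)
  · rw [e, Subgroup.index_top] at h
    omega

theorem rank_not_le (hG : Amb G) : ¬ Cfsg.PRankLE 2 1 G := fun h => by
  haveI := hG.simple
  obtain ⟨E, hE⟩ := S0204.result (G := G) fun hc => hG.nonab (@IsCyclic.commutative G _ hc)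
  have := h E IsKleinFour.isMulCommutative fun a ha => by
    have := Monoid.pow_exponent_eq_one (⟨a, ha⟩ : E)
    rw [hE.exponent_two] at this
    exact congrArg Subtype.val this
  rw [hE.card_four] at this
  omega

/-- Two commuting elements with trivially meeting cyclic groups cannot both have nontrivial squares. -/
theorem false_of_pair {S : Type*} [Group S] [Finite S] {C : Subgroup S} (hC : IsCyclic C)
    (hi : C.index ∣ 2) {x y : S} {n m : ℕ} (hn : 2 ≤ n) (hm : 2 ≤ m) (hx : orderOf x = 2 ^ n)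
    (hy : orderOf y = 2 ^ m) (hxy : zpowers x ⊓ zpowers y = ⊥) : False := by
  have key : ∀ (z : S) (k : ℕ), 2 ≤ k → orderOf z = 2 ^ k →
      z ^ 2 ^ (k - 1) ∈ C ∧ orderOf (z ^ 2 ^ (k - 1)) = 2 := by
    intro z k hk hz
    refine ⟨?_, ?_⟩
    · rw [show 2 ^ (k - 1) = 2 * 2 ^ (k - 2) by rw [← pow_succ']; congr 1; omega, pow_mul, pow_two]
      exact pow_mem (sq_mem hi z) _
    · rw [orderOf_pow' _ (by positivity), hz,
        Nat.gcd_eq_right (pow_dvd_pow 2 (by omega : k - 1 ≤ k)), Nat.pow_div (by omega) two_pos,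
        show k - (k - 1) = 1 by omega, pow_one]
  obtain ⟨hxC, hx2⟩ := key x n hn hx
  obtain ⟨hyC, hy2⟩ := key y m hm hy
  have e := involution_unique hC hxC hyC hx2 hy2
  have : x ^ 2 ^ (n - 1) ∈ zpowers x ⊓ zpowers y :=
    ⟨pow_mem (mem_zpowers x) _, e ▸ pow_mem (mem_zpowers y) _⟩
  rw [hxy, Subgroup.mem_bot] at this
  rw [this, orderOf_one] at hx2
  omega

/-- The Sylow 2-subgroup is dihedral or quasi-dihedral. -/
theorem dihOrSD (hG : Amb G) (S : Sylow 2 G) : DihOrSD S := by
  haveI := hG.simple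
  haveI : Fact (Nat.Prime 2) := ⟨Nat.prime_two⟩
  let F := GaloisField 2 4
  letI : Fintype F := Fintype.ofFinite F
  have hF : Fintype.card F = 16 := by
    rw [← Nat.card_eq_fintype_card, GaloisField.card 2 4 (by omega)]
    norm_num
  obtain ⟨P⟩ : Nonempty (Sylow 2 (Cfsg.PSU 3 F 4)) := inferInstance
  obtain ⟨C, hC, hi⟩ := hG.hyp.2 S
  rcases S1238.result (rank_le hG.hyp) (rank_not_le hG) (no_index_two hG) (not_isolated hG) S hF P
    with h | h | h | h | h
  · exact Or.inl h
  · exact Or.inr h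
  · exfalso
    obtain ⟨n, hn, -, x, y, z, hx, -, hxy, -, hz⟩ := h
    refine false_of_pair hC hi hn hn hx ?_ hxy
    rw [← hz, ← MulAut.conj_apply, MulEquiv.orderOf_eq, hx]
  · exfalso
    obtain ⟨n, hn, ⟨e⟩⟩ := h
    have hone : addOrderOf (1 : ZMod (2 ^ n)) = 2 ^ n := ZMod.addOrderOf_one _
    set x := e.symm (Multiplicative.ofAdd ((1 : ZMod (2 ^ n)), (0 : ZMod (2 ^ n)))) with hx
    set y := e.symm (Multiplicative.ofAdd ((0 : ZMod (2 ^ n)), (1 : ZMod (2 ^ n)))) with hy
    refine false_of_pair hC hi hn hn (x := x) (y := y) ?_ ?_ ?_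
    · rw [hx, MulEquiv.orderOf_eq, orderOf_ofAdd_eq_addOrderOf, Prod.addOrderOf, hone]
      simp
    · rw [hy, MulEquiv.orderOf_eq, orderOf_ofAdd_eq_addOrderOf, Prod.addOrderOf, hone]
      simp
    · rw [eq_bot_iff]
      rintro w ⟨⟨i, hi'⟩, ⟨j, hj⟩⟩
      rw [Subgroup.mem_bot]
      apply e.injective
      have h1 : e w = Multiplicative.ofAdd ((i : ZMod (2 ^ n)), (0 : ZMod (2 ^ n))) := by
        rw [← hi', hx, map_zpow, e.apply_symm_apply, ← ofAdd_zsmul]
        simp
      have h2 : e w = Multiplicative.ofAdd ((0 : ZMod (2 ^ n)), (j : ZMod (2 ^ n))) := by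
        rw [← hj, hy, map_zpow, e.apply_symm_apply, ← ofAdd_zsmul]
        simp
      have h3 := congrArg Multiplicative.toAdd (h1.symm.trans h2)
      simp only [toAdd_ofAdd, Prod.mk.injEq] at h3
      rw [h1, map_one, h3.1]
      rfl
  · exfalso
    obtain ⟨e⟩ := h
    obtain ⟨hcard, hZ, -, -, -, hsq⟩ := S1248.result hF P
    have hcS : Nat.card (S : Subgroup G) = 64 := (Nat.card_congr e.toEquiv).trans hcard
    have hcC : 32 ≤ Nat.card C := by
      have h1 := C.card_mul_index
      have h2 := Nat.le_of_dvd two_pos hi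
      rw [hcS] at h1
      nlinarith
    obtain ⟨g, hg⟩ := hC.exists_generator
    have hg32 : 32 ≤ orderOf g := by
      rw [orderOf_eq_card_of_forall_mem_zpowers hg]; exact hcC
    have hm : e (g : (S : Subgroup G)) ^ 2 ∈ center (P : Subgroup (Cfsg.PSU 3 F 4)) := by
      rw [← QuotientGroup.eq_one_iff, QuotientGroup.mk_pow]
      exact hsq _
    have h4 := Monoid.pow_exponent_eq_one (⟨_, hm⟩ : center (P : Subgroup (Cfsg.PSU 3 F 4)))
    rw [hZ.exponent_two] at h4
    have h5 : e (g : (S : Subgroup G)) ^ (2 * 2) = 1 := by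
      rw [pow_mul]; exact congrArg Subtype.val h4
    rw [← map_pow, map_eq_one_iff _ e.injective] at h5
    have h6 : g ^ (2 * 2) = 1 := Subtype.ext (by rw [SubmonoidClass.coe_pow]; exact h5)
    have := Nat.le_of_dvd (by norm_num) (orderOf_dvd_of_pow_eq_one h6)
    omega

end Cfsg.Agent.Lib.CyclicOddSylow16.Types
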